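import Groth.Agent.CurveRR.Zero
import Groth.Agent.CohFinite.Tensor
import Groth.Agent.S2297

/-!
Tensoring with a locally free module is exact.
-/

set_option autoImplicit false
set_option backward.isDefEq.respectTransparency false
set_option linter.style.haveILetI false

universe u

open CategoryTheory CategoryTheory.Limits AlgebraicGeometry TopologicalSpace Opposite
open Groth.Agent.CohFinite
open Groth.Agent.QC (res res_res res_smul app_res)
open TMul (IsFrame tm)

noncomputable section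

namespace Groth.Agent.CurveRR

variable {X : Scheme.{u}} {E : X.Modules}

/-- Frames near every point. -/
def HasFrames (E : X.Modules) : Prop :=
  ∀ {U : X.Opens} {x : X}, x ∈ U → ∃ (V : X.Opens) (_ : V ≤ U) (n : ℕ) (e : Fin n → Γ(E, V)), x ∈ V ∧ IsFrame e

theorem hasFrames_of_rank {n : ℕ} (hE : FlatMod.IsFinLocFreeOfRank n E) : HasFrames E := fun {U x} hx => by
  obtain ⟨W, e, hxW, he⟩ := exists_frame hE x
  exact ⟨U ⊓ W, inf_le_left, n, fun i => res E inf_le_right (e i), ⟨hx, hxW⟩, fun y hy => by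
    simpa only [WeakAssLib.mgerm_res] using he y hy.2⟩

/-- Sections of `M ⊗ E` over a frame of `E`. -/
theorem bijective_tmr (M : X.Modules) {n : ℕ} {U : X.Opens} {e : Fin n → Γ(E, U)} (he : IsFrame e)
    (V : X.Opens) (hV : V ≤ U) :
    Function.Bijective fun m : Fin n → Γ(M, V) => ∑ i, tm (m i) (res E hV (e i)) := by
  have h : (fun m : Fin n → Γ(M, V) => ∑ i, tm (m i) (res E hV (e i))) =
      (TMul.commIso E M).hom.app V ∘ fun m : Fin n → Γ(M, V) => ∑ i, tm (res E hV (e i)) (m i) := by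
    funext m
    simp only [Function.comp_apply, map_sum]
    exact Finset.sum_congr rfl fun i _ => (TMul.commHom_tm _ _).symm
  rw [h]
  exact (ConcreteCategory.bijective_of_isIso _).comp (he.tm_bijective V hV)

theorem tmap_sum_tm {M N : X.Modules} (φ : M ⟶ N) {n : ℕ} {V : X.Opens} (m : Fin n → Γ(M, V)) (e : Fin n → Γ(E, V)) :
    (tmap φ E).app V (∑ i, tm (m i) (e i)) = ∑ i, tm (φ.app V (m i)) (e i) := by
  rw [map_sum]
  exact Finset.sum_congr rfl fun i _ => tmap_tm φ E _ _

/-- `- ⊗ E` is exact. -/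
theorem shortExact_tmapR (hE : HasFrames E) {S : ShortComplex X.Modules} (hS : S.ShortExact) :
    (ShortComplex.mk (tmap S.f E) (tmap S.g E)
      (by rw [← tmap_comp, S.zero, tmap_zero])).ShortExact := by
  have := hS.mono_f
  have := hS.epi_g
  have hf : ∀ U, Function.Injective (S.f.app U) := fun U => Groth.Agent.QC.app_injective_of_mono S.f U
  have hinj : ∀ U, Function.Injective ((tmap S.f E).app U) := fun U => by
    rw [injective_iff_map_eq_zero]
    intro s hs
    refine Groth.Agent.QC.section_eq_of_locally fun x hx => ?_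
    obtain ⟨V, hV, n, e, hxV, he⟩ := hE hx
    obtain ⟨m, hm⟩ := (bijective_tmr S.X₁ he V le_rfl).2 (res _ hV s)
    refine ⟨V, hV, hxV, ?_⟩
    have h1 : (tmap S.f E).app V (res _ hV s) = 0 := by rw [← app_res, hs, map_zero]
    rw [← hm, tmap_sum_tm] at h1
    have h2 : (fun i => S.f.app V (m i)) = (0 : Fin n → Γ(S.X₂, V)) := (bijective_tmr S.X₂ he V le_rfl).1
      (h1.trans (by simp [TMul.zero_tm]))
    have h3 : m = 0 := funext fun i => hf V ((congrFun h2 i).trans (map_zero _).symm)
    rw [map_zero, ← hm, h3]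
    simp [TMul.zero_tm]
  have hm : Mono (tmap S.f E) := (Groth.Agent.QC.mono_iff_app_injective _).2 hinj
  have he' : Epi (tmap S.g E) := InvGen.epi_of_locally _ fun U t x hx => by
    obtain ⟨V, hV, n, e, hxV, he⟩ := hE hx
    obtain ⟨q, hq⟩ := (bijective_tmr S.X₃ he V le_rfl).2 (res _ hV t)
    have hloc : ∀ i, ∃ (W : X.Opens) (hW : W ≤ V) (p : Γ(S.X₂, W)), x ∈ W ∧ S.g.app W p = res S.X₃ hW (q i) :=
      fun i => let ⟨W, h, hxW, p, hp⟩ := TMul.exists_app_eq_of_epi S.g (q i) hxV; ⟨W, h, p, hxW, hp⟩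
    choose W hW p hxW hp using hloc
    let W' : X.Opens := Finset.univ.inf W ⊓ V
    have hxW' : x ∈ W' := ⟨by
      have : x ∈ ((Finset.univ.inf W : X.Opens) : Set X) := by
        rw [Opens.coe_finset_inf, Finset.inf_set_eq_iInter, Set.mem_iInter₂]
        exact fun i _ => hxW i
      exact this, hxV⟩
    have hW'i : ∀ i, W' ≤ W i := fun i => inf_le_left.trans (Finset.inf_le (Finset.mem_univ i))
    have hW'V : W' ≤ V := inf_le_right
    refine ⟨W', hW'V.trans hV, hxW', ∑ i, tm (res S.X₂ (hW'i i) (p i)) (res E hW'V (e i)), ?_⟩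
    rw [tmap_sum_tm, ← res_res _ hW'V hV, ← hq, map_sum]
    refine Finset.sum_congr rfl fun i _ => ?_
    rw [TMul.res_tm, ← app_res, hp, res_res, res_res]
  let k := kernel.lift (tmap S.g E) (tmap S.f E) (by rw [← tmap_comp, S.zero, tmap_zero])
  have hk : IsIso k := by
    have e1 : ∀ V a, (kernel.ι (tmap S.g E)).app V (k.app V a) = (tmap S.f E).app V a := fun V a =>
      ConcreteCategory.congr_hom (congrArg (fun ψ => Scheme.Modules.Hom.app ψ V)
        (kernel.lift_ι (tmap S.g E) (tmap S.f E) (by rw [← tmap_comp, S.zero, tmap_zero]))) a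
    refine GrT.isIso_of_locally k (fun U a b h => hinj U (by rw [← e1, ← e1, h]))
      fun U t x hx => ?_
    obtain ⟨V, hV, n, e, hxV, he⟩ := hE hx
    obtain ⟨m, hm'⟩ := (bijective_tmr S.X₂ he V le_rfl).2
      ((kernel.ι (tmap S.g E)).app V (res _ hV t))
    have hz : (tmap S.g E).app V ((kernel.ι (tmap S.g E)).app V (res _ hV t)) = 0 :=
      ConcreteCategory.congr_hom (congrArg (fun ψ => Scheme.Modules.Hom.app ψ V) (kernel.condition (tmap S.g E))) _
    rw [← hm', tmap_sum_tm] at hz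
    have hg0 : (fun i => S.g.app V (m i)) = (0 : Fin n → Γ(S.X₃, V)) := (bijective_tmr S.X₃ he V le_rfl).1
      (hz.trans (by simp [TMul.zero_tm]))
    choose a ha using fun i => Groth.Agent.SiteCoh.sections_exact (shortExact_toAb hS) V (m i) (congrFun hg0 i)
    have ha : ∀ i, S.f.app V (a i) = m i := ha
    refine ⟨V, hV, hxV, ∑ i, tm (a i) (res E le_rfl (e i)), ?_⟩
    refine Groth.Agent.QC.app_injective_of_mono (kernel.ι (tmap S.g E)) V ?_
    rw [e1, tmap_sum_tm]
    simp only [ha]
    exact hm'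
  exact { exact := ShortComplex.exact_of_f_is_kernel _ (IsLimit.ofIsoLimit (kernelIsKernel (tmap S.g E))
            (Fork.ext (asIso k).symm (by simp [k])))
          mono_f := hm, epi_g := he' }

theorem isCoh_tensor' {F G : X.Modules} (hF : Coh.IsCoh F) (hG : Coh.IsCoh G) :
    Coh.IsCoh (CohB1.tensorMod F G) := by
  haveI : Coh.IsQCoh F := hF.1
  haveI : Coh.IsQCoh G := hG.1
  exact ⟨(Groth.Agent.S2297.result F G).1, (Groth.Agent.S2297.result F G).2 hF.2 hG.2⟩

theorem isCoh_of_rank {n : ℕ} (hE : FlatMod.IsFinLocFreeOfRank n E) : Coh.IsCoh E :=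
  have h : FlatMod.IsFinLocFree E := fun x => let ⟨U, h1, h2⟩ := hE x; ⟨U, n, h1, h2⟩
  ⟨LocFree.isQCoh_of_isFinLocFree h, LocFree.isFT_of_isFinLocFree h⟩

end Groth.Agent.CurveRR
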