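import Groth.Agent.CurveRR.Deg
import Groth.Agent.CurveRR.TmapR
import Groth.Agent.Devissage.Apply2
import Groth.Agent.Horrocks.Main
import Groth.Agent.RegDual.Scheme
import Groth.Agent.GrT.GammaIso

/-!
`χ(E ⊗ F) = r deg E + n χ(F)` on an integral proper curve.
-/

set_option autoImplicit false
set_option backward.isDefEq.respectTransparency false
set_option linter.style.haveILetI false

universe u

open CategoryTheory CategoryTheory.Limits AlgebraicGeometry TopologicalSpace Opposite
open Groth.Agent.CohFinite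
open Groth.Agent.QC (res resO res_res res_self res_smul section_eq_of_locally app_res)
open Groth.Agent.WeakAssLib (mgerm stalkHom)

noncomputable section

namespace Groth.Agent.CurveRR

attribute [local instance] Abelian.hasFiniteBiproducts

section Gen

variable {X : Scheme.{u}}

theorem support_push {Z : Scheme.{u}} (i : Z ⟶ X) [IsClosedImmersion i] (H : Z.Modules) :
    CohB1.support ((Scheme.Modules.pushforward i).obj H) ⊆ Set.range i := by
  intro x hx
  by_contra hxI
  refine ((Groth.Agent.QC.notMem_support_iff x).mpr fun U hxU s =>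
    ⟨U ⊓ ⟨(Set.range i)ᶜ, i.isClosedEmbedding.isClosed_range.isOpen_compl⟩, inf_le_left, ⟨hxU, hxI⟩, ?_⟩) hx
  refine section_eq_of_locally (M := H) fun z hz => ?_
  exact absurd (⟨z, rfl⟩ : i z ∈ Set.range i) hz.2

theorem subsingleton_stalk {G : X.Modules} {x : X} (h : x ∉ CohB1.support G) : Subsingleton (G.presheaf.stalk x) :=
  ⟨fun a b => by
    suffices ∀ a : G.presheaf.stalk x, a = 0 from (this a).trans (this b).symm
    intro a
    obtain ⟨U, hxU, s, rfl⟩ := G.presheaf.exists_germ_eq a
    obtain ⟨W, hW, hxW, hW0⟩ := (Groth.Agent.QC.notMem_support_iff x).mp h U hxU s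
    rw [← TopCat.Presheaf.germ_res_apply G.presheaf (homOfLE hW) x hxW s]
    exact (congrArg _ hW0).trans (map_zero _)⟩

theorem finrank_stalk_inv [IsIntegral X] {L : X.Modules} (hL : PicF.IsInvertible L) :
    Module.finrank (X.presheaf.stalk (genericPoint X)) (L.presheaf.stalk (genericPoint X)) = 1 := by
  obtain ⟨D, g, hηD, hg⟩ := TMul.exists_isGen hL (genericPoint X)
  letI : Field (X.presheaf.stalk (genericPoint X)) := inferInstanceAs (Field X.functionField)
  rw [← (LinearEquiv.ofBijective (LinearMap.toSpanSingleton (X.presheaf.stalk (genericPoint X))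
    (L.presheaf.stalk (genericPoint X)) (mgerm L hηD g))
    ⟨fun a b h => ZeroSch.eq_of_germ_smul hg hηD h, fun v => let ⟨r, hr⟩ := ZeroSch.exists_smul_germ hg hηD v
      ⟨r, hr.symm⟩⟩).finrank_eq, Module.finrank_self]

theorem nontrivial_stalk_inv {L : X.Modules} (hL : PicF.IsInvertible L) (x : X) :
    Nontrivial (L.presheaf.stalk x) := by
  obtain ⟨D, g, hxD, hg⟩ := TMul.exists_isGen hL x
  refine ⟨⟨(1 : X.presheaf.stalk x) • mgerm L hxD g, (0 : X.presheaf.stalk x) • mgerm L hxD g, fun h => ?_⟩⟩
  exact one_ne_zero (ZeroSch.eq_of_germ_smul hg hxD h)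

theorem finrank_stalk_add [IsIntegral X] [IsLocallyNoetherian X] {S : ShortComplex X.Modules} (hS : S.ShortExact)
    (h₂ : Coh.IsCoh S.X₂) :
    Module.finrank (X.presheaf.stalk (genericPoint X)) (S.X₂.presheaf.stalk (genericPoint X)) =
      Module.finrank (X.presheaf.stalk (genericPoint X)) (S.X₁.presheaf.stalk (genericPoint X)) +
        Module.finrank (X.presheaf.stalk (genericPoint X)) (S.X₃.presheaf.stalk (genericPoint X)) := by
  letI : Field (X.presheaf.stalk (genericPoint X)) := inferInstanceAs (Field X.functionField)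
  haveI := RegDual.finite_stalk h₂ (genericPoint X)
  have hT := hS.map_of_exact (DerSch.stalkFunctor X (genericPoint X))
  let f : S.X₁.presheaf.stalk (genericPoint X) →ₗ[X.presheaf.stalk (genericPoint X)] S.X₂.presheaf.stalk (genericPoint X) :=
    ((DerSch.stalkFunctor X (genericPoint X)).map S.f).hom
  let g : S.X₂.presheaf.stalk (genericPoint X) →ₗ[X.presheaf.stalk (genericPoint X)] S.X₃.presheaf.stalk (genericPoint X) :=
    ((DerSch.stalkFunctor X (genericPoint X)).map S.g).hom
  have hr : LinearMap.range f = LinearMap.ker g := hT.exact.moduleCat_range_eq_ker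
  have hinj : Function.Injective f := (ModuleCat.mono_iff_injective _).1 hT.mono_f
  have hsurj : Function.Surjective g := (ModuleCat.epi_iff_surjective _).1 hT.epi_g
  rw [← g.finrank_range_add_finrank_ker, ← hr, LinearMap.range_eq_top.mpr hsurj, finrank_top,
    LinearMap.finrank_range_of_inj hinj, add_comm]

theorem unitToPush_isIso {Z : Scheme.{u}} (i : Z ⟶ X) [IsIso i] : IsIso (ClSub.unitToPush i) :=
  GrT.isIso_of_locally _ (fun U a b h => (ConcreteCategory.bijective_of_isIso (i.app U)).1
      (((Groth.Agent.QC.unitToPush_app i U a).symm.trans h).trans (Groth.Agent.QC.unitToPush_app i U b)))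
    fun U t x hx => ⟨U, le_rfl, hx, let ⟨a, ha⟩ := (ConcreteCategory.bijective_of_isIso (i.app U)).2 t
      ⟨a, ((Groth.Agent.QC.unitToPush_app i U a).trans ha).trans (res_self _ _ _).symm⟩⟩

end Gen

variable {k : Type u} [Field k] {X : Scheme.{u}} [X.Over (Spec (CommRingCat.of k))]
  [IsProper (X ↘ Spec (CommRingCat.of k))]

/-- The defect of the formula. -/
def Δ (k : Type u) [Field k] {X : Scheme.{u}} [X.Over (Spec (CommRingCat.of k))] [IsIntegral X]
    (n : ℕ) (E F : X.Modules) : ℤ :=
  Curv2.euler k X (CohB1.tensorMod F E) -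
    (Module.finrank (X.presheaf.stalk (genericPoint X)) (F.presheaf.stalk (genericPoint X)) : ℤ) * Curv2.deg k X E n -
      n * Curv2.euler k X F

variable [IsIntegral X] {n : ℕ} {E : X.Modules}

theorem Δ_iso {F G : X.Modules} (e : F ≅ G) : Δ k n E F = Δ k n E G := by
  letI : Field (X.presheaf.stalk (genericPoint X)) := inferInstanceAs (Field X.functionField)
  rw [Δ, Δ, euler_eq_of_iso (PicGrp.tensorModIso e (Iso.refl E)), euler_eq_of_iso e,
    show Module.finrank (X.presheaf.stalk (genericPoint X)) (F.presheaf.stalk (genericPoint X)) =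
      Module.finrank (X.presheaf.stalk (genericPoint X)) (G.presheaf.stalk (genericPoint X)) from
      ((DerSch.stalkFunctor X (genericPoint X)).mapIso e).toLinearEquiv.finrank_eq]

theorem Δ_add (hE : FlatMod.IsFinLocFreeOfRank n E) {S : ShortComplex X.Modules} (hS : S.ShortExact)
    (h₁ : Coh.IsCoh S.X₁) (h₂ : Coh.IsCoh S.X₂) (h₃ : Coh.IsCoh S.X₃) :
    Δ k n E S.X₂ = Δ k n E S.X₁ + Δ k n E S.X₃ := by
  haveI := isNoetherian_of_proper k X
  have hT := shortExact_tmapR (hasFrames_of_rank hE) hS
  have hc := isCoh_of_rank hE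
  have h := euler_add (k := k) hT (isCoh_tensor' h₁ hc) (isCoh_tensor' h₂ hc) (isCoh_tensor' h₃ hc)
  change Curv2.euler k X (CohB1.tensorMod S.X₂ E) =
    Curv2.euler k X (CohB1.tensorMod S.X₁ E) + Curv2.euler k X (CohB1.tensorMod S.X₃ E) at h
  rw [Δ, Δ, Δ, h, euler_add (k := k) hS h₁ h₂ h₃, finrank_stalk_add hS h₂]
  push_cast
  ring

theorem isCoh_power (F : X.Modules) (hF : Coh.IsCoh F) (d : ℕ) : Coh.IsCoh (∐ fun _ : Fin d => F) :=
  isCoh_of_iso (biproduct.isoCoproduct fun _ : Fin d => F) (Devissage.isCoh_biproduct _ fun _ => hF)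

theorem Δ_power (hE : FlatMod.IsFinLocFreeOfRank n E) (F : X.Modules) (hF : Coh.IsCoh F) :
    ∀ d : ℕ, Δ k n E (∐ fun _ : Fin d => F) = d * Δ k n E F := by
  intro d
  induction d with
  | zero =>
    have hz : IsZero (∐ fun _ : Fin 0 => F) :=
      (IsZero.iff_id_eq_zero _).mpr (Sigma.hom_ext _ _ fun i => i.elim0)
    let Z := ∐ fun _ : Fin 0 => F
    have hS : (ShortComplex.mk (𝟙 Z) (0 : Z ⟶ Z) (by simp)).ShortExact :=
      { exact := ShortComplex.exact_of_isZero_X₂ _ hz, mono_f := inferInstance
        epi_g := ⟨fun _ _ _ => hz.eq_of_src _ _⟩ }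
    have := Δ_add (k := k) hE hS (isCoh_power F hF 0) (isCoh_power F hF 0) (isCoh_power F hF 0)
    change Δ k n E Z = Δ k n E Z + Δ k n E Z at this
    rw [Nat.cast_zero, zero_mul]
    show Δ k n E Z = 0
    linarith
  | succ d ih =>
    obtain ⟨e⟩ := Horrocks.nonempty_consIso F (fun _ : Fin d => F) (fun _ : Fin (d + 1) => F) rfl fun _ => rfl
    have := Δ_add (k := k) hE (ShortComplex.Splitting.ofHasBinaryBiproduct F (∐ fun _ : Fin d => F)).shortExact hF
      (isCoh_of_iso e.symm (isCoh_power F hF (d + 1))) (isCoh_power F hF d)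
    rw [← Δ_iso e]
    change Δ k n E (F ⊞ ∐ fun _ : Fin d => F) = _ at this
    rw [this, ih]
    push_cast
    ring

/-- The formula. -/
theorem Δ_eq_zero (hdim : topologicalKrullDim X ≤ 1) (hE : FlatMod.IsFinLocFreeOfRank n E)
    (M : X.Modules) (hM : Coh.IsCoh M) : Δ k n E M = 0 := by
  haveI := isNoetherian_of_proper k X
  refine Devissage.roots (fun F => Δ k n E F = 0) (fun F G ⟨e⟩ h => (Δ_iso e).symm.trans h)
    (fun S hS h₁ h₂ h₃ => ?_) (fun F d hd hF h => ?_) (fun Z i _ _ => ?_) M hM
  · have := Δ_add (k := k) hE hS h₁ h₂ h₃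
    exact ⟨fun a b => by omega, fun a b => by omega⟩
  · rw [Δ_power hE F hF d] at h
    exact (mul_eq_zero.mp h).resolve_left (by omega)
  haveI : IsLocallyNoetherian Z := LocallyOfFiniteType.isLocallyNoetherian i
  refine ⟨Coh.structureModule Z, RefStalk.isCoh_structureModule,
    nontrivial_stalk_inv TMul.isInvertible_structureModule _, ?_⟩
  by_cases hη : genericPoint X ∈ Set.range i
  · haveI : Surjective i := ⟨fun y => by
      have : Set.range i = Set.univ := Set.eq_univ_of_univ_subset (by
        rw [← genericPoint_spec X |>.def]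
        exact closure_minimal (Set.singleton_subset_iff.mpr hη) i.isClosedEmbedding.isClosed_range)
      exact this.ge trivial⟩
    haveI := isIso_of_isClosedImmersion_of_surjective i
    haveI := unitToPush_isIso i
    rw [show Δ k n E ((Scheme.Modules.pushforward i).obj (Coh.structureModule Z)) = Δ k n E (Coh.structureModule X)
      from (Δ_iso (asIso (ClSub.unitToPush i))).symm, Δ, euler_eq_of_iso (TMul.leftUnitIso E),
      finrank_stalk_inv TMul.isInvertible_structureModule, Curv2.deg]
    push_cast
    ring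
  · have hcl : IsClosed (Set.range i) := i.isClosedEmbedding.isClosed_range
    have hd := dim_le_zero_of_closed hdim hcl hη
    have hP : Coh.IsCoh ((Scheme.Modules.pushforward i).obj (Coh.structureModule Z)) := by
      haveI : (Coh.structureModule Z).IsQuasicoherent := Groth.Agent.QC.isQCoh_unit _
      exact ⟨Groth.Agent.QC.isQCoh_pushforward i,
        (Groth.Agent.QC.isCoh_pushforward_of_isFinite (M := Coh.structureModule Z) i RefStalk.isCoh_structureModule.2).2⟩
    haveI : Subsingleton (((Scheme.Modules.pushforward i).obj (Coh.structureModule Z)).presheaf.stalk (genericPoint X)) :=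
      subsingleton_stalk fun h => hη (support_push i _ h)
    rw [Δ, euler_eq_of_iso (TMul.commIso _ E), euler_tensor_zeroDim hP hcl hd (support_push i _) hE,
      Module.finrank_zero_of_subsingleton]
    push_cast
    ring

theorem euler_tensor (hdim : topologicalKrullDim X ≤ 1) (hE : FlatMod.IsFinLocFreeOfRank n E)
    (F : X.Modules) (hF : Coh.IsCoh F) :
    Curv2.euler k X (CohB1.tensorMod E F) =
      (Module.finrank (X.presheaf.stalk (genericPoint X)) (F.presheaf.stalk (genericPoint X)) : ℤ) *
        Curv2.deg k X E n + n * Curv2.euler k X F := by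
  have h := Δ_eq_zero (k := k) hdim hE F hF
  rw [Δ, euler_eq_of_iso (TMul.commIso F E)] at h
  omega

/-- Degrees add. -/
theorem deg_tensor_inv (hdim : topologicalKrullDim X ≤ 1) {L M : X.Modules} (hL : PicF.IsInvertible L)
    (hM : PicF.IsInvertible M) :
    Curv2.deg k X (CohB1.tensorMod L M) 1 = Curv2.deg k X L 1 + Curv2.deg k X M 1 := by
  have h := euler_tensor (k := k) hdim (isFinLocFreeOfRank_one hL) M (isCoh_of_inv hM)
  rw [finrank_stalk_inv hM] at h
  rw [Curv2.deg] at h ⊢
  rw [Curv2.deg, Curv2.deg]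
  push_cast at h ⊢
  omega

theorem deg_tensorPow (hdim : topologicalKrullDim X ≤ 1) {L : X.Modules} (hL : PicF.IsInvertible L) (m : ℕ) :
    Curv2.deg k X (CohB1.tensorPow L m) 1 = m * Curv2.deg k X L 1 := by
  induction m with
  | zero => exact deg_structure.trans (by simp)
  | succ m ih =>
    show Curv2.deg k X (CohB1.tensorMod (CohB1.tensorPow L m) L) 1 = _
    rw [deg_tensor_inv hdim (TMul.isInvertible_tensorPow hL m) hL, ih]
    push_cast
    ring

end Groth.Agent.CurveRR
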