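import Groth.Agent.CurveRR.GlobGen
import Groth.Agent.CurveRR.Tensor

/-!
Closed points of a proper curve over an algebraically closed field.
-/

set_option autoImplicit false
set_option backward.isDefEq.respectTransparency false
set_option linter.style.haveILetI false

universe u

open CategoryTheory CategoryTheory.Limits AlgebraicGeometry TopologicalSpace Opposite
open Groth.Agent.CohFinite
open Groth.Agent.QC (res resO res_res res_self res_smul resO_resO resO_self section_eq_of_locally app_res)
open TMul (IsGen homOf val_homOf tm)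

noncomputable section

namespace Groth.Agent.CurveRR

/-- Global functions of an integral scheme proper over an algebraically closed field. -/
theorem bijective_toGlobal {k : Type u} [Field k] [IsAlgClosed k] {X : Scheme.{u}}
    (f : X ⟶ Spec (CommRingCat.of k)) [IsProper f] [IsIntegral X] : Function.Bijective (Coh.toGlobal f) := by
  let F : CommRingCat.of k ⟶ Γ(X, ⊤) := (Scheme.ΓSpecIso _).inv ≫ f.appTop
  letI : Field Γ(X, ⊤) := (isField_of_universallyClosed k f).toField
  letI : Algebra k Γ(X, ⊤) := F.hom.toAlgebra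
  haveI : Algebra.IsIntegral k Γ(X, ⊤) := ⟨by
    have : F.hom.IsIntegral := by
      apply RingHom.isIntegral_respectsIso.2 (e := (Scheme.ΓSpecIso _).symm.commRingCatIsoToRingEquiv)
      exact isIntegral_appTop_of_universallyClosed f
    exact this⟩
  exact IsAlgClosed.algebraMap_bijective_of_isIntegral (k := k) (K := Γ(X, ⊤))

section Vanish

variable {X : Scheme.{u}} {L : X.Modules}

/-- Sections of `I ⊗ L` generate nowhere on the support of `I`. -/
theorem notMem_genLocus_idealIncl (hL : PicF.IsInvertible L) (I : X.IdealSheafData)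
    (u : Γ(CohB1.tensorMod (ClSub.idealMod I) L, ⊤)) {z : X} (hz : z ∈ (I.support : Set X)) :
    z ∉ CohB1.genLocus L (homOf ((idealIncl I L).app ⊤ u)) := by
  obtain ⟨D, g, hzD, hg⟩ := TMul.exists_isGen hL z
  obtain ⟨W, hW, hzW, hWD⟩ := exists_isAffineOpen_mem_and_subset hzD
  obtain ⟨a, ha⟩ := (TMul.tm_bijective (M := ClSub.idealMod I) (hg.res hWD) W le_rfl).2 (res _ le_top u)
  change tm a (res L le_rfl (res L hWD g)) = _ at ha
  rw [res_self] at ha
  have hc : (idealIncl I L).app W (res _ le_top u) =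
      HSMul.hSMul (α := Γ(X, W)) ((ClSub.idealModι I).app W a) (res L hWD g) := by
    rw [← ha, idealIncl_tm]
  intro h
  have hu := (TMul.mem_genLocus_iff_isUnit _ (hg.res hWD) (c := (ClSub.idealModι I).app W a)
    (by rw [val_homOf, app_res]; exact hc) hzW).mp h
  have hys : z ∈ I.support := hz
  rw [Scheme.IdealSheafData.mem_support_iff_of_mem (U := ⟨W, hW⟩) hzW, Scheme.mem_zeroLocus_iff] at hys
  exact hys _ ((Groth.Agent.QC.mem_range_idealModι_affine I ⟨W, hW⟩ _).mp ⟨a, rfl⟩) ((X.mem_basicOpen _ z hzW).mpr hu)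

end Vanish

variable {k : Type u} [Field k] {X : Scheme.{u}} [X.Over (Spec (CommRingCat.of k))]
  [IsProper (X ↘ Spec (CommRingCat.of k))]

theorem point_dim {P : X} (hP : IsClosed ({P} : Set X)) :
    topologicalKrullDim ((Scheme.IdealSheafData.vanishingIdeal ⟨{P}, hP⟩).support : Set X) ≤ 0 := by
  rw [show ((Scheme.IdealSheafData.vanishingIdeal ⟨{P}, hP⟩).support : Set X) = {P} by simp]
  exact topologicalKrullDim_zero_of_discreteTopology _

/-- A closed point has degree one. -/
theorem h0_quotMod_point [IsAlgClosed k] {P : X} (hP : IsClosed ({P} : Set X)) :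
    h k (ClSub.quotMod (Scheme.IdealSheafData.vanishingIdeal ⟨{P}, hP⟩)) 0 = 1 := by
  haveI := isNoetherian_of_proper k X
  let I := Scheme.IdealSheafData.vanishingIdeal ⟨{P}, hP⟩
  haveI : IsReduced I.subscheme := Groth.Agent.DvrDom.isReduced_vanishingIdeal_subscheme _
  have hr : Set.range I.subschemeι = {P} := by
    rw [I.range_subschemeι]; simp [I]
  haveI : Nonempty I.subscheme := by
    obtain ⟨y, -⟩ : P ∈ Set.range I.subschemeι := by rw [hr]; rfl
    exact ⟨y⟩
  haveI : Subsingleton I.subscheme := ⟨fun a b => I.subschemeι.isClosedEmbedding.injective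
    ((hr.le ⟨a, rfl⟩ : I.subschemeι a = P).trans (hr.le ⟨b, rfl⟩ : I.subschemeι b = P).symm)⟩
  haveI : IrreducibleSpace I.subscheme :=
    { isPreirreducible_univ := Set.subsingleton_univ.isPreirreducible, toNonempty := inferInstance }
  haveI : IsIntegral I.subscheme := isIntegral_of_irreducibleSpace_of_isReduced _
  have hb0 := bijective_toGlobal (I.subschemeι ≫ (X ↘ Spec (CommRingCat.of k)))
  letI := secMod k (ClSub.quotMod I) ⊤
  rw [← finrank_sec]
  let g : k →+* Γ(I.subscheme, I.subschemeι ⁻¹ᵁ ⊤) := (I.subschemeι.app ⊤).hom.comp (cst k X ⊤)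
  have hg : (g : k → Γ(I.subscheme, I.subschemeι ⁻¹ᵁ ⊤)) =
      (Coh.toGlobal (I.subschemeι ≫ (X ↘ Spec (CommRingCat.of k))) : k → _) := funext fun a => by
    show (I.subschemeι.app ⊤).hom (cst k X ⊤ a) = _
    rw [show cst k X ⊤ a = Coh.toGlobal (X ↘ Spec (CommRingCat.of k)) a from resO_self _ _]
    rfl
  let e : k →ₗ[k] Γ(ClSub.quotMod I, ⊤) :=
    { toFun := fun a => g a
      map_add' := map_add _
      map_smul' := fun a b => map_mul g a b }
  have hb : Function.Bijective e := by
    show Function.Bijective (g : k → Γ(I.subscheme, I.subschemeι ⁻¹ᵁ ⊤))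
    rw [hg]; exact hb0
  rw [← (LinearEquiv.ofBijective e hb).finrank_eq, Module.finrank_self]

theorem euler_pointIdeal [IsAlgClosed k] {P : X} (hP : IsClosed ({P} : Set X)) {L : X.Modules}
    (hL : PicF.IsInvertible L) :
    Curv2.euler k X (CohB1.tensorMod (ClSub.idealMod (Scheme.IdealSheafData.vanishingIdeal ⟨{P}, hP⟩)) L) =
      Curv2.euler k X L - 1 := by
  rw [euler_ideal_tensor hL _ (point_dim hP), h0_quotMod_point hP]
  norm_num

/-- `h^0` drops by at most one at a point, exactly when some section generates there. -/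
theorem h0_pointIdeal [IsAlgClosed k] {P : X} (hP : IsClosed ({P} : Set X)) {L : X.Modules}
    (hL : PicF.IsInvertible L) :
    letI M := CohB1.tensorMod (ClSub.idealMod (Scheme.IdealSheafData.vanishingIdeal ⟨{P}, hP⟩)) L
    h k M 0 ≤ h k L 0 ∧ h k L 0 ≤ h k M 0 + 1 ∧
      (h k M 0 + 1 = h k L 0 ↔ ∃ t : Γ(L, ⊤), P ∈ CohB1.genLocus L (homOf t)) := by
  haveI := isNoetherian_of_proper k X
  set I := Scheme.IdealSheafData.vanishingIdeal ⟨{P}, hP⟩ with hI
  have hQ := (isCoh_idealMod I).2
  have hT := shortExact_tmap hL (ideal_shortExact I)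
  have hM := isCoh_tensor' (isCoh_idealMod I).1 (isCoh_of_inv hL)
  haveI := mono_idealIncl hL I
  haveI := finite_proper k X _ hM 0
  haveI := finite_proper k X _ (isCoh_of_inv hL) 0
  haveI := finite_proper k X _ (isCoh_tensor' hQ (isCoh_of_inv hL)) 0
  have hOL : h k (CohB1.tensorMod (Coh.structureModule X) L) 0 = h k L 0 := h_eq_of_iso (TMul.leftUnitIso L) 0
  have hQL : h k (CohB1.tensorMod (ClSub.quotMod I) L) 0 = 1 := by
    rw [h_eq_of_iso (TMul.commIso (ClSub.quotMod I) L),
      (h0_tensor (k := k) hQ I.support.isClosed (point_dim hP) (support_quotMod I) (isFinLocFreeOfRank_one hL)).1,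
      one_mul, h0_quotMod_point hP]
  haveI := finite_proper k X _ (isCoh_tensor' RefStalk.isCoh_structureModule (isCoh_of_inv hL)) 0
  have e := (hhMap k (tmap (ClSub.toSubscheme I) L) 0).finrank_range_add_finrank_ker
  have e' : Module.finrank k (LinearMap.ker (hhMap k (tmap (ClSub.toSubscheme I) L) 0)) =
      h k (CohB1.tensorMod (ClSub.idealMod I) L) 0 := by
    rw [← range_f_eq_ker_g hT 0]
    exact LinearMap.finrank_range_of_inj (injective_f hT)
  have hle : Module.finrank k (LinearMap.range (hhMap k (tmap (ClSub.toSubscheme I) L) 0)) ≤ 1 :=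
    (Submodule.finrank_le _).trans hQL.le
  have e'' : Module.finrank k (LinearMap.range (hhMap k (tmap (ClSub.toSubscheme I) L) 0)) +
      h k (CohB1.tensorMod (ClSub.idealMod I) L) 0 = h k L 0 := by
    rw [← hOL, ← e']; exact e
  refine ⟨by omega, by omega, fun heq => ?_, fun ⟨t, ht⟩ => ?_⟩
  · by_contra! hno
    letI := secMod k L ⊤
    letI := secMod k (CohB1.tensorMod (ClSub.idealMod I) L) ⊤
    haveI : Module.Finite k Γ(CohB1.tensorMod (ClSub.idealMod I) L, ⊤) :=
      Module.Finite.equiv (secH0 (k := k) (CohB1.tensorMod (ClSub.idealMod I) L)).symm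
    let φ : Γ(CohB1.tensorMod (ClSub.idealMod I) L, ⊤) →ₗ[k] Γ(L, ⊤) :=
      { toFun := (idealIncl I L).app ⊤
        map_add' := map_add _
        map_smul' := fun a s => TMul.app_smul _ _ _ }
    have := φ.finrank_range_le
    rw [LinearMap.range_eq_top.mpr fun t => mem_range_idealIncl hL ⟨{P}, hP⟩ t fun z hz => by
      rw [Set.mem_singleton_iff.mp hz]; exact hno t, finrank_top, finrank_sec, finrank_sec] at this
    omega
  · by_contra hne
    have h0r : Module.finrank k (LinearMap.range (hhMap k (tmap (ClSub.toSubscheme I) L) 0)) = 0 := by omega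
    have hsurj : Function.Surjective (hhMap k (idealIncl I L) 0) := fun x => by
      obtain ⟨y, rfl⟩ := (hhEquiv k (TMul.leftUnitIso L) 0).surjective x
      have : y ∈ LinearMap.range (hhMap k (tmap (ClSub.idealModι I) L) 0) := by
        refine (range_f_eq_ker_g hT 0).ge (LinearMap.mem_ker.mpr ?_)
        have := LinearMap.mem_range_self (hhMap k (tmap (ClSub.toSubscheme I) L) 0) y
        rwa [Submodule.finrank_eq_zero.mp h0r, Submodule.mem_bot] at this
      obtain ⟨w, rfl⟩ := this
      exact ⟨w, hhMap_comp k _ _ 0 w⟩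
    have hs : ∃ u, (idealIncl I L).app ⊤ u = t := by
      letI := secMod k L ⊤
      letI := secMod k (CohB1.tensorMod (ClSub.idealMod I) L) ⊤
      obtain ⟨x, hx⟩ := hsurj (secH0 (k := k) L t)
      refine ⟨(secH0 (k := k) (CohB1.tensorMod (ClSub.idealMod I) L)).symm x, (secH0 (k := k) L).injective ?_⟩
      rw [← hx]
      refine Eq.trans ?_ (congrArg (hhMap k (idealIncl I L) 0)
        ((secH0 (k := k) (CohB1.tensorMod (ClSub.idealMod I) L)).apply_symm_apply x))
      exact (Sheaf.H.equiv₀_symm_naturality (Limits.isTerminalTop (α := X.Opens))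
        ((SheafOfModules.toSheaf X.ringCatSheaf).map (idealIncl I L)) _).symm
    obtain ⟨u, rfl⟩ := hs
    exact notMem_genLocus_idealIncl hL I u (by rw [hI]; simp) ht

/-- A globally generated invertible module has, at each closed point, a section generating there. -/
theorem exists_gen_of_isGloballyGenerated [IsAlgClosed k] {L : X.Modules} (hL : PicF.IsInvertible L)
    (hG : Curv2.IsGloballyGenerated L) {P : X} (hP : IsClosed ({P} : Set X)) :
    ∃ t : Γ(L, ⊤), P ∈ CohB1.genLocus L (homOf t) := by
  by_contra! hno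
  obtain ⟨ι, p, hp⟩ := hG
  set I := Scheme.IdealSheafData.vanishingIdeal ⟨{P}, hP⟩ with hI
  haveI := mono_idealIncl hL I
  have h0 : p ≫ cokernel.π (idealIncl I L) = 0 := by
    refine Sigma.hom_ext _ _ fun i => TMul.hom_ext_val ?_
    obtain ⟨u, hu⟩ := mem_range_idealIncl hL ⟨{P}, hP⟩
      (TMul.val (Sigma.ι (fun _ : ι => SheafOfModules.unit X.ringCatSheaf) i ≫ p) ⊤) fun z hz => by
      rw [Set.mem_singleton_iff.mp hz]; exact hno _
    show TMul.val ((Sigma.ι (fun _ : ι => SheafOfModules.unit X.ringCatSheaf) i ≫ p) ≫ cokernel.π (idealIncl I L)) ⊤ = _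
    rw [TMul.val_comp, ← hu]
    exact congrArg (fun ψ : _ ⟶ cokernel (idealIncl I L) => ψ.app ⊤ u) (cokernel.condition _)
  haveI : Epi (idealIncl I L) := Preadditive.epi_of_isZero_cokernel _
    ((IsZero.iff_id_eq_zero _).mpr ((cancel_epi (p ≫ cokernel.π (idealIncl I L))).mp (by simp [h0])))
  haveI : IsIso (idealIncl I L) := isIso_of_mono_of_epi _
  have := euler_eq_of_iso (k := k) (asIso (idealIncl I L))
  rw [hI, euler_pointIdeal hP hL] at this
  omega

end Groth.Agent.CurveRR
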