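import Groth.Agent.CurveRR.Point
import Groth.Agent.RegDual.Scheme
import Groth.Agent.S1561
import Groth.Agent.InfLift.SchemeSmallExt
import Groth.Agent.S1570
import Groth.Agent.S8914
import Groth.Agent.W7Hull.InvDual

/-!
Regular closed points of integral proper curves, and invertible modules with prescribed `h^0`, `h^1 = 0`.
-/

set_option autoImplicit false
set_option backward.isDefEq.respectTransparency false
set_option linter.style.haveILetI false

universe u

open CategoryTheory CategoryTheory.Limits AlgebraicGeometry TopologicalSpace Opposite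
open Groth.Agent.CohFinite
open Groth.Agent.QC (res resO res_res res_self res_smul)
open TMul (IsGen homOf val_homOf)

noncomputable section

namespace Groth.Agent.CurveRR

/-- The ideal of a regular closed point of a curve is invertible. -/
theorem isInvertible_pointIdeal {X : Scheme.{u}} [IsLocallyNoetherian X] [IsIntegral X]
    (hdim : topologicalKrullDim X ≤ 1) {P : X} (hP : IsClosed ({P} : Set X)) (hne : genericPoint X ≠ P)
    (hreg : IsRegularLocalRing (X.presheaf.stalk P)) :
    PicF.IsInvertible (ClSub.idealMod (Scheme.IdealSheafData.vanishingIdeal ⟨{P}, hP⟩)) := by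
  refine (Groth.Agent.S8914.result _).mpr (Groth.Agent.S1570.result X _ fun x hx U hxU => ?_)
  obtain rfl : x = P := by
    have hx' : x ∈ ((Scheme.IdealSheafData.vanishingIdeal ⟨{P}, hP⟩).support : Set X) := hx
    simpa using hx'
  letI : Algebra Γ(X, U.1) (X.presheaf.stalk x) := (X.presheaf.germ U.1 x hxU).hom.toAlgebra
  haveI := U.2.isLocalization_stalk ⟨x, hxU⟩
  let q := U.2.primeIdealOf ⟨x, hxU⟩
  have hid : (Scheme.IdealSheafData.vanishingIdeal ⟨{x}, hP⟩).ideal U = q.asIdeal := by
    rw [Scheme.IdealSheafData.vanishingIdeal_ideal]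
    show PrimeSpectrum.vanishingIdeal (U.2.fromSpec ⁻¹' (({x} : Set X))) = q.asIdeal
    rw [show U.2.fromSpec ⁻¹' (({x} : Set X)) = {q} from ?_, PrimeSpectrum.vanishingIdeal_singleton]
    ext p
    simp only [Set.mem_preimage, Set.mem_singleton_iff]
    exact ⟨fun h => U.2.fromSpec.isOpenEmbedding.injective (h.trans (U.2.fromSpec_primeIdealOf ⟨x, hxU⟩).symm),
      fun h => h ▸ U.2.fromSpec_primeIdealOf ⟨x, hxU⟩⟩
  have hmap : ((Scheme.IdealSheafData.vanishingIdeal ⟨{x}, hP⟩).ideal U).map (X.presheaf.germ U.1 x hxU).hom =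
      IsLocalRing.maximalIdeal (X.presheaf.stalk x) := by
    rw [hid, ← IsLocalization.AtPrime.under_maximalIdeal (X.presheaf.stalk x) q.asIdeal]
    exact IsLocalization.map_under q.asIdeal.primeCompl (X.presheaf.stalk x) _
  have hle : (IsLocalRing.maximalIdeal (X.presheaf.stalk x)).spanFinrank ≤ 1 := by
    have := (hreg.spanFinrank_maximalIdeal).le.trans ((Groth.Agent.RegDual.ringKrullDim_stalk_le_topologicalKrullDim x).trans hdim)
    exact CartierDim.natCast_le_withBot.mp (this.trans_eq Nat.cast_one.symm)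
  have hfg : (IsLocalRing.maximalIdeal (X.presheaf.stalk x)).FG := IsNoetherian.noetherian _
  have hbot : IsLocalRing.maximalIdeal (X.presheaf.stalk x) ≠ ⊥ := by
    intro h0
    have hq0 : q.asIdeal ≠ ⊥ := fun hb => hne (by
      have hη : genericPoint X ∈ U.1 := (genericPoint_specializes x).mem_open U.1.2 hxU
      refine ((genericPoint_specializes x).antisymm ?_).eq
      haveI : Nonempty U.1 := ⟨⟨x, hxU⟩⟩
      have h2 : q ⤳ U.2.primeIdealOf ⟨genericPoint X, hη⟩ := (PrimeSpectrum.le_iff_specializes _ _).mp (by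
        show q.asIdeal ≤ _
        rw [hb]; exact bot_le)
      have := h2.map U.2.fromSpec.continuous
      rwa [U.2.fromSpec_primeIdealOf, U.2.fromSpec_primeIdealOf] at this)
    obtain ⟨c, hc, hc0⟩ := Submodule.exists_mem_ne_zero_of_ne_bot hq0
    haveI : Nonempty U.1 := ⟨⟨x, hxU⟩⟩
    have : X.presheaf.germ U.1 x hxU c ∈ IsLocalRing.maximalIdeal (X.presheaf.stalk x) := by
      rw [← hmap, hid]; exact Ideal.mem_map_of_mem _ hc
    rw [h0, Submodule.mem_bot] at this
    exact hc0 (germ_injective_of_isIntegral X x hxU (this.trans (map_zero _).symm))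
  have h1 : (IsLocalRing.maximalIdeal (X.presheaf.stalk x)).spanFinrank = 1 := by
    have : (IsLocalRing.maximalIdeal (X.presheaf.stalk x)).spanFinrank ≠ 0 :=
      fun h0 => hbot ((Submodule.spanFinrank_eq_zero_iff_eq_bot hfg).mp h0)
    omega
  haveI := ((Submodule.spanFinrank_eq_one_iff _).mp h1).1
  let g := Submodule.IsPrincipal.generator (IsLocalRing.maximalIdeal (X.presheaf.stalk x))
  have hspan : Ideal.span {g} = IsLocalRing.maximalIdeal (X.presheaf.stalk x) := Ideal.span_singleton_generator _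
  refine ⟨g, mem_nonZeroDivisors_of_ne_zero fun hg => hbot ?_, hmap.trans hspan.symm⟩
  rw [← hspan, hg, Ideal.span_singleton_eq_bot]

variable {k : Type u} [Field k] {X : Scheme.{u}} [X.Over (Spec (CommRingCat.of k))]
  [IsProper (X ↘ Spec (CommRingCat.of k))]

/-- The invertible module of a regular closed point. -/
theorem exists_point_inverse [IsAlgClosed k] {P : X} (hP : IsClosed ({P} : Set X))
    (hI : PicF.IsInvertible (ClSub.idealMod (Scheme.IdealSheafData.vanishingIdeal ⟨{P}, hP⟩))) :
    ∃ J : X.Modules, PicF.IsInvertible J ∧ Curv2.deg k X J 1 = 1 ∧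
      Nonempty (CohB1.tensorMod (ClSub.idealMod (Scheme.IdealSheafData.vanishingIdeal ⟨{P}, hP⟩)) J ≅
        Coh.structureModule X) := by
  obtain ⟨J, hJ, ⟨e⟩⟩ := W7Hull.exists_tensor_inverse hI
  refine ⟨J, hJ, ?_, ⟨e⟩⟩
  have := euler_pointIdeal (k := k) hP hJ
  rw [euler_eq_of_iso e] at this
  rw [Curv2.deg]
  push_cast
  omega

variable [IsIntegral X]

theorem generic_mem_genLocus {L : X.Modules} (hL : PicF.IsInvertible L) {t : Γ(L, ⊤)} (ht : t ≠ 0) :
    genericPoint X ∈ CohB1.genLocus L (homOf t) := by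
  obtain ⟨D, g, hηD, hg⟩ := TMul.exists_isGen hL (genericPoint X)
  obtain ⟨c, hc⟩ := (hg D le_rfl).2 (res L le_top t)
  change c • res L le_rfl g = _ at hc
  rw [res_self] at hc
  refine (TMul.mem_genLocus_iff_isUnit (homOf t) hg (c := c) (by rw [val_homOf]; exact hc.symm) hηD).mpr ?_
  letI : Field (X.presheaf.stalk (genericPoint X)) := inferInstanceAs (Field X.functionField)
  refine IsUnit.mk0 _ fun h0 => ht (eq_zero_of_germ_generic hL t (U := ⊤) trivial ?_)
  rw [← Groth.Agent.WeakAssLib.mgerm_res L (le_top : D ≤ ⊤) hηD t, ← hc, Groth.Agent.WeakAssLib.mgerm_smul, h0,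
    zero_smul]

include k in
theorem genericPoint_ne_of_closed (hdim : topologicalKrullDim X = 1) {P : X} (hP : IsClosed ({P} : Set X)) :
    genericPoint X ≠ P := fun h => by
  subst h
  have h1 : (Set.univ : Set X) = {genericPoint X} := by
    rw [← hP.closure_eq]; exact (genericPoint_spec X).def.symm
  haveI : Subsingleton X := ⟨fun a b => by
    rw [Set.mem_singleton_iff.mp (h1.le (Set.mem_univ a)), Set.mem_singleton_iff.mp (h1.le (Set.mem_univ b))]⟩
  have := topologicalKrullDim_zero_of_discreteTopology X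
  rw [hdim] at this
  exact absurd this (by decide)

include k in
theorem exists_closed_regular_mem [PerfectField k] (O : X.Opens) (hO : genericPoint X ∈ O) :
    ∃ P : X, IsClosed ({P} : Set X) ∧ P ∈ O ∧ IsRegularLocalRing (X.presheaf.stalk P) := by
  haveI := isNoetherian_of_proper k X
  haveI : LocallyOfFinitePresentation (X ↘ Spec (CommRingCat.of k)) :=
    Groth.Agent.InfLift.lfp_of_lft _
  obtain ⟨hreg, hd⟩ := Groth.Agent.S1561.result k X
  haveI : JacobsonSpace X := LocallyOfFiniteType.jacobsonSpace (X ↘ Spec (CommRingCat.of k))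
  obtain ⟨y, hy, hy'⟩ := hd.inter_open_nonempty _ O.2 ⟨_, hO⟩
  obtain ⟨P, hPO, hPc⟩ := nonempty_inter_closedPoints (X := X) (Z := (O : Set X) ∩ ((X ↘ Spec (CommRingCat.of k)).smoothLocus : Set X))
    ⟨y, hy, hy'⟩ (O.2.inter (X ↘ Spec (CommRingCat.of k)).smoothLocus.2).isLocallyClosed
  exact ⟨P, hPc, hPO.1, (hreg P).mp hPO.2⟩

/-- Twisting down at a general point. -/
theorem exists_step [IsAlgClosed k] (hdim : topologicalKrullDim X = 1) {L : X.Modules} (hL : PicF.IsInvertible L)
    (h1 : Subsingleton (Coh.HH X L 1)) (h0 : h k L 0 ≠ 0) :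
    ∃ L' : X.Modules, PicF.IsInvertible L' ∧ Subsingleton (Coh.HH X L' 1) ∧ h k L' 0 + 1 = h k L 0 := by
  haveI := isNoetherian_of_proper k X
  obtain ⟨t, ht⟩ : ∃ t : Γ(L, ⊤), t ≠ 0 := by
    by_contra! hh
    letI := secMod k L ⊤
    haveI : Subsingleton Γ(L, ⊤) := ⟨fun a b => (hh a).trans (hh b).symm⟩
    exact h0 (by rw [← finrank_sec]; exact Module.finrank_zero_of_subsingleton)
  obtain ⟨P, hP, hPt, hreg⟩ := exists_closed_regular_mem (k := k) _ (generic_mem_genLocus hL ht)
  have hI := isInvertible_pointIdeal hdim.le hP (genericPoint_ne_of_closed (k := k) hdim hP) hreg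
  refine ⟨CohB1.tensorMod (ClSub.idealMod (Scheme.IdealSheafData.vanishingIdeal ⟨{P}, hP⟩)) L,
    TMul.isInvertible_tensorMod hI hL, ?_, (h0_pointIdeal (k := k) hP hL).2.2.mpr ⟨t, hPt⟩⟩
  have hh := (h0_pointIdeal (k := k) hP hL).2.2.mpr ⟨t, hPt⟩
  have he := euler_pointIdeal (k := k) hP hL
  rw [euler_eq hdim.le, euler_eq hdim.le, show h k L 1 = 0 from h_eq_zero h1] at he
  haveI := finite_proper k X _ (isCoh_of_inv (TMul.isInvertible_tensorMod hI hL)) 1
  refine Module.finrank_zero_iff.mp (?_ : h k _ 1 = 0)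
  omega

/-- Invertible modules with `h^1 = 0` and any small `h^0`. -/
theorem exists_nonspecial [IsAlgClosed k] (hdim : topologicalKrullDim X = 1) :
    ∀ n : ℕ, n ≤ 1 → ∃ L : X.Modules, PicF.IsInvertible L ∧ h k L 0 = n ∧ Subsingleton (Coh.HH X L 1) := by
  haveI := isNoetherian_of_proper k X
  have h0 := h0_structure k X
  obtain ⟨P, hP, -, hreg⟩ := exists_closed_regular_mem (k := k) (⊤ : X.Opens) trivial
  obtain ⟨J, hJ, hdeg, -⟩ := exists_point_inverse (k := k) hP
    (isInvertible_pointIdeal hdim.le hP (genericPoint_ne_of_closed (k := k) hdim hP) hreg)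
  have hM := TMul.isInvertible_tensorPow hJ (2 * Curv2.genus k X)
  have hMd : Curv2.deg k X (CohB1.tensorPow J (2 * Curv2.genus k X)) 1 = 2 * (Curv2.genus k X : ℤ) := by
    rw [deg_tensorPow hdim.le hJ, hdeg]; push_cast; ring
  have hv := subsingleton_h1 hdim.le h0 hM (by omega)
  have hh := h0_eq_of_deg hdim.le h0 hM (by omega)
  have key : ∀ d : ℕ, d ≤ h k (CohB1.tensorPow J (2 * Curv2.genus k X)) 0 → ∃ L : X.Modules, PicF.IsInvertible L ∧
      h k L 0 + d = h k (CohB1.tensorPow J (2 * Curv2.genus k X)) 0 ∧ Subsingleton (Coh.HH X L 1) := by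
    intro d
    induction d with
    | zero => exact fun _ => ⟨_, hM, rfl, hv⟩
    | succ d ih =>
      intro hd
      obtain ⟨L, hL, he, hL1⟩ := ih (by omega)
      obtain ⟨L', hL', hL'1, he'⟩ := exists_step (k := k) hdim hL hL1 (by omega)
      exact ⟨L', hL', by omega, hL'1⟩
  intro n hn
  obtain ⟨L, hL, he, hL1⟩ := key (h k (CohB1.tensorPow J (2 * Curv2.genus k X)) 0 - n) (by omega)
  exact ⟨L, hL, by omega, hL1⟩

/-- On a smooth curve: degree `r ≤ g` with exactly one section. -/
theorem exists_deg_h0_one [IsAlgClosed k] (hdim : topologicalKrullDim X = 1)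
    (hreg : ∀ x : X, IsClosed ({x} : Set X) → IsRegularLocalRing (X.presheaf.stalk x))
    (r : ℕ) (hr : r ≤ Curv2.genus k X) :
    ∃ L : X.Modules, PicF.IsInvertible L ∧ Curv2.deg k X L 1 = (r : ℤ) ∧ h k L 0 = 1 := by
  haveI := isNoetherian_of_proper k X
  have h00 := h0_structure k X
  have key : ∀ d : ℕ, d ≤ Curv2.genus k X → ∃ L : X.Modules, PicF.IsInvertible L ∧
      Curv2.deg k X L 1 + d = Curv2.genus k X ∧ h k L 0 = 1 := by
    intro d
    induction d with
    | zero =>
      intro _
      obtain ⟨L, hL, h0, h1⟩ := exists_nonspecial (k := k) hdim 1 le_rfl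
      refine ⟨L, hL, ?_, h0⟩
      rw [Curv2.deg, euler_eq hdim.le, euler_structure hdim.le h00, h0, show h k L 1 = 0 from h_eq_zero h1]
      push_cast
      ring
    | succ d ih =>
      intro hd
      obtain ⟨L, hL, he, h0⟩ := ih (by omega)
      obtain ⟨s, hs⟩ := exists_section (k := k) (L := L) (by omega)
      obtain ⟨P, hP, hPs⟩ : ∃ P : X, IsClosed ({P} : Set X) ∧ P ∉ CohB1.genLocus L s := by
        by_contra! hall
        have htop : ∀ x : X, x ∈ CohB1.genLocus L s := fun x => by
          obtain ⟨z, hz, hzc⟩ := (isClosed_closure (s := ({x} : Set X))).exists_closed_singleton ⟨x, subset_closure rfl⟩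
          exact (specializes_iff_mem_closure.mpr hz).mem_open (CohB1.genLocus L s).2 (hall z hzc)
        have hg : IsGen (TMul.val s ⊤) := by
          have h := TMul.isGen_genLocus s
          rwa [show CohB1.genLocus L s = ⊤ from top_le_iff.mp fun x _ => htop x] at h
        haveI : IsIso s := GrT.isIso_of_locally s
          (fun U a b hab => (hg U le_top).1 (by
            simpa only [TMul.app_eq_smul, TMul.res_val] using hab))
          fun U t x hx => ⟨U, le_rfl, hx, by
            obtain ⟨a, ha⟩ := (hg U le_top).2 t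
            exact ⟨a, by rw [res_self, TMul.app_eq_smul, ← ha]; simp only [TMul.res_val]⟩⟩
        have := euler_eq_of_iso (k := k) (asIso s)
        rw [Curv2.deg, ← this] at he
        push_cast at he
        omega
      have hI := isInvertible_pointIdeal hdim.le hP (genericPoint_ne_of_closed (k := k) hdim hP) (hreg P hP)
      refine ⟨_, TMul.isInvertible_tensorMod hI hL, ?_, ?_⟩
      · have := euler_pointIdeal (k := k) hP hL
        rw [Curv2.deg] at he ⊢
        rw [this]
        push_cast at he ⊢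
        omega
      · obtain ⟨h1, h2, h3⟩ := h0_pointIdeal (k := k) hP hL
        obtain ⟨u, hu⟩ := mem_range_idealIncl hL ⟨{P}, hP⟩ (TMul.val s ⊤) fun z hz => by
          rw [Set.mem_singleton_iff.mp hz, show homOf (TMul.val s ⊤) = s from
            TMul.hom_ext_val (by rw [val_homOf, res_self])]
          exact hPs
        have hu0 : u ≠ 0 := fun hu0 => hs (TMul.hom_ext_val (by rw [← hu, hu0, map_zero]; rfl))
        haveI := finite_proper k X _ (isCoh_of_inv (TMul.isInvertible_tensorMod hI hL)) 0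
        haveI : Nontrivial (Coh.HH X (CohB1.tensorMod (ClSub.idealMod (Scheme.IdealSheafData.vanishingIdeal ⟨{P}, hP⟩)) L) 0) := by
          letI := secMod k (CohB1.tensorMod (ClSub.idealMod (Scheme.IdealSheafData.vanishingIdeal ⟨{P}, hP⟩)) L) ⊤
          haveI : Nontrivial Γ(CohB1.tensorMod (ClSub.idealMod (Scheme.IdealSheafData.vanishingIdeal ⟨{P}, hP⟩)) L, ⊤) := ⟨⟨u, 0, hu0⟩⟩
          exact (secH0 (k := k) _).toEquiv.symm.nontrivial
        have : 0 < h k (CohB1.tensorMod (ClSub.idealMod (Scheme.IdealSheafData.vanishingIdeal ⟨{P}, hP⟩)) L) 0 := Module.finrank_pos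
        omega
  obtain ⟨L, hL, he, h0⟩ := key (Curv2.genus k X - r) (by omega)
  exact ⟨L, hL, by omega, h0⟩

end Groth.Agent.CurveRR
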