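import Groth.Agent.CurveRR.Series
import Groth.Agent.CurveRR.SmoothPt
import Groth.Agent.TMul.AffineLocus

/-!
On an integral proper curve an invertible module is ample iff its degree is positive.
-/

set_option autoImplicit false
set_option backward.isDefEq.respectTransparency false
set_option linter.style.haveILetI false

universe u

open CategoryTheory CategoryTheory.Limits AlgebraicGeometry TopologicalSpace Opposite
open Groth.Agent.CohFinite
open Groth.Agent.QC (res resO res_res res_self res_smul resO_resO resO_self section_eq_of_locally app_res)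
open TMul (IsGen homOf val_homOf tm)

noncomputable section

namespace Groth.Agent.CurveRR

section Gen

variable {X : Scheme.{u}} {P : X.Modules}

/-- The coefficient of a section of `I ⊗ P` is not a unit on the support of `I`. -/
theorem not_isUnit_coeff (I : X.IdealSheafData) {V : X.Opens} {g : Γ(P, V)} (hg : IsGen g) (d : Γ(X, V))
    (w : Γ(CohB1.tensorMod (ClSub.idealMod I) P, V)) (hw : (idealIncl I P).app V w = d • g) {z : X}
    (hzV : z ∈ V) (hz : z ∈ (I.support : Set X)) : ¬ IsUnit (X.presheaf.germ V z hzV d) := by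
  obtain ⟨W, hW, hzW, hWV⟩ := exists_isAffineOpen_mem_and_subset hzV
  obtain ⟨a, ha⟩ := (TMul.tm_bijective (M := ClSub.idealMod I) (hg.res hWV) W le_rfl).2 (res _ hWV w)
  change tm a (res P le_rfl (res P hWV g)) = _ at ha
  rw [res_self] at ha
  have e := congrArg (res P hWV) hw
  rw [app_res, ← ha, idealIncl_tm, res_smul] at e
  have hca : ((ClSub.idealModι I).app W a : Γ(X, W)) = resO X hWV d :=
    ((hg.res hWV) W le_rfl).1 (by simpa only [res_self] using e)
  intro hu
  have hys : z ∈ I.support := hz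
  rw [Scheme.IdealSheafData.mem_support_iff_of_mem (U := ⟨W, hW⟩) hzW, Scheme.mem_zeroLocus_iff] at hys
  refine hys _ ((Groth.Agent.QC.mem_range_idealModι_affine I ⟨W, hW⟩ _).mp ⟨a, rfl⟩) ?_
  refine (X.mem_basicOpen _ z hzW).mpr ?_
  rw [hca]
  exact (X.presheaf.germ_res_apply (homOfLE hWV) z hzW d).symm ▸ hu

/-- With `H^0(P) → H^0(O_Z ⊗ P)` onto, a section generates at an isolated point of `Z` and nowhere else on it. -/
theorem exists_section_gen_only (hP : PicF.IsInvertible P) (I : X.IdealSheafData) {z : X}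
    (hzI : z ∈ (I.support : Set X)) (hz : IsClosed ({z} : Set X)) (hrest : IsClosed ((I.support : Set X) \ {z}))
    (hs : Function.Surjective ((tmap (ClSub.toSubscheme I) P).app ⊤)) :
    ∃ t : Γ(P, ⊤), z ∈ CohB1.genLocus P (homOf t) ∧
      ∀ y ∈ (I.support : Set X), y ≠ z → y ∉ CohB1.genLocus P (homOf t) := by
  obtain ⟨D, g₀, hzD, hg₀⟩ := TMul.exists_isGen hP z
  let U : X.Opens := D ⊓ ⟨((I.support : Set X) \ {z})ᶜ, hrest.isOpen_compl⟩
  let C : X.Opens := ⟨({z} : Set X)ᶜ, hz.isOpen_compl⟩
  have hzU : z ∈ U := ⟨hzD, fun h => h.2 rfl⟩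
  let g : Γ(P, U) := res P inf_le_left g₀
  have hg : IsGen g := hg₀.res _
  have hQ : SuppIn (CohB1.tensorMod (ClSub.quotMod I) P) (I.support : Set X) :=
    suppIn_tensor (suppIn_of_subset (support_quotMod I)) P
  obtain ⟨a, ha, -⟩ := TopCat.Sheaf.existsUnique_gluing' (Groth.Agent.QC.abSheaf (CohB1.tensorMod (ClSub.quotMod I) P))
    (fun b : Bool => if b then U else C) ⊤ (fun b => homOfLE le_top)
    (fun y _ => Opens.mem_iSup.mpr (by
      by_cases hy : y = z
      · exact ⟨true, hy ▸ hzU⟩
      · exact ⟨false, hy⟩))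
    (fun b => match b with
      | true => (tmap (ClSub.toSubscheme I) P).app U (tm (M := Coh.structureModule X) (1 : Γ(X, U)) g)
      | false => (0 : Γ(CohB1.tensorMod (ClSub.quotMod I) P, C)))
    (by
      suffices key : ∀ (W : X.Opens) (h1 : W ≤ U) (h2 : W ≤ C) (v : Γ(CohB1.tensorMod (ClSub.quotMod I) P, U)),
          res _ h1 v = res _ h2 (0 : Γ(CohB1.tensorMod (ClSub.quotMod I) P, C)) by
        rintro (_ | _) (_ | _)
        · rfl
        · exact (key _ inf_le_right inf_le_left _).symm
        · exact key _ inf_le_left inf_le_right _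
        · rfl
      intro W h1 h2 v
      rw [map_zero]
      exact hQ W _ fun y hy hyS => (h1 hy).2 ⟨hyS, h2 hy⟩)
  obtain ⟨s, hs'⟩ := hs a
  have hS := shortExact_tmap hP (ideal_shortExact I)
  refine ⟨(TMul.leftUnitIso P).hom.app ⊤ s, ?_, fun y hyI hyz => ?_⟩
  · have h0 : (tmap (ClSub.toSubscheme I) P).app U
        (res _ le_top s - tm (M := Coh.structureModule X) (1 : Γ(X, U)) g) = 0 := by
      rw [map_sub, ← app_res, hs']
      exact sub_eq_zero.mpr (ha true)
    obtain ⟨w, hw⟩ := Groth.Agent.SiteCoh.sections_exact (shortExact_toAb hS) U _ h0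
    have hw' : (tmap (ClSub.idealModι I) P).app U w = res _ le_top s - tm (M := Coh.structureModule X) (1 : Γ(X, U)) g := hw
    obtain ⟨c, hc⟩ := (hg U le_rfl).2 (res P le_top ((TMul.leftUnitIso P).hom.app ⊤ s))
    change c • res P le_rfl g = _ at hc
    rw [res_self] at hc
    have hd : (idealIncl I P).app U w = (c - 1) • g := by
      show (TMul.leftUnitIso P).hom.app U ((tmap (ClSub.idealModι I) P).app U w) = _
      rw [hw', map_sub, leftUnitIso_tm, sub_smul, hc, app_res]
    refine (TMul.mem_genLocus_iff_isUnit _ hg (c := c) (by rw [val_homOf]; exact hc.symm) hzU).mpr ?_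
    have hn := not_isUnit_coeff I hg _ w hd hzU hzI
    rw [map_sub, map_one] at hn
    by_contra hcu
    have : ¬ IsUnit ((1 : X.presheaf.stalk z)) := by
      have h' : (1 : X.presheaf.stalk z) = X.presheaf.germ U z hzU c + -(X.presheaf.germ U z hzU c - 1) := by ring
      rw [h']
      exact IsLocalRing.nonunits_add hcu (fun hh => hn (by simpa using hh.neg))
    exact this isUnit_one
  · obtain ⟨D', g', hyD', hg'⟩ := TMul.exists_isGen hP y
    let V : X.Opens := D' ⊓ C
    have hyV : y ∈ V := ⟨hyD', hyz⟩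
    have h0 : (tmap (ClSub.toSubscheme I) P).app V (res _ le_top s) = 0 := by
      rw [← app_res, hs', ← res_res _ (inf_le_right : V ≤ C) (le_top : C ≤ ⊤)]
      rw [show res _ (le_top : C ≤ ⊤) a = 0 from ha false, map_zero]
    obtain ⟨w, hw⟩ := Groth.Agent.SiteCoh.sections_exact (shortExact_toAb hS) V _ h0
    have hw' : (tmap (ClSub.idealModι I) P).app V w = res _ le_top s := hw
    obtain ⟨c, hc⟩ := ((hg'.res (inf_le_left : V ≤ D')) V le_rfl).2 (res P le_top ((TMul.leftUnitIso P).hom.app ⊤ s))
    change c • res P le_rfl (res P inf_le_left g') = _ at hc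
    rw [res_self] at hc
    have hd : (idealIncl I P).app V w = c • res P inf_le_left g' := by
      show (TMul.leftUnitIso P).hom.app V ((tmap (ClSub.idealModι I) P).app V w) = _
      rw [hw', hc, app_res]
    intro hgen
    exact not_isUnit_coeff I (hg'.res inf_le_left) c w hd hyV hyI
      ((TMul.mem_genLocus_iff_isUnit _ (hg'.res inf_le_left) (c := c) (by rw [val_homOf]; exact hc.symm) hyV).mp hgen)

end Gen

variable {k : Type u} [Field k] {X : Scheme.{u}} [X.Over (Spec (CommRingCat.of k))]
  [IsProper (X ↘ Spec (CommRingCat.of k))]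

include k in
theorem not_isAffine_of_dim_one (hdim : topologicalKrullDim X = 1) : ¬ IsAffineOpen (⊤ : X.Opens) := fun h => by
  haveI : IsAffine (⊤ : X.Opens) := h
  haveI : IsAffine X := IsAffine.of_isIso X.topIso.inv
  haveI : IsFinite (X ↘ Spec (CommRingCat.of k)) :=
    IsFinite.iff_isProper_and_isAffineHom.mpr ⟨inferInstance, inferInstance⟩
  let y : Spec (CommRingCat.of k) := Classical.arbitrary _
  have he : ((X ↘ Spec (CommRingCat.of k)) ⁻¹' {y}) = Set.univ :=
    Set.eq_univ_of_forall fun x => Subsingleton.elim (α := PrimeSpectrum k) _ _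
  have hd := (X ↘ Spec (CommRingCat.of k)).isDiscrete_preimage_singleton y
  rw [he] at hd
  haveI : DiscreteTopology (Set.univ : Set X) := hd.to_subtype
  haveI : DiscreteTopology X := (Homeomorph.Set.univ X).discreteTopology
  have := topologicalKrullDim_zero_of_discreteTopology X
  rw [hdim] at this
  exact absurd this (by decide)

/-- Twisting by high powers of a module of positive degree kills `H^1` of an ideal with finite support. -/
theorem exists_vanish [IsIntegral X] (hdim : topologicalKrullDim X ≤ 1) {L : X.Modules} (hL : PicF.IsInvertible L)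
    (hdeg : 0 < Curv2.deg k X L 1) (I : X.IdealSheafData) (hI : topologicalKrullDim (I.support : Set X) ≤ 0) :
    ∃ n : ℕ, Subsingleton (Coh.HH X (CohB1.tensorMod (ClSub.idealMod I) (CohB1.tensorPow L (n + 1))) 1) := by
  haveI := isNoetherian_of_proper k X
  refine ⟨((Curv2.genus k X : ℤ) - Curv2.euler k X (Coh.structureModule X) + h k (ClSub.quotMod I) 0).toNat, ?_⟩
  set n := ((Curv2.genus k X : ℤ) - Curv2.euler k X (Coh.structureModule X) + h k (ClSub.quotMod I) 0).toNat with hn
  have hP := TMul.isInvertible_tensorPow hL (n + 1)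
  by_contra h1
  rw [not_subsingleton_iff_nontrivial] at h1
  obtain ⟨j, hj⟩ := exists_mono_ideal_tensor hP I
  have hle := h0_le_genus (k := k) hdim (isCoh_tensor' (isCoh_idealMod I).1 (isCoh_of_inv hP)) hP j h1
  have he := euler_ideal_tensor (k := k) hP I hI
  rw [euler_eq hdim] at he
  have hd := deg_tensorPow (k := k) hdim hL (n + 1)
  rw [Curv2.deg] at hd
  push_cast at hd
  have hn' : (Curv2.genus k X : ℤ) - Curv2.euler k X (Coh.structureModule X) + h k (ClSub.quotMod I) 0 ≤ n :=
    hn ▸ Int.self_le_toNat _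
  have hmul : (n : ℤ) + 1 ≤ ((n : ℤ) + 1) * Curv2.deg k X L 1 := le_mul_of_one_le_right (by omega) hdeg
  rw [one_mul] at hd
  omega

theorem isAmple_of_deg_pos [IsIntegral X] (hdim : topologicalKrullDim X = 1) {L : X.Modules}
    (hL : PicF.IsInvertible L) (hdeg : 0 < Curv2.deg k X L 1) : CohB1.IsAmple L := by
  haveI := isNoetherian_of_proper k X
  refine ⟨hL, inferInstance, fun x => ?_⟩
  obtain ⟨z, hz, hzc⟩ := (isClosed_closure (s := ({x} : Set X))).exists_closed_singleton ⟨x, subset_closure rfl⟩
  obtain ⟨W, hW, hzW, -⟩ := exists_isAffineOpen_mem_and_subset (x := z) (U := (⊤ : X.Opens)) trivial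
  let Z : Closeds X := ⟨(W : Set X)ᶜ ∪ {z}, W.2.isClosed_compl.union hzc⟩
  set I := Scheme.IdealSheafData.vanishingIdeal Z with hI
  have hsupp : (I.support : Set X) = (W : Set X)ᶜ ∪ {z} := by rw [hI]; simp [Z]
  have hd : topologicalKrullDim (I.support : Set X) ≤ 0 := dim_le_zero_of_closed hdim.le I.support.isClosed (by
    rw [hsupp]
    rintro (h | h)
    · exact h ((genericPoint_specializes z).mem_open W.2 hzW)
    · exact genericPoint_ne_of_closed (k := k) hdim hzc h)
  obtain ⟨n, hn⟩ := exists_vanish (k := k) hdim.le hL hdeg I hd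
  have hP := TMul.isInvertible_tensorPow hL (n + 1)
  have hT := shortExact_tmap hP (ideal_shortExact I)
  have hsurj : Function.Surjective (hhMap k (tmap (ClSub.toSubscheme I) (CohB1.tensorPow L (n + 1))) 0) := fun y => by
    have : y ∈ LinearMap.range (hhMap k (tmap (ClSub.toSubscheme I) (CohB1.tensorPow L (n + 1))) 0) :=
      (range_g_eq_ker_δ hT 0).ge (LinearMap.mem_ker.mpr (Subsingleton.elim _ _))
    exact this
  have hrest : IsClosed ((I.support : Set X) \ {z}) := by
    have hs : (I.support : Set X) \ {z} = (W : Set X)ᶜ := by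
      rw [hsupp]
      ext y
      simp only [Set.mem_diff, Set.mem_union, Set.mem_compl_iff, Set.mem_singleton_iff]
      refine ⟨fun h => h.1.resolve_right h.2, fun h => ⟨Or.inl h, fun e => h (e ▸ hzW)⟩⟩
    rw [hs]; exact W.2.isClosed_compl
  obtain ⟨t, ht, hout⟩ := exists_section_gen_only hP I (by rw [hsupp]; exact Or.inr rfl) hzc hrest
    ((surjective_hh0_iff (k := k) _).mp hsurj)
  refine ⟨n, homOf t, (specializes_iff_mem_closure.mpr hz).mem_open (CohB1.genLocus _ (homOf t)).2 ht, ?_⟩
  have hle : CohB1.genLocus (CohB1.tensorPow L (n + 1)) (homOf t) ≤ W := fun y hy => by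
    by_contra hyW
    exact hout y (by rw [hsupp]; exact Or.inl hyW) (fun e => hyW (e ▸ hzW)) hy
  have := TMul.isAffineOpen_inf_genLocus hP (homOf t) hW
  rwa [inf_eq_right.mpr hle] at this

theorem deg_pos_of_isAmple [IsIntegral X] (hdim : topologicalKrullDim X = 1) {L : X.Modules}
    (hL : CohB1.IsAmple L) : 0 < Curv2.deg k X L 1 := by
  obtain ⟨n, s, hs, haff⟩ := hL.2.2 (genericPoint X)
  have hP := TMul.isInvertible_tensorPow hL.1 (n + 1)
  have hne : s ≠ 0 := fun h => by rw [h, TMul.genLocus_zero] at hs; exact hs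
  obtain ⟨hle, hiso⟩ := deg_le_and_isIso (k := k) hdim.le TMul.isInvertible_structureModule hP s hne
  rw [deg_structure] at hle hiso
  have hd := deg_tensorPow (k := k) hdim.le hL.1 (n + 1)
  by_contra hc
  push Not at hc
  have h0 : Curv2.deg k X (CohB1.tensorPow L (n + 1)) 1 = 0 := by
    have : ((n + 1 : ℕ) : ℤ) * Curv2.deg k X L 1 ≤ 0 := mul_nonpos_of_nonneg_of_nonpos (by positivity) hc
    omega
  haveI := hiso h0.symm
  refine not_isAffine_of_dim_one (k := k) hdim ?_
  have : CohB1.genLocus (CohB1.tensorPow L (n + 1)) s = ⊤ := top_le_iff.mp fun x _ => Opens.mem_sSup.mpr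
    ⟨⊤, by change IsIso _; infer_instance, trivial⟩
  exact this ▸ haff

end Groth.Agent.CurveRR
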