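import Groth.Agent.CurveRR.Curve
import Groth.Agent.TMul.GlobGen
import Groth.Agent.TMul.AmpleBasis

/-!
Degrees of invertible modules on integral proper curves: monotonicity along nonzero maps, vanishing of `H^1`
in large degree, global functions over an algebraically closed field.
-/

set_option autoImplicit false
set_option backward.isDefEq.respectTransparency false
set_option linter.style.haveILetI false

universe u

open CategoryTheory CategoryTheory.Limits AlgebraicGeometry TopologicalSpace Opposite
open Groth.Agent.CohFinite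
open Groth.Agent.QC (res resO res_res res_self res_smul resO_resO resO_self section_eq_of_locally app_res)
open Groth.Agent.WeakAssLib (mgerm mgerm_res mgerm_smul stalkHom stalkHom_germ stalkHom_smul)
open TMul (IsGen homOf val_homOf)

noncomputable section

namespace Groth.Agent.CurveRR

theorem isCoh_of_inv {X : Scheme.{u}} {L : X.Modules} (hL : PicF.IsInvertible L) : Coh.IsCoh L :=
  ⟨TMul.isQCoh_of_isInvertible hL, TMul.isFT_of_isInvertible hL⟩

/-- A nonzero map of invertible modules on an integral scheme is injective. -/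
theorem mono_of_ne_zero {X : Scheme.{u}} [IsIntegral X] {N L : X.Modules} (hN : PicF.IsInvertible N)
    (hL : PicF.IsInvertible L) (φ : N ⟶ L) (hφ : φ ≠ 0) : Mono φ := by
  refine (Groth.Agent.QC.mono_iff_app_injective φ).2 fun U =>
    (injective_iff_map_eq_zero _).2 fun s hs => section_eq_of_locally fun x hx => ?_
  refine ⟨U, le_rfl, hx, ?_⟩
  rw [res_self, map_zero]
  have hηU : genericPoint X ∈ U := (genericPoint_specializes x).mem_open U.2 hx
  refine eq_zero_of_germ_generic hN s hηU ?_
  obtain ⟨D, g, hηD, hg⟩ := TMul.exists_isGen hN (genericPoint X)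
  obtain ⟨r, hr⟩ := ZeroSch.exists_smul_germ hg hηD (mgerm N hηU s)
  obtain ⟨D', g', hηD', hg'⟩ := TMul.exists_isGen hL (genericPoint X)
  obtain ⟨c, hc⟩ := ZeroSch.exists_smul_germ hg' hηD' (stalkHom φ (genericPoint X) (mgerm N hηD g))
  have h0 : (r * c) • mgerm L hηD' g' = (0 : X.presheaf.stalk (genericPoint X)) • mgerm L hηD' g' := by
    rw [zero_smul, mul_smul, ← hc, ← stalkHom_smul, ← hr, stalkHom_germ, hs, map_zero]
  letI : Field (X.presheaf.stalk (genericPoint X)) := inferInstanceAs (Field X.functionField)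
  rcases mul_eq_zero.1 (ZeroSch.eq_of_germ_smul hg' hηD' h0) with hr0 | hc0
  · rw [hr, hr0, zero_smul]
  · exfalso
    obtain ⟨w, hw⟩ := surjective_stalk_generic hL φ hφ (mgerm L hηD' g')
    obtain ⟨a, ha⟩ := ZeroSch.exists_smul_germ hg hηD w
    rw [ha, stalkHom_smul, hc, hc0, zero_smul, smul_zero] at hw
    exact one_ne_zero (ZeroSch.eq_of_germ_smul hg' hηD'
      (show (1 : X.presheaf.stalk (genericPoint X)) • mgerm L hηD' g' = (0 : X.presheaf.stalk (genericPoint X)) • mgerm L hηD' g' by
        rw [one_smul, zero_smul]; exact hw.symm))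

variable {k : Type u} [Field k] {X : Scheme.{u}} [X.Over (Spec (CommRingCat.of k))]
  [IsProper (X ↘ Spec (CommRingCat.of k))]

theorem deg_structure : Curv2.deg k X (Coh.structureModule X) 1 = 0 := by
  simp [Curv2.deg]

include k in
/-- A coherent module with finite support and no global sections is zero. -/
theorem isZero_of_h0 {Q : X.Modules} {S : Set X} (hS : IsClosed S)
    (hd : topologicalKrullDim S ≤ 0) (hsupp : CohB1.support Q ⊆ S) (h : Subsingleton Γ(Q, ⊤)) : IsZero Q := by
  haveI := isNoetherian_of_proper k X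
  refine (IsZero.iff_id_eq_zero Q).2 (Scheme.Modules.hom_ext _ _ fun U => ?_)
  ext s
  obtain ⟨a, ha⟩ := SuppZero.exists_extend_global Q
    (fun T hT => SuppZero.isClosed_of_subset hS hd T (hT.trans hsupp)) U s
  show s = 0
  rw [← ha, Subsingleton.elim a 0, map_zero]

/-- `deg L = deg N + h^0(coker φ)`, and `deg N = deg L` forces an isomorphism. -/
theorem deg_le_and_isIso [IsIntegral X] (hdim : topologicalKrullDim X ≤ 1) {N L : X.Modules}
    (hN : PicF.IsInvertible N) (hL : PicF.IsInvertible L) (φ : N ⟶ L) (hφ : φ ≠ 0) :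
    Curv2.deg k X N 1 ≤ Curv2.deg k X L 1 ∧ (Curv2.deg k X N 1 = Curv2.deg k X L 1 → IsIso φ) := by
  haveI := isNoetherian_of_proper k X
  haveI := mono_of_ne_zero hN hL φ hφ
  have hC : Coh.IsCoh (cokernel φ) := Groth.Agent.QC.isCoh_cokernel (isCoh_of_inv hN).1 (isCoh_of_inv hL) φ
  have hcl := Groth.Agent.QC.isClosed_support hC.2
  have hd := dim_le_zero_of_closed hdim hcl (notMem_support_coker φ _ (surjective_stalk_generic hL φ hφ))
  have hS : (ShortComplex.mk φ (cokernel.π φ) (cokernel.condition φ)).ShortExact :=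
    { exact := ShortComplex.exact_cokernel φ, mono_f := inferInstance, epi_g := inferInstance }
  have hadd := euler_add (k := k) hS (isCoh_of_inv hN) (isCoh_of_inv hL) hC
  have hQ : Curv2.euler k X (cokernel φ) = h k (cokernel φ) 0 := euler_eq_h0 fun i hi =>
    SuppZero.subsingleton_hh_of_supported hcl hd _ (fun _ hy => hy) i hi
  change Curv2.euler k X L = Curv2.euler k X N + Curv2.euler k X (cokernel φ) at hadd
  have hd' : Curv2.deg k X L 1 = Curv2.deg k X N 1 + (h k (cokernel φ) 0 : ℤ) := by
    rw [Curv2.deg, Curv2.deg, hadd, hQ]; ring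
  refine ⟨by omega, fun he => ?_⟩
  have h0 : h k (cokernel φ) 0 = 0 := by omega
  haveI := finite_proper k X _ hC 0
  haveI : Subsingleton (Coh.HH X (cokernel φ) 0) := Module.finrank_zero_iff.1 h0
  haveI : Subsingleton Γ(cokernel φ, ⊤) := (secH0 (k := k) (cokernel φ)).toEquiv.subsingleton
  haveI : Epi φ := Preadditive.epi_of_isZero_cokernel φ (isZero_of_h0 (k := k) hcl hd le_rfl ‹_›)
  exact isIso_of_mono_of_epi φ

/-- Degree at most zero with a section: trivial. -/
theorem nonempty_iso_of_section [IsIntegral X] (hdim : topologicalKrullDim X ≤ 1) {L : X.Modules}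
    (hL : PicF.IsInvertible L) (s : Coh.structureModule X ⟶ L) (hs : s ≠ 0) (hdeg : Curv2.deg k X L 1 ≤ 0) :
    Nonempty (L ≅ Coh.structureModule X) := by
  obtain ⟨h1, h2⟩ := deg_le_and_isIso (k := k) hdim TMul.isInvertible_structureModule hL s hs
  rw [deg_structure] at h1 h2
  haveI := h2 (by omega)
  exact ⟨(asIso s).symm⟩

/-- A module with a global section is the target of a nonzero map from `O`. -/
theorem exists_section {L : X.Modules} (h : h k L 0 ≠ 0) : ∃ s : Coh.structureModule X ⟶ L, s ≠ 0 := by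
  letI := secMod k L ⊤
  obtain ⟨t, ht⟩ : ∃ t : Γ(L, ⊤), t ≠ 0 := by
    by_contra! hh
    haveI : Subsingleton Γ(L, ⊤) := ⟨fun a b => (hh a).trans (hh b).symm⟩
    exact h (by rw [← finrank_sec]; exact Module.finrank_zero_of_subsingleton)
  refine ⟨homOf t, fun h0 => ht ?_⟩

  have := val_homOf (L := L) t ⊤
  rw [res_self] at this
  rw [← this, h0]
  rfl

/-- Above `2g-2`, `H^1` vanishes. -/
theorem subsingleton_h1 [IsIntegral X] (hdim : topologicalKrullDim X ≤ 1)
    (h0 : h k (Coh.structureModule X) 0 = 1) {L : X.Modules} (hL : PicF.IsInvertible L)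
    (hdeg : 2 * (Curv2.genus k X : ℤ) - 1 ≤ Curv2.deg k X L 1) : Subsingleton (Coh.HH X L 1) := by
  by_contra hn
  rw [not_subsingleton_iff_nontrivial] at hn
  haveI := finite_proper k X _ (isCoh_of_inv hL) 1
  have h1 : 0 < h k L 1 := Module.finrank_pos
  have h2 := h0_le_genus (k := k) hdim (isCoh_of_inv hL) hL (𝟙 L) hn
  rw [Curv2.deg, euler_structure hdim h0, euler_eq hdim] at hdeg
  push_cast at hdeg
  omega

theorem h0_eq_of_deg [IsIntegral X] (hdim : topologicalKrullDim X ≤ 1)
    (h0 : h k (Coh.structureModule X) 0 = 1) {L : X.Modules} (hL : PicF.IsInvertible L)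
    (hdeg : 2 * (Curv2.genus k X : ℤ) - 1 ≤ Curv2.deg k X L 1) :
    (h k L 0 : ℤ) = Curv2.deg k X L 1 + 1 - Curv2.genus k X := by
  haveI := subsingleton_h1 hdim h0 hL hdeg
  rw [Curv2.deg, euler_structure hdim h0, euler_eq hdim, show h k L 1 = 0 from h_eq_zero ‹_›]
  push_cast
  ring

/-- Over an algebraically closed field the global functions are the constants. -/
theorem h0_structure (k : Type u) [Field k] [IsAlgClosed k] (X : Scheme.{u})
    [X.Over (Spec (CommRingCat.of k))] [IsProper (X ↘ Spec (CommRingCat.of k))] [IsIntegral X] :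
    h k (Coh.structureModule X) 0 = 1 := by
  let f := X ↘ Spec (CommRingCat.of k)
  let F : CommRingCat.of k ⟶ Γ(X, ⊤) := (Scheme.ΓSpecIso _).inv ≫ f.appTop
  letI : Field Γ(X, ⊤) := (isField_of_universallyClosed k f).toField
  letI : Algebra k Γ(X, ⊤) := F.hom.toAlgebra
  haveI : Algebra.IsIntegral k Γ(X, ⊤) := ⟨by
    have : F.hom.IsIntegral := by
      apply RingHom.isIntegral_respectsIso.2 (e := (Scheme.ΓSpecIso _).symm.commRingCatIsoToRingEquiv)
      exact isIntegral_appTop_of_universallyClosed f
    exact this⟩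
  have hb : Function.Bijective F.hom := IsAlgClosed.algebraMap_bijective_of_isIntegral (k := k) (K := Γ(X, ⊤))
  letI := secMod k (Coh.structureModule X) ⊤
  rw [← finrank_sec]
  let e : k →ₗ[k] Γ(Coh.structureModule X, ⊤) :=
    { toFun := fun a => cst k X ⊤ a
      map_add' := map_add _
      map_smul' := fun a b => by
        show cst k X ⊤ (a * b) = cst k X ⊤ a * cst k X ⊤ b
        exact map_mul _ _ _ }
  have he : Function.Bijective e := by
    have h1 : (cst k X ⊤ : k → Γ(X, ⊤)) = F.hom := funext fun a =>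
      (resO_self (le_top : (⊤ : X.Opens) ≤ ⊤) (Coh.toGlobal f a))
    show Function.Bijective (cst k X ⊤ : k → Γ(X, ⊤))
    rw [h1]; exact hb
  rw [← (LinearEquiv.ofBijective e he).finrank_eq, Module.finrank_self]

end Groth.Agent.CurveRR
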