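import Groth.Agent.CurveRR.Tensor

/-!
`h^0(L) ≤ deg L + 1`, with equality in positive degree only in genus zero.
-/

set_option autoImplicit false
set_option backward.isDefEq.respectTransparency false
set_option linter.style.haveILetI false

universe u

open CategoryTheory CategoryTheory.Limits AlgebraicGeometry TopologicalSpace Opposite
open Groth.Agent.CohFinite
open Groth.Agent.QC (res resO res_res res_self res_smul section_eq_of_locally app_res)
open TMul (IsGen homOf val_homOf tm)

noncomputable section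

namespace Groth.Agent.CurveRR

section Gen

variable {X : Scheme.{u}} {L Q P : X.Modules}

/-- Global sections of `Q ⊗ P` come from `L ⊗ P` when `P` has sections generating at the points of the finite
support of `Q`. -/
theorem exists_tmap_family (π : L ⟶ Q) (hπ : Function.Surjective (π.app ⊤)) {S : Set X} [Fintype S]
    (hcl : ∀ T : Set X, T ⊆ S → IsClosed T) (hQ : SuppIn Q S)
    (hgen : ∀ x : S, ∃ p : Γ(P, ⊤), x.1 ∈ CohB1.genLocus P (homOf p)) (v : Γ(CohB1.tensorMod Q P, ⊤)) :
    ∃ (l : S → Γ(L, ⊤)) (p : S → Γ(P, ⊤)), (tmap π P).app ⊤ (∑ x, tm (l x) (p x)) = v := by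
  classical
  choose p hp using hgen
  let U : S → X.Opens := fun x => CohB1.genLocus P (homOf (p x)) ⊓ ⟨(S \ {x.1})ᶜ, (hcl _ Set.diff_subset).isOpen_compl⟩
  let C : S → X.Opens := fun x => ⟨({x.1} : Set X)ᶜ, (hcl _ (Set.singleton_subset_iff.mpr x.2)).isOpen_compl⟩
  have hxU : ∀ x : S, x.1 ∈ U x := fun x => ⟨hp x, fun h => h.2 rfl⟩
  have hUC : ∀ x y : S, y ≠ x → U y ≤ C x := fun x y hne z hz h => hz.2 ⟨by
    rw [Set.mem_singleton_iff.mp h]; exact x.2, fun h' => hne (Subtype.ext (h'.symm.trans h))⟩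
  have hg : ∀ x, IsGen (res P (le_top : U x ≤ ⊤) (p x)) := fun x => by
    have := (TMul.isGen_genLocus (homOf (p x))).res (inf_le_left : U x ≤ _)
    rwa [val_homOf, res_res] at this
  have hq : ∀ x, ∃ q : Γ(Q, U x), tm q (res P (le_top : U x ≤ ⊤) (p x)) = res _ le_top v := fun x => by
    obtain ⟨q, hq⟩ := (TMul.tm_bijective (M := Q) (hg x) (U x) le_rfl).2 (res _ le_top v)
    exact ⟨q, by rw [← hq, res_self]⟩
  choose q hq using hq
  have ha : ∀ x, ∃ a : Γ(Q, ⊤), res Q (le_top : U x ≤ ⊤) a = q x ∧ res Q (le_top : C x ≤ ⊤) a = 0 := fun x => by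
    obtain ⟨a, ha, -⟩ := TopCat.Sheaf.existsUnique_gluing' (Groth.Agent.QC.abSheaf Q)
      (fun b : Bool => if b then U x else C x) ⊤ (fun b => homOfLE le_top)
      (fun y _ => Opens.mem_iSup.mpr (by
        by_cases hy : y = x.1
        · exact ⟨true, hy ▸ hxU x⟩
        · exact ⟨false, hy⟩))
      (fun b => match b with | true => q x | false => (0 : Γ(Q, C x)))
      (by
        suffices key : ∀ (W : X.Opens) (h1 : W ≤ U x) (h2 : W ≤ C x), res Q h1 (q x) = res Q h2 (0 : Γ(Q, C x)) by
          rintro (_ | _) (_ | _)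
          · rfl
          · exact (key _ inf_le_right inf_le_left).symm
          · exact key _ inf_le_left inf_le_right
          · rfl
        intro W h1 h2
        rw [map_zero]
        exact hQ W _ fun z hz hzS => (h1 hz).2 ⟨hzS, h2 hz⟩)
    exact ⟨a, ha true, ha false⟩
  choose a ha1 ha2 using ha
  choose l hl using fun x => hπ (a x)
  refine ⟨l, p, ?_⟩
  rw [map_sum]
  refine section_eq_of_locally fun y _ => ?_
  by_cases hy : y ∈ S
  · refine ⟨U ⟨y, hy⟩, le_top, hxU ⟨y, hy⟩, ?_⟩
    rw [map_sum, Finset.sum_eq_single (⟨y, hy⟩ : S), tmap_tm, hl, TMul.res_tm, ha1, hq]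
    · intro x _ hne
      rw [tmap_tm, hl, TMul.res_tm, ← res_res Q (hUC x ⟨y, hy⟩ (Ne.symm hne)) (le_top : C x ≤ ⊤), ha2, map_zero,
        TMul.zero_tm]
    · exact fun h => absurd (Finset.mem_univ _) h
  · refine ⟨⟨Sᶜ, (hcl S le_rfl).isOpen_compl⟩, le_top, hy, ?_⟩
    exact (suppIn_tensor hQ P _ _ fun z hz => hz).trans (suppIn_tensor hQ P _ _ fun z hz => hz).symm

theorem surjective_tmap_app (π : L ⟶ Q) (hπ : Function.Surjective (π.app ⊤)) {S : Set X} [Fintype S]
    (hcl : ∀ T : Set X, T ⊆ S → IsClosed T) (hQ : SuppIn Q S)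
    (hgen : ∀ x : S, ∃ p : Γ(P, ⊤), x.1 ∈ CohB1.genLocus P (homOf p)) :
    Function.Surjective ((tmap π P).app ⊤) := fun v =>
  let ⟨l, p, h⟩ := exists_tmap_family π hπ hcl hQ hgen v
  ⟨∑ x, tm (l x) (p x), h⟩

/-- If the sections of `L` fill the finitely supported quotient `Q`, some generates at each point of the support. -/
theorem exists_gen_of_surjective (hL : PicF.IsInvertible L) (π : L ⟶ Q) [Epi π] (hπ : Function.Surjective (π.app ⊤))
    (hext : ∀ (U : X.Opens) (s : Γ(Q, U)), ∃ a : Γ(Q, ⊤), res Q le_top a = s) {x : X}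
    (hx : x ∈ CohB1.support Q) : ∃ t : Γ(L, ⊤), x ∈ CohB1.genLocus L (homOf t) := by
  by_contra! hno
  obtain ⟨D, g, hxD, hg⟩ := TMul.exists_isGen hL x
  obtain ⟨a, ha⟩ := hext D (π.app D g)
  obtain ⟨t, ht⟩ := hπ a
  obtain ⟨c, hc⟩ := (hg D le_rfl).2 (res L le_top t)
  change c • res L le_rfl g = _ at hc
  rw [res_self] at hc
  have hu : IsUnit (1 - X.presheaf.germ D x hxD c) := IsLocalRing.isUnit_one_sub_self_of_mem_nonunits _
    fun hu => hno t ((TMul.mem_genLocus_iff_isUnit (homOf t) hg (c := c) (by rw [val_homOf]; exact hc.symm) hxD).mpr hu)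
  rw [show (1 : X.presheaf.stalk x) - X.presheaf.germ D x hxD c = X.presheaf.germ D x hxD (1 - c) by
    rw [map_sub, map_one]] at hu
  let V := X.basicOpen (1 - c)
  have hxV : x ∈ V := (X.mem_basicOpen _ x hxD).mpr hu
  have hVD : V ≤ D := X.basicOpen_le _
  have h0 : π.app D ((1 - c) • g) = 0 := by
    rw [sub_smul, one_smul, map_sub, hc, ← app_res, ht, ha, sub_self]
  have h1 : π.app V (res L hVD g) = 0 := by
    rw [← app_res]
    refine ZeroSch.unit_smul_cancel (ZeroSch.isUnit_res (1 - c)) ?_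
    rw [smul_zero, ← res_smul, ← TMul.app_smul, h0, map_zero]
  refine ((Groth.Agent.QC.notMem_support_iff x).mpr fun U hxU s => ?_) hx
  obtain ⟨W, hW, hxW, b, hb⟩ := TMul.exists_app_eq_of_epi π s hxU
  obtain ⟨d, hd⟩ := (hg (W ⊓ V) (inf_le_right.trans hVD)).2 (res L inf_le_left b)
  change d • res L _ g = _ at hd
  refine ⟨W ⊓ V, inf_le_left.trans hW, ⟨hxW, hxV⟩, ?_⟩
  rw [← res_res Q inf_le_left hW, ← hb, app_res, ← hd, TMul.app_smul,
    ← res_res L inf_le_right hVD, ← app_res, h1, map_zero, smul_zero]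

end Gen

variable {k : Type u} [Field k] {X : Scheme.{u}} [X.Over (Spec (CommRingCat.of k))]

theorem hhMap_secH0 {M N : X.Modules} (φ : M ⟶ N) (s : Γ(M, ⊤)) :
    letI := secMod k M ⊤
    letI := secMod k N ⊤
    hhMap k φ 0 (secH0 (k := k) M s) = secH0 (k := k) N (φ.app ⊤ s) :=
  Sheaf.H.equiv₀_symm_naturality (Limits.isTerminalTop (α := X.Opens))
    ((SheafOfModules.toSheaf X.ringCatSheaf).map φ) s

theorem surjective_hh0_iff {M N : X.Modules} (φ : M ⟶ N) :
    Function.Surjective (hhMap k φ 0) ↔ Function.Surjective (φ.app ⊤) := by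
  letI := secMod k M ⊤
  letI := secMod k N ⊤
  refine ⟨fun h y => ?_, fun h y => ?_⟩
  · obtain ⟨x, hx⟩ := h (secH0 (k := k) N y)
    refine ⟨(secH0 (k := k) M).symm x, (secH0 (k := k) N).injective ?_⟩
    rw [← hhMap_secH0, LinearEquiv.apply_symm_apply, hx]
  · obtain ⟨x, hx⟩ := h ((secH0 (k := k) N).symm y)
    exact ⟨secH0 (k := k) M x, by rw [hhMap_secH0, hx, LinearEquiv.apply_symm_apply]⟩

variable [IsProper (X ↘ Spec (CommRingCat.of k))]

theorem h1_le_of_surjective {S : ShortComplex X.Modules} (hS : S.ShortExact) (h₂ : Coh.IsCoh S.X₂)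
    (hs : Function.Surjective (hhMap k S.g 0)) : h k S.X₁ 1 ≤ h k S.X₂ 1 := by
  haveI := finite_proper k X _ h₂ 1
  refine LinearMap.finrank_le_finrank_of_injective (f := hhMap k S.f 1) (LinearMap.ker_eq_bot.mp ?_)
  rw [← range_δ_eq_ker_f hS 0, LinearMap.range_eq_bot]
  refine LinearMap.ext fun x => ?_
  obtain ⟨y, rfl⟩ := hs x
  exact LinearMap.mem_ker.mp ((range_g_eq_ker_δ hS 0).le ⟨y, rfl⟩)

/-- The bound on the dimension of a linear series. -/
theorem series_bound [IsIntegral X] (hdim : topologicalKrullDim X ≤ 1)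
    (h0 : h k (Coh.structureModule X) 0 = 1) {L : X.Modules} (hL : PicF.IsInvertible L)
    (hs : h k L 0 ≠ 0) :
    (h k L 0 : ℤ) ≤ Curv2.deg k X L 1 + 1 ∧
      ((h k L 0 : ℤ) = Curv2.deg k X L 1 + 1 → 0 < Curv2.deg k X L 1 → Curv2.genus k X = 0) := by
  haveI := isNoetherian_of_proper k X
  obtain ⟨s, hs⟩ := exists_section hs
  have hO : Coh.IsCoh (Coh.structureModule X) := RefStalk.isCoh_structureModule
  haveI := mono_of_ne_zero TMul.isInvertible_structureModule hL s hs
  have hC : Coh.IsCoh (cokernel s) := Groth.Agent.QC.isCoh_cokernel hO.1 (isCoh_of_inv hL) s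
  have hcl := Groth.Agent.QC.isClosed_support hC.2
  have hd := dim_le_zero_of_closed hdim hcl (notMem_support_coker s _ (surjective_stalk_generic hL s hs))
  have hS : (ShortComplex.mk s (cokernel.π s) (cokernel.condition s)).ShortExact :=
    { exact := ShortComplex.exact_cokernel s, mono_f := inferInstance, epi_g := inferInstance }
  have hadd := euler_add (k := k) hS hO (isCoh_of_inv hL) hC
  change Curv2.euler k X L = Curv2.euler k X (Coh.structureModule X) + Curv2.euler k X (cokernel s) at hadd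
  rw [euler_eq_h0 (F := cokernel s) fun i hi =>
    SuppZero.subsingleton_hh_of_supported hcl hd _ (fun _ hy => hy) i hi] at hadd
  have hdeg : Curv2.deg k X L 1 = h k (cokernel s) 0 := by
    rw [Curv2.deg, hadd]; push_cast; ring
  haveI := finite_proper k X _ (isCoh_of_inv hL) 0
  haveI := finite_proper k X _ hC 0
  have e := (hhMap k (cokernel.π s) 0).finrank_range_add_finrank_ker
  have e' : Module.finrank k (LinearMap.ker (hhMap k (cokernel.π s) 0)) = 1 := by
    rw [← range_f_eq_ker_g hS 0, LinearMap.finrank_range_of_inj (injective_f hS)]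
    exact h0
  have hle : Module.finrank k (LinearMap.range (hhMap k (cokernel.π s) 0)) ≤ h k (cokernel s) 0 :=
    Submodule.finrank_le _
  refine ⟨by simp only [h] at e hle hdeg ⊢; omega, fun heq hpos => ?_⟩
  have hsurj : Function.Surjective (hhMap k (cokernel.π s) 0) := LinearMap.range_eq_top.mp
    (Submodule.eq_top_of_finrank_eq (by simp only [h] at e hle hdeg heq ⊢; omega))
  have hsurj' := (surjective_hh0_iff (k := k) _).mp hsurj
  haveI : Finite (CohB1.support (cokernel s)) := (finite_of_dim_le_zero (k := k) hcl hd).to_subtype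
  haveI := Fintype.ofFinite (CohB1.support (cokernel s))
  have hsub := SuppZero.isClosed_of_subset hcl hd
  have step : ∀ m : ℕ, h k (CohB1.tensorPow L m) 1 ≤ h k (CohB1.tensorPow L (m + 1)) 1 := by
    intro m
    have hP := TMul.isInvertible_tensorPow hL m
    have hT := shortExact_tmap hP hS
    have hgen : ∀ x : CohB1.support (cokernel s), ∃ p : Γ(CohB1.tensorPow L m, ⊤),
        x.1 ∈ CohB1.genLocus (CohB1.tensorPow L m) (homOf p) := fun x => by
      obtain ⟨t, ht⟩ := exists_gen_of_surjective hL (cokernel.π s) hsurj'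
        (fun U a => SuppZero.exists_extend_global _ hsub U a) x.2
      refine ⟨TMul.val (SecTwist.powHom (homOf t) m) ⊤, ?_⟩
      rw [show homOf (TMul.val (SecTwist.powHom (homOf t) m) ⊤) = SecTwist.powHom (homOf t) m from
        TMul.hom_ext_val (by rw [val_homOf, res_self])]
      cases m with
      | zero => exact Opens.mem_sSup.mpr ⟨⊤, by
          change IsIso ((Scheme.Modules.restrictFunctor (⊤ : X.Opens).ι).map (𝟙 (Coh.structureModule X)))
          rw [CategoryTheory.Functor.map_id]; infer_instance, trivial⟩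
      | succ m => rw [TMul.genLocus_powHom hL]; exact ht
    have := h1_le_of_surjective (k := k) hT (isCoh_tensor' (isCoh_of_inv hL) (isCoh_of_inv hP))
      ((surjective_hh0_iff (k := k) _).mpr
        (surjective_tmap_app (cokernel.π s) hsurj' hsub (suppIn_of_subset le_rfl) hgen))
    change h k (CohB1.tensorMod (Coh.structureModule X) (CohB1.tensorPow L m)) 1 ≤
      h k (CohB1.tensorMod L (CohB1.tensorPow L m)) 1 at this
    rw [h_eq_of_iso (TMul.leftUnitIso _), h_eq_of_iso (TMul.commIso L (CohB1.tensorPow L m))] at this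
    exact this
  have hmono : ∀ m : ℕ, h k (CohB1.tensorPow L 0) 1 ≤ h k (CohB1.tensorPow L m) 1 := fun m =>
    monotone_nat_of_le_succ step (Nat.zero_le m)
  have hv := subsingleton_h1 hdim h0 (TMul.isInvertible_tensorPow hL (2 * Curv2.genus k X)) (by
    rw [deg_tensorPow hdim hL]
    have : (Curv2.genus k X : ℤ) ≤ Curv2.genus k X * Curv2.deg k X L 1 := by
      nlinarith [Int.natCast_nonneg (Curv2.genus k X)]
    push_cast
    linarith)
  exact Nat.le_zero.mp ((hmono _).trans_eq (h_eq_zero (k := k) hv))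

end Groth.Agent.CurveRR
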