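import Groth.Agent.CurveRR.Series
import Groth.Agent.CurveRR.SmoothPt
import Groth.Agent.CurveRR.Deg
import Groth.Agent.CurveVA.GenusZero
import Groth.Agent.ParaFLib.Basic
import Groth.Agent.ParaFLib.Ext
import Groth.Agent.Horrocks.Dim
import Groth.Agent.ProjCech.Main
import Groth.Agent.SmoothRed.Scheme
import Groth.Agent.GrpField.Irreducible
import Groth.Agent.CohFinite.PushLinear
import Groth.Agent.SectionExt.Basic
import Groth.Agent.S0558

/-!
Consequences of Riemann–Roch on curves.
-/

set_option autoImplicit false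
set_option backward.isDefEq.respectTransparency false
set_option linter.style.haveILetI false
set_option linter.unusedSectionVars false

universe u

open CategoryTheory CategoryTheory.Limits AlgebraicGeometry TopologicalSpace
open Groth.Agent.CohFinite Groth.Agent.CurveRR

noncomputable section

namespace Groth.Agent.CurveRR.Easy

theorem irreducibleSpace_of_domain_stalks {X : Scheme.{u}} [IsNoetherian X] [ConnectedSpace X]
    (hdom : ∀ x : X, IsDomain (X.presheaf.stalk x)) : IrreducibleSpace X := by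
  refine Groth.Agent.GrpField.irreducibleSpace_of_nhds fun x => ?_
  haveI := hdom x
  obtain ⟨V, hxV, -, hV, -⟩ := Groth.Agent.SectionExt.exists_integral_nhd x ⊤ trivial
  refine ⟨V, V.isOpen, ?_, hxV⟩
  haveI := hV
  have h : IsIrreducible (Set.univ : Set V.toScheme) := IrreducibleSpace.isIrreducible_univ _
  have := h.image V.ι V.ι.continuous.continuousOn
  rwa [Set.image_univ, Scheme.Opens.range_ι] at this

theorem rank_add {X : Scheme.{u}} [Nonempty X] {S : ShortComplex X.Modules} (hS : S.ShortExact) {n₁ n₂ n₃ : ℕ}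
    (h₁ : FlatMod.IsFinLocFreeOfRank n₁ S.X₁) (h₂ : FlatMod.IsFinLocFreeOfRank n₂ S.X₂)
    (h₃ : FlatMod.IsFinLocFreeOfRank n₃ S.X₃) : n₂ = n₁ + n₃ := by
  obtain ⟨x⟩ := ‹Nonempty X›
  have key : ∀ {n : ℕ} {M : X.Modules}, FlatMod.IsFinLocFreeOfRank n M →
      Module.Free (X.presheaf.stalk x) (M.presheaf.stalk x) ∧ Module.Finite (X.presheaf.stalk x) (M.presheaf.stalk x) ∧
      Module.finrank (X.presheaf.stalk x) (M.presheaf.stalk x) = n := fun {n M} h => by
    obtain ⟨W, hxW, ⟨i⟩⟩ := h x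
    obtain ⟨b⟩ := LocFree.exists_basis_stalk i (isCoh_of_rank h).1 hxW
    exact ⟨Module.Free.of_basis b, Module.Finite.of_basis b, by
      rw [Module.finrank_eq_card_basis b, Fintype.card_ulift, Fintype.card_fin]⟩
  obtain ⟨_, _, e₁⟩ := key h₁
  obtain ⟨_, _, e₂⟩ := key h₂
  obtain ⟨_, _, e₃⟩ := key h₃
  have hT := hS.map_of_exact (DerSch.stalkFunctor X x)
  let f : S.X₁.presheaf.stalk x →ₗ[X.presheaf.stalk x] S.X₂.presheaf.stalk x :=
    ((DerSch.stalkFunctor X x).map S.f).hom
  let g : S.X₂.presheaf.stalk x →ₗ[X.presheaf.stalk x] S.X₃.presheaf.stalk x :=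
    ((DerSch.stalkFunctor X x).map S.g).hom
  have hexact : Function.Exact f g := LinearMap.exact_iff.mpr hT.exact.moduleCat_range_eq_ker.symm
  have hinj : Function.Injective f := (ModuleCat.mono_iff_injective _).1 hT.mono_f
  have hsurj : Function.Surjective g := (ModuleCat.epi_iff_surjective _).1 hT.epi_g
  obtain ⟨l, hl⟩ := Module.projective_lifting_property g LinearMap.id hsurj
  obtain ⟨e, -⟩ := ((hexact.split_tfae hinj hsurj).out 0 2).mp (Exists.intro l hl)
  rw [← e₂, ← e₁, ← e₃, e.finrank_eq, Module.finrank_prod]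

variable {k : Type u} [Field k] {X : Scheme.{u}} [X.Over (Spec (CommRingCat.of k))]
  [IsProper (X ↘ Spec (CommRingCat.of k))]

theorem deg_nonneg [IsIntegral X] (hdim : topologicalKrullDim X ≤ 1) {L : X.Modules} (hL : PicF.IsInvertible L)
    (s : Coh.structureModule X ⟶ L) (hs : s ≠ 0) : 0 ≤ Curv2.deg k X L 1 := by
  have := (deg_le_and_isIso (k := k) hdim TMul.isInvertible_structureModule hL s hs).1
  rwa [deg_structure] at this

theorem deg_pos_of_vanishing [IsIntegral X] (hdim : topologicalKrullDim X ≤ 1) {L : X.Modules} (hL : PicF.IsInvertible L)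
    (s : Coh.structureModule X ⟶ L) (hs : s ≠ 0) {x : X} (hx : x ∉ CohB1.genLocus L s) :
    0 < Curv2.deg k X L 1 := by
  have h := deg_le_and_isIso (k := k) hdim TMul.isInvertible_structureModule hL s hs
  rw [deg_structure] at h
  refine lt_of_le_of_ne h.1 fun he => hx ?_
  haveI := h.2 he
  exact Opens.mem_sSup.mpr ⟨⊤, by
    change IsIso ((Scheme.Modules.restrictFunctor (⊤ : X.Opens).ι).map s)
    infer_instance, trivial⟩

theorem subsingleton_h1_of_lt [IsIntegral X] (hdim : topologicalKrullDim X ≤ 1) {L : X.Modules}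
    (hL : PicF.IsInvertible L) (h : Curv2.genus k X < h k L 0) : Subsingleton (Coh.HH X L 1) := by
  by_contra hn
  rw [not_subsingleton_iff_nontrivial] at hn
  exact absurd (h0_le_genus hdim (isCoh_of_inv hL) hL (𝟙 L) hn) (not_le.mpr h)

theorem h0_le_deg [IsIntegral X] (hdim : topologicalKrullDim X ≤ 1) (h0 : h k (Coh.structureModule X) 0 = 1)
    (hg : 1 ≤ Curv2.genus k X) {L : X.Modules} (hL : PicF.IsInvertible L) (hdeg : 0 < Curv2.deg k X L 1) :
    (h k L 0 : ℤ) ≤ Curv2.deg k X L 1 := by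
  by_cases hs : h k L 0 = 0
  · omega
  obtain ⟨h1, h2⟩ := series_bound hdim h0 hL hs
  by_contra hh
  have := h2 (by omega) hdeg
  omega

theorem isIntegral_of_smooth [Smooth (X ↘ Spec (CommRingCat.of k))] [ConnectedSpace X]
    [IsAlgClosed k] : IsIntegral X := by
  haveI := isNoetherian_of_proper k X
  haveI : IsReduced X := Groth.Agent.SmoothRed.isReduced_of_smooth_scheme (X ↘ Spec (CommRingCat.of k))
  have hdom : ∀ x : X, IsDomain (X.presheaf.stalk x) := fun x => by
    haveI := (Groth.Agent.GeomProp.smoothLocus_iff_regular k X x).mp (by rw [Scheme.Hom.smoothLocus_eq_top]; trivial)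
    exact Groth.Agent.S0558.result _
  haveI : IrreducibleSpace X := irreducibleSpace_of_domain_stalks hdom
  exact isIntegral_of_irreducibleSpace_of_isReduced X

theorem exists_nonspecial_zero [IsIntegral X] [IsAlgClosed k] [Smooth (X ↘ Spec (CommRingCat.of k))]
    (hdim : topologicalKrullDim X = 1) :
    ∃ L : X.Modules, PicF.IsInvertible L ∧ Curv2.deg k X L 1 = (Curv2.genus k X : ℤ) - 1 ∧
      Subsingleton (Coh.HH X L 1) := by
  obtain ⟨L, hL, h0L, h1⟩ := exists_nonspecial (k := k) hdim 0 (by omega)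
  refine ⟨L, hL, ?_, h1⟩
  rw [Curv2.deg, euler_eq hdim.le, h0L, h_eq_zero h1, euler_structure hdim.le (h0_structure k X)]
  simp

theorem deg_sub_bdd [IsIntegral X] (hdim : topologicalKrullDim X ≤ 1) {E : X.Modules} (hE : Coh.IsCoh E) :
    ∃ N : ℤ, ∀ (M : X.Modules) (i : M ⟶ E), Mono i → PicF.IsInvertible M → Curv2.deg k X M 1 ≤ N := by
  haveI := isNoetherian_of_proper k X
  refine ⟨(h k E 0 : ℤ) - Curv2.euler k X (Coh.structureModule X), fun M i hi hM => ?_⟩
  haveI := finite_proper k X E hE 0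
  have hS : (ShortComplex.mk i (cokernel.π i) (cokernel.condition i)).ShortExact :=
    { exact := ShortComplex.exact_cokernel i, mono_f := hi, epi_g := inferInstance }
  have h : h k M 0 ≤ h k E 0 := LinearMap.finrank_le_finrank_of_injective (injective_f (k := k) hS)
  rw [Curv2.deg, euler_eq hdim M]
  push_cast
  omega

theorem deg_add (S : ShortComplex X.Modules) (hS : S.ShortExact) {n₁ n₂ n₃ : ℕ}
    (h₁ : FlatMod.IsFinLocFreeOfRank n₁ S.X₁) (h₂ : FlatMod.IsFinLocFreeOfRank n₂ S.X₂)
    (h₃ : FlatMod.IsFinLocFreeOfRank n₃ S.X₃) (hn : n₂ = n₁ + n₃) :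
    Curv2.deg k X S.X₂ n₂ = Curv2.deg k X S.X₁ n₁ + Curv2.deg k X S.X₃ n₃ := by
  rw [Curv2.deg, Curv2.deg, Curv2.deg, euler_add hS (isCoh_of_rank h₁) (isCoh_of_rank h₂) (isCoh_of_rank h₃), hn]
  push_cast
  ring

end Groth.Agent.CurveRR.Easy
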