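import Groth.Agent.CohFinite.Proper
import Groth.Agent.S0016
import Groth.Agent.S0458
import Groth.Agent.QC.Coherent
import Groth.Prelude.Def_Curv2

/-!
Euler characteristics on proper schemes over a field: finiteness, vanishing, additivity.
-/

set_option autoImplicit false
set_option backward.isDefEq.respectTransparency false
set_option linter.style.haveILetI false

universe u

open CategoryTheory CategoryTheory.Limits AlgebraicGeometry TopologicalSpace Opposite
open Groth.Agent.CohFinite

noncomputable section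

namespace Groth.Agent.CurveRR

variable {k : Type u} [Field k] {X : Scheme.{u}} [X.Over (Spec (CommRingCat.of k))]

/-- `dim H^q`. -/
abbrev h (k : Type u) [Field k] {X : Scheme.{u}} [X.Over (Spec (CommRingCat.of k))] (F : X.Modules) (q : ℕ) : ℕ :=
  Module.finrank k (Coh.HH X F q)

theorem h_eq_of_iso {F G : X.Modules} (e : F ≅ G) (q : ℕ) : h k F q = h k G q :=
  LinearEquiv.finrank_eq (hhEquiv k e q)

theorem euler_eq_of_iso {F G : X.Modules} (e : F ≅ G) : Curv2.euler k X F = Curv2.euler k X G :=
  finsum_congr fun i => by rw [show Module.finrank k (Coh.HH X F i) = _ from h_eq_of_iso e i]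

theorem h_eq_zero {F : X.Modules} {q : ℕ} (hv : Subsingleton (Coh.HH X F q)) : h k F q = 0 :=
  Module.finrank_zero_of_subsingleton

theorem euler_eq_sum (F : X.Modules) (N : ℕ) (hN : ∀ i, N ≤ i → Subsingleton (Coh.HH X F i)) :
    Curv2.euler k X F = ∑ i ∈ Finset.range N, (-1 : ℤ) ^ i * (h k F i : ℤ) := by
  refine finsum_eq_sum_of_support_subset _ fun i hi => ?_
  rw [Function.mem_support] at hi
  rw [Finset.coe_range, Set.mem_Iio]
  by_contra hlt
  exact hi (by rw [show Module.finrank k (Coh.HH X F i) = 0 from h_eq_zero (hN i (by omega))]; simp)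

theorem isNoetherian_of_proper (k : Type u) [Field k] (X : Scheme.{u}) [X.Over (Spec (CommRingCat.of k))]
    [IsProper (X ↘ Spec (CommRingCat.of k))] : IsNoetherian X := by
  haveI : IsLocallyNoetherian X := LocallyOfFiniteType.isLocallyNoetherian (X ↘ Spec (CommRingCat.of k))
  haveI : CompactSpace X := QuasiCompact.compactSpace_of_compactSpace (X ↘ Spec (CommRingCat.of k))
  exact {}

theorem exists_bound (k : Type u) [Field k] (X : Scheme.{u}) [X.Over (Spec (CommRingCat.of k))]
    [IsProper (X ↘ Spec (CommRingCat.of k))] : ∃ N : ℕ, 1 ≤ N ∧ ∀ (F : X.Modules), Coh.IsQCoh F → ∀ i, N ≤ i →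
    Subsingleton (Coh.HH X F i) := by
  haveI := isNoetherian_of_proper k X
  haveI : X.IsSeparated := ⟨by
    rw [show terminal.from X = (X ↘ Spec (CommRingCat.of k)) ≫ terminal.from _ from terminal.hom_ext _ _]
    infer_instance⟩
  obtain ⟨d, hd⟩ := Groth.Agent.S0016.result X
  exact ⟨d + 1, by omega, fun F hF i hi => hd F hF i (by omega)⟩

variable [IsProper (X ↘ Spec (CommRingCat.of k))]

section Additive

variable {S : ShortComplex X.Modules} (hS : S.ShortExact)

include hS in
theorem range_f_eq_ker_g (i : ℕ) :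
    LinearMap.range (hhMap k S.f i) = LinearMap.ker (hhMap k S.g i) := by
  ext x
  exact (map_g_eq_zero_iff (shortExact_toAb hS) i x).symm

include hS in
theorem range_g_eq_ker_δ (i : ℕ) :
    LinearMap.range (hhMap k S.g i) = LinearMap.ker (hhδ k hS i) := by
  ext x
  exact (δH_eq_zero_iff (shortExact_toAb hS) i x).symm

include hS in
theorem range_δ_eq_ker_f (i : ℕ) :
    LinearMap.range (hhδ k hS i) = LinearMap.ker (hhMap k S.f (i + 1)) := by
  ext x
  exact (map_f_eq_zero_iff (shortExact_toAb hS) i x).symm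

include hS in
theorem injective_f : Function.Injective (hhMap k S.f 0) :=
  map_f_injective (shortExact_toAb hS)

include hS in
/-- Additivity. -/
theorem euler_add (h₁ : Coh.IsCoh S.X₁) (h₂ : Coh.IsCoh S.X₂) (h₃ : Coh.IsCoh S.X₃) :
    Curv2.euler k X S.X₂ = Curv2.euler k X S.X₁ + Curv2.euler k X S.X₃ := by
  obtain ⟨N, -, hN⟩ := exists_bound k X
  have hf₁ : ∀ i, Module.Finite k (Coh.HH X S.X₁ i) := finite_proper k X _ h₁
  have hf₂ : ∀ i, Module.Finite k (Coh.HH X S.X₂ i) := finite_proper k X _ h₂
  have hf₃ : ∀ i, Module.Finite k (Coh.HH X S.X₃ i) := finite_proper k X _ h₃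
  rw [euler_eq_sum S.X₁ N (hN _ h₁.1), euler_eq_sum S.X₂ N (hN _ h₂.1), euler_eq_sum S.X₃ N (hN _ h₃.1)]
  let a : ℕ → ℤ := fun i => Module.finrank k (LinearMap.ker (hhMap k S.f i))
  have ha0 : a 0 = 0 := by
    simp only [a]
    rw [LinearMap.ker_eq_bot.2 (injective_f hS), finrank_bot, Nat.cast_zero]
  have hstep : ∀ i, (h k S.X₁ i : ℤ) + h k S.X₃ i - h k S.X₂ i = a i + a (i + 1) := fun i => by
    have e1 := (hhMap k S.f i).finrank_range_add_finrank_ker
    have e2 := (hhMap k S.g i).finrank_range_add_finrank_ker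
    have e3 := (hhδ k hS i).finrank_range_add_finrank_ker
    rw [range_f_eq_ker_g hS i] at e1
    rw [range_g_eq_ker_δ hS i] at e2
    rw [range_δ_eq_ker_f hS i] at e3
    simp only [a, h]
    omega
  have haN : a N = 0 := by
    haveI := hN S.X₁ h₁.1 N le_rfl
    simp only [a, Module.finrank_zero_of_subsingleton, Nat.cast_zero]
  have key : ∀ m : ℕ, ∑ i ∈ Finset.range m, (-1 : ℤ) ^ i * ((h k S.X₁ i : ℤ) + h k S.X₃ i - h k S.X₂ i) =
      a 0 - (-1 : ℤ) ^ m * a m := fun m => by
    induction m with
    | zero => simp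
    | succ m ih => rw [Finset.sum_range_succ, ih, hstep, pow_succ]; ring
  have := key N
  rw [ha0, haN, mul_zero, sub_zero] at this
  simp only [mul_sub, mul_add, Finset.sum_sub_distrib, Finset.sum_add_distrib] at this
  linarith

end Additive

section DimOne

include k in
theorem subsingleton_of_two_le (hdim : topologicalKrullDim X ≤ 1) (F : X.Modules) (i : ℕ) (hi : 2 ≤ i) :
    Subsingleton (Coh.HH X F i) := by
  haveI := isNoetherian_of_proper k X
  exact Groth.Agent.S0458.result (X := X.toPresheafedSpace.carrier) 1 hdim (Coh.toAb F) i (by omega)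

theorem euler_eq (hdim : topologicalKrullDim X ≤ 1) (F : X.Modules) :
    Curv2.euler k X F = (h k F 0 : ℤ) - h k F 1 := by
  rw [euler_eq_sum F 2 fun i hi => subsingleton_of_two_le (k := k) hdim F i hi, Finset.sum_range_succ,
    Finset.sum_range_one]
  ring

/-- `H^1` is right exact in dimension one. -/
theorem surjective_h1 (hdim : topologicalKrullDim X ≤ 1) {S : ShortComplex X.Modules} (hS : S.ShortExact) :
    Function.Surjective (hhMap k S.g 1) := fun x =>
  (δH_eq_zero_iff (shortExact_toAb hS) 1 x).1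
    ((subsingleton_of_two_le (k := k) hdim S.X₁ 2 le_rfl).elim _ _)

end DimOne

end Groth.Agent.CurveRR
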