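import Groth.Agent.CurveRR.Deg
import Groth.Agent.ResDesc.CartierFam

/-!
Sections vanishing on a closed subset, and global generation on curves in degree `≥ 2g`.
-/

set_option autoImplicit false
set_option backward.isDefEq.respectTransparency false
set_option linter.style.haveILetI false

universe u

open CategoryTheory CategoryTheory.Limits AlgebraicGeometry TopologicalSpace Opposite
open Groth.Agent.CohFinite
open Groth.Agent.QC (res resO res_res res_self res_smul resO_resO resO_self section_eq_of_locally app_res)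
open TMul (IsGen homOf val_homOf tm)

noncomputable section

namespace Groth.Agent.CurveRR

section Gen

variable {X : Scheme.{u}} {L : X.Modules}

theorem leftUnitIso_tm (M : X.Modules) {U : X.Opens} (r : Γ(X, U)) (m : Γ(M, U)) :
    (TMul.leftUnitIso M).hom.app U (tm (M := Coh.structureModule X) r m) = r • m := by
  show (SecTwist.unitorR M).hom.app U ((TMul.commHom _ M).app U (tm (M := Coh.structureModule X) r m)) = r • m
  rw [TMul.commHom_tm, ResDesc.unitorR_tm]

/-- The inclusion `I ⊗ L → L`. -/
def idealIncl (I : X.IdealSheafData) (L : X.Modules) : CohB1.tensorMod (ClSub.idealMod I) L ⟶ L :=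
  tmap (ClSub.idealModι I) L ≫ (TMul.leftUnitIso L).hom

theorem mono_idealIncl (hL : PicF.IsInvertible L) (I : X.IdealSheafData) : Mono (idealIncl I L) := by
  haveI := (shortExact_tmap hL (ideal_shortExact I)).mono_f
  exact mono_comp _ _

theorem idealIncl_tm (I : X.IdealSheafData) {U : X.Opens} (a : Γ(ClSub.idealMod I, U)) (m : Γ(L, U)) :
    (idealIncl I L).app U (tm a m) =
      HSMul.hSMul (α := Γ(X, U)) ((ClSub.idealModι I).app U a) m := by
  show (TMul.leftUnitIso L).hom.app U ((tmap (ClSub.idealModι I) L).app U (tm a m)) = _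
  rw [tmap_tm]
  exact leftUnitIso_tm L _ m

/-- A section generating nowhere on `Z` lies in `I_Z ⊗ L`. -/
theorem mem_range_idealIncl (hL : PicF.IsInvertible L) (Z : Closeds X) (t : Γ(L, ⊤))
    (h : ∀ z ∈ (Z : Set X), z ∉ CohB1.genLocus L (homOf t)) :
    ∃ u, (idealIncl (Scheme.IdealSheafData.vanishingIdeal Z) L).app ⊤ u = t := by
  set I := Scheme.IdealSheafData.vanishingIdeal Z with hI
  haveI := mono_idealIncl hL I
  have hS : (ShortComplex.mk (idealIncl I L) (cokernel.π (idealIncl I L)) (cokernel.condition _)).ShortExact :=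
    { exact := ShortComplex.exact_cokernel _, mono_f := inferInstance, epi_g := inferInstance }
  refine Groth.Agent.SiteCoh.sections_exact (shortExact_toAb hS) ⊤ t (section_eq_of_locally fun y _ => ?_)
  obtain ⟨D, g, hyD, hg⟩ := TMul.exists_isGen hL y
  obtain ⟨W, hW, hyW, hWD⟩ := exists_isAffineOpen_mem_and_subset hyD
  obtain ⟨c, hc⟩ := (hg W hWD).2 (res L le_top t)
  change c • res L hWD g = _ at hc
  have hcI : c ∈ I.ideal ⟨W, hW⟩ := by
    rw [hI, Scheme.IdealSheafData.vanishingIdeal_ideal, PrimeSpectrum.mem_vanishingIdeal]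
    intro p hp
    by_contra hcp
    have hmem : hW.fromSpec p ∈ X.basicOpen c := by
      have : p ∈ hW.fromSpec ⁻¹ᵁ X.basicOpen c := by rw [hW.fromSpec_preimage_basicOpen]; exact hcp
      exact this
    have hzW : hW.fromSpec p ∈ W := X.basicOpen_le c hmem
    refine h _ hp ((TMul.mem_genLocus_iff_isUnit (homOf t) (hg.res hWD) (c := c) ?_ hzW).mpr
      ((X.mem_basicOpen c _ hzW).mp hmem))
    rw [val_homOf]; exact hc.symm
  obtain ⟨a, ha⟩ := (Groth.Agent.QC.mem_range_idealModι_affine I ⟨W, hW⟩ c).mpr hcI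
  refine ⟨W, le_top, hyW, ?_⟩
  show res (cokernel (idealIncl I L)) le_top ((cokernel.π (idealIncl I L)).app ⊤ t) = _
  rw [map_zero, app_res, ← hc, show c • res L hWD g =
    (idealIncl I L).app W (tm a (res L hWD g)) by rw [idealIncl_tm, ha]]
  exact congrArg (fun ψ : _ ⟶ cokernel (idealIncl I L) => ψ.app W (tm a (res L hWD g))) (cokernel.condition _)

/-- Sections spanning locally from generating loci give global generation. -/
theorem isGloballyGenerated_of_closed [CompactSpace X] (hL : PicF.IsInvertible L)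
    (h : ∀ x : X, IsClosed ({x} : Set X) → ∃ t : Γ(L, ⊤), x ∈ CohB1.genLocus L (homOf t)) :
    Curv2.IsGloballyGenerated L := by
  refine TMul.isGloballyGenerated_of_genOn (hG := TMul.isQCoh_of_isInvertible hL) fun x => ?_
  obtain ⟨z, hz, hzc⟩ := (isClosed_closure (s := ({x} : Set X))).exists_closed_singleton ⟨x, subset_closure rfl⟩
  obtain ⟨t, ht⟩ := h z hzc
  have hxG : x ∈ CohB1.genLocus L (homOf t) :=
    (specializes_iff_mem_closure.mpr hz).mem_open (CohB1.genLocus L (homOf t)).2 ht
  obtain ⟨W, hW, hxW, hWG⟩ := exists_isAffineOpen_mem_and_subset hxG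
  refine ⟨W, hW, hxW, eq_top_iff.mpr fun s _ => ?_⟩
  obtain ⟨c, hc⟩ := (TMul.isGen_genLocus (homOf t) W hWG).2 s
  change c • res L hWG (TMul.val (homOf t) _) = s at hc
  rw [val_homOf, res_res] at hc
  rw [← hc]
  exact Submodule.smul_mem _ c (Submodule.subset_span ⟨t, rfl⟩)

end Gen

variable {k : Type u} [Field k] {X : Scheme.{u}} [X.Over (Spec (CommRingCat.of k))]
  [IsProper (X ↘ Spec (CommRingCat.of k))]

theorem h0_quotMod_pos (I : X.IdealSheafData) (hne : (I.support : Set X).Nonempty) :
    0 < h k (ClSub.quotMod I) 0 := by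
  haveI := isNoetherian_of_proper k X
  haveI := finite_proper k X _ (isCoh_idealMod I).2 0
  haveI : Nonempty I.subscheme := by
    obtain ⟨x, hx⟩ := hne
    rw [← I.range_subschemeι] at hx
    obtain ⟨y, -⟩ := hx
    exact ⟨y⟩
  haveI : Nonempty (I.subschemeι ⁻¹ᵁ (⊤ : X.Opens)) := ⟨⟨Classical.arbitrary _, trivial⟩⟩
  haveI : Nontrivial Γ(ClSub.quotMod I, ⊤) := inferInstanceAs (Nontrivial Γ(I.subscheme, I.subschemeι ⁻¹ᵁ ⊤))
  haveI : Nontrivial (Coh.HH X (ClSub.quotMod I) 0) :=
    (secH0 (k := k) (ClSub.quotMod I)).toEquiv.symm.nontrivial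
  exact Module.finrank_pos

/-- In degree `≥ 2g` an invertible module has no base point. -/
theorem exists_mem_genLocus [IsIntegral X] (hdim : topologicalKrullDim X ≤ 1)
    (h0 : h k (Coh.structureModule X) 0 = 1) {L : X.Modules} (hL : PicF.IsInvertible L)
    (hdeg : 2 * (Curv2.genus k X : ℤ) ≤ Curv2.deg k X L 1) {x : X} (hx : IsClosed ({x} : Set X)) :
    ∃ t : Γ(L, ⊤), x ∈ CohB1.genLocus L (homOf t) := by
  haveI := isNoetherian_of_proper k X
  by_contra! hno
  let I := Scheme.IdealSheafData.vanishingIdeal ⟨{x}, hx⟩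
  have hsupp : (I.support : Set X) = {x} := by simp [I]
  have hd : topologicalKrullDim (I.support : Set X) ≤ 0 := by
    rw [hsupp]
    exact topologicalKrullDim_zero_of_discreteTopology _
  have hM := isCoh_tensor (isCoh_idealMod I).1 hL
  haveI := mono_idealIncl hL I
  haveI := finite_proper k X _ hM 0
  have hle : h k L 0 ≤ h k (CohB1.tensorMod (ClSub.idealMod I) L) 0 := by
    letI := secMod k L ⊤
    letI := secMod k (CohB1.tensorMod (ClSub.idealMod I) L) ⊤
    haveI : Module.Finite k Γ(CohB1.tensorMod (ClSub.idealMod I) L, ⊤) :=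
      Module.Finite.equiv (secH0 (k := k) (CohB1.tensorMod (ClSub.idealMod I) L)).symm
    let φ : Γ(CohB1.tensorMod (ClSub.idealMod I) L, ⊤) →ₗ[k] Γ(L, ⊤) :=
      { toFun := (idealIncl I L).app ⊤
        map_add' := map_add _
        map_smul' := fun a s => TMul.app_smul _ _ _ }
    have := φ.finrank_range_le
    rw [LinearMap.range_eq_top.mpr fun t => mem_range_idealIncl hL ⟨{x}, hx⟩ t fun z hz => by
      rw [Set.mem_singleton_iff.mp hz]; exact hno t, finrank_top, finrank_sec, finrank_sec] at this
    exact this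
  have hv := subsingleton_h1 hdim h0 hL (by omega)
  have hge := h0_eq_of_deg hdim h0 hL (by omega)
  have he := euler_ideal_tensor (k := k) hL I hd
  rw [euler_eq hdim, euler_eq hdim, show h k L 1 = 0 from h_eq_zero hv] at he
  have hQ := h0_quotMod_pos (k := k) I (by rw [hsupp]; exact ⟨x, rfl⟩)
  haveI := finite_proper k X _ hM 1
  have hnt : Nontrivial (Coh.HH X (CohB1.tensorMod (ClSub.idealMod I) L) 1) := by
    rw [← Module.finrank_pos_iff (R := k)]
    change 0 < h k (CohB1.tensorMod (ClSub.idealMod I) L) 1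
    omega
  have := h0_le_genus (k := k) hdim hM hL (idealIncl I L) hnt
  omega

end Groth.Agent.CurveRR
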