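import Groth.Agent.CurveRR.Zero
import Groth.Agent.TMul.Ample
import Groth.Agent.InvGen.Basic
import Groth.Agent.QC.IdealMod
import Groth.Agent.RefStalk.Refl
import Groth.Agent.ZeroSch.Over
import Groth.Agent.CohFinite.Tensor
import Groth.Agent.CohFinite.Serre
import Groth.Agent.Unibranch.Chains
import Groth.Agent.Unibranch.FibreChains
import Groth.Agent.Unibranch.FibreDim
import Groth.Agent.CartierDim.Basic
import Groth.Agent.KoszulLib.SchKer
import Groth.Agent.CohFinite.RPushCoh

/-!
Integral proper curves: Riemann's inequality and vanishing of `H^1` without duality.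
-/

set_option autoImplicit false
set_option backward.isDefEq.respectTransparency false
set_option linter.style.haveILetI false

universe u

open CategoryTheory CategoryTheory.Limits AlgebraicGeometry TopologicalSpace Opposite
open Groth.Agent.CohFinite
open Groth.Agent.QC (res resO res_res res_self res_smul resO_resO section_eq_of_locally app_res)
open Groth.Agent.WeakAssLib (mgerm mgerm_res mgerm_smul stalkHom stalkHom_germ stalkHom_smul)
open TMul (IsGen homOf val_homOf)

noncomputable section

namespace Groth.Agent.CurveRR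

section Gen

variable {X : Scheme.{u}}

theorem shortExact_ker {A B : X.Modules} (f : A ⟶ B) [Epi f] :
    (ShortComplex.mk (kernel.ι f) f (kernel.condition f)).ShortExact :=
  { exact := ShortComplex.exact_of_f_is_kernel _ (kernelIsKernel f), mono_f := inferInstance, epi_g := ‹_› }

theorem isFinLocFreeOfRank_one {L : X.Modules} (hL : PicF.IsInvertible L) : FlatMod.IsFinLocFreeOfRank 1 L :=
  fun x => let ⟨U, hx, ⟨e⟩⟩ := hL x
    ⟨U, hx, ⟨e ≪≫ (coproductUniqueIso (fun _ : Fin 1 => Coh.structureModule (U : Scheme.{u}))).symm⟩⟩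

instance epi_toSubscheme (I : X.IdealSheafData) : Epi (ClSub.toSubscheme I) := by
  refine InvGen.epi_of_locally _ fun U t x hx => ?_
  obtain ⟨W, hW, hxW, hWU⟩ := exists_isAffineOpen_mem_and_subset hx
  obtain ⟨s, hs⟩ := Groth.Agent.KoszulLib.app_surjective I.subschemeι (U := ⟨W, hW⟩) (IsZariskiLocalAtTarget.restrict (P := @IsClosedImmersion) (inferInstance : IsClosedImmersion I.subschemeι) W)
    ((res (ClSub.quotMod I) hWU t : Γ(ClSub.quotMod I, W)))
  exact ⟨W, hWU, hxW, s, hs⟩

/-- The sequence of an ideal sheaf. -/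
theorem ideal_shortExact (I : X.IdealSheafData) :
    (ShortComplex.mk (ClSub.idealModι I) (ClSub.toSubscheme I) (kernel.condition _)).ShortExact :=
  shortExact_ker (ClSub.toSubscheme I)

theorem isCoh_idealMod [IsLocallyNoetherian X] (I : X.IdealSheafData) :
    Coh.IsCoh (ClSub.idealMod I) ∧ Coh.IsCoh (ClSub.quotMod I) := by
  have hq : Coh.IsQCoh (ClSub.quotMod I) := by
    haveI : (Coh.structureModule I.subscheme).IsQuasicoherent := Groth.Agent.QC.isQCoh_unit _
    exact Groth.Agent.QC.isQCoh_pushforward I.subschemeι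
  have h1 : Coh.IsCoh (ClSub.idealMod I) :=
    Groth.Agent.QC.isCoh_kernel RefStalk.isCoh_structureModule hq _
  have hS := ideal_shortExact I
  exact ⟨h1, isCoh_of_iso (IsColimit.coconePointUniqueUpToIso (cokernelIsCokernel (ClSub.idealModι I))
    hS.gIsCokernel) (Groth.Agent.QC.isCoh_cokernel h1.1 RefStalk.isCoh_structureModule _)⟩

theorem support_quotMod (I : X.IdealSheafData) : CohB1.support (ClSub.quotMod I) ⊆ (I.support : Set X) := by
  intro x hx
  by_contra hxI
  refine ((Groth.Agent.QC.notMem_support_iff x).mpr fun U hxU s =>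
    ⟨U ⊓ ⟨(I.support : Set X)ᶜ, I.support.isClosed.isOpen_compl⟩, inf_le_left, ⟨hxU, hxI⟩, ?_⟩) hx
  refine section_eq_of_locally (M := Coh.structureModule I.subscheme) fun z hz => ?_
  have : I.subschemeι z ∈ (I.support : Set X) := by rw [← I.range_subschemeι]; exact ⟨z, rfl⟩
  exact absurd this hz.2

/-- The generic stalk of the cokernel of a map surjective there is zero. -/
theorem notMem_support_coker {A B : X.Modules} (φ : A ⟶ B) (η : X)
    (h : Function.Surjective (stalkHom φ η)) : η ∉ CohB1.support (cokernel φ) := by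
  rw [Groth.Agent.QC.notMem_support_iff]
  intro U hU s
  obtain ⟨v, hv⟩ := (ModuleCat.epi_iff_surjective _).1
    (inferInstance : Epi ((DerSch.stalkFunctor X η).map (cokernel.π φ))) (mgerm _ hU s)
  obtain ⟨w, rfl⟩ := h v
  have h0 : mgerm _ hU s = 0 := by
    rw [← hv]
    obtain ⟨W, hW, a, rfl⟩ := A.presheaf.exists_germ_eq (x := η) w
    show stalkHom (cokernel.π φ) η (stalkHom φ η (mgerm A hW a)) = 0
    rw [stalkHom_germ, stalkHom_germ,
      show (cokernel.π φ).app W (φ.app W a) = (φ ≫ cokernel.π φ).app W a from rfl, cokernel.condition]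
    exact map_zero _
  obtain ⟨W, hxW, i, i', hW⟩ := TopCat.Presheaf.germ_eq (cokernel φ).presheaf η hU hU s 0 (h0.trans (map_zero _).symm)
  exact ⟨W, leOfHom i, hxW, hW.trans (map_zero _)⟩

/-- A section of an invertible module on an integral scheme vanishing at the generic point vanishes. -/
theorem eq_zero_of_germ_generic [IsIntegral X] {L : X.Modules} (hL : PicF.IsInvertible L) {U : X.Opens}
    (s : Γ(L, U)) (hη : genericPoint X ∈ U) (h : mgerm L hη s = 0) : s = 0 := section_eq_of_locally fun x hx => by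
  obtain ⟨D, g, hxD, hg⟩ := TMul.exists_isGen hL x
  obtain ⟨c, hc⟩ := (hg (D ⊓ U) inf_le_left).2 (res L inf_le_right s)
  refine ⟨D ⊓ U, inf_le_right, ⟨hxD, hx⟩, ?_⟩
  have hηV : genericPoint X ∈ D ⊓ U := (genericPoint_specializes x).mem_open (D ⊓ U).2 ⟨hxD, hx⟩
  change c • res L inf_le_left g = _ at hc
  rw [map_zero, ← hc]
  have h1 : X.presheaf.germ (D ⊓ U) (genericPoint X) hηV c • mgerm L hηV.1 g =
      (0 : X.presheaf.stalk (genericPoint X)) • mgerm L hηV.1 g := by
    rw [zero_smul, ← mgerm_res L (inf_le_left : D ⊓ U ≤ D) hηV g, ← mgerm_smul, hc,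
      mgerm_res L (inf_le_right : D ⊓ U ≤ U) hηV s]
    exact h
  have : c = 0 := germ_injective_of_isIntegral X (genericPoint X) hηV
    ((ZeroSch.eq_of_germ_smul hg hηV.1 h1).trans (map_zero _).symm)
  rw [this, zero_smul]

/-- A nonzero map into an invertible module is onto at the generic point. -/
theorem surjective_stalk_generic [IsIntegral X] {A L : X.Modules} (hL : PicF.IsInvertible L) (φ : A ⟶ L)
    (hφ : φ ≠ 0) : Function.Surjective (stalkHom φ (genericPoint X)) := by
  obtain ⟨D, g, hηD, hg⟩ := TMul.exists_isGen hL (genericPoint X)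
  obtain ⟨U, a, ha⟩ : ∃ (U : X.Opens) (a : Γ(A, U)), φ.app U a ≠ 0 := by
    by_contra! h
    exact hφ (Scheme.Modules.hom_ext _ _ fun U => by ext a; exact h U a)
  have hηU : genericPoint X ∈ U := by
    obtain ⟨x, hx⟩ : ∃ x, x ∈ U := by
      by_contra! hh
      exact ha (section_eq_of_locally fun y hy => absurd hy (hh y))
    exact (genericPoint_specializes x).mem_open U.2 hx
  obtain ⟨r, hr⟩ := ZeroSch.exists_smul_germ hg hηD (mgerm L hηU (φ.app U a))
  have hr0 : r ≠ 0 := fun h0 => ha (eq_zero_of_germ_generic hL _ hηU (by rw [hr, h0, zero_smul]))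
  intro v
  obtain ⟨r', hr'⟩ := ZeroSch.exists_smul_germ hg hηD v
  letI : Field (X.presheaf.stalk (genericPoint X)) := inferInstanceAs (Field X.functionField)
  refine ⟨(r' / r) • mgerm A hηU a, ?_⟩
  rw [stalkHom_smul, stalkHom_germ, hr, hr', smul_smul, div_mul_cancel₀ r' hr0]

variable [NoetherianSpace X]

/-- Closed proper subsets of an irreducible space of dimension one are finite. -/
theorem dim_le_zero_of_closed [IsIntegral X] (hdim : topologicalKrullDim X ≤ 1) {Z : Set X} (hZ : IsClosed Z)
    (hne : genericPoint X ∉ Z) : topologicalKrullDim Z ≤ 0 := by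
  haveI : QuasiSober Z := hZ.isClosedEmbedding_subtypeVal.quasiSober
  refine le_of_le_of_eq ?_ (Nat.cast_zero (R := WithBot ℕ∞))
  refine Groth.Agent.Unibranch.topologicalKrullDim_le_natCast fun l c hc => ?_
  have h1 := Groth.Agent.Unibranch.natCast_le_topologicalKrullDim
    (Fin.cons (genericPoint X) fun i => (c i).1) fun i => by
      refine Fin.cases ?_ (fun j => ?_) i
      · refine ⟨genericPoint_specializes _, fun h => hne ?_⟩
        simp only [Fin.castSucc_zero, Fin.cons_zero, Fin.cons_succ] at h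
        exact h ▸ (c 0).2
      · simp only [← Fin.succ_castSucc, Fin.cons_succ]
        exact ⟨(subtype_specializes_iff _ _).mp (hc j).1, fun h => (hc j).2 (Subtype.ext h)⟩
  have h2 := h1.trans hdim
  exact Nat.succ_le_succ_iff.mp (CartierDim.natCast_le_withBot.mp (h2.trans_eq Nat.cast_one.symm))

end Gen

variable {k : Type u} [Field k] {X : Scheme.{u}} [X.Over (Spec (CommRingCat.of k))]
  [IsProper (X ↘ Spec (CommRingCat.of k))]

/-- `H^1` surjects when the cokernel has finite support. -/
theorem h1_surjective (hdim : topologicalKrullDim X ≤ 1) {A B : X.Modules} (φ : A ⟶ B) {S : Set X}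
    (hS : IsClosed S) (hd : topologicalKrullDim S ≤ 0) (hsupp : CohB1.support (cokernel φ) ⊆ S) :
    Function.Surjective (hhMap k φ 1) := by
  haveI := isNoetherian_of_proper k X
  have h2 : Function.Surjective (hhMap k (Abelian.image.ι φ) 1) := fun x =>
    (map_g_eq_zero_iff (shortExact_toAb (shortExact_ker (cokernel.π φ))) 1 x).1
      ((SuppZero.subsingleton_hh_of_supported hS hd _ (fun y hy h => hy (hsupp h)) 1 le_rfl).elim _ _)
  have h1 := surjective_h1 (k := k) hdim (shortExact_ker (Abelian.factorThruImage φ))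
  intro x
  obtain ⟨y, rfl⟩ := h2 x
  obtain ⟨z, rfl⟩ := h1 y
  exact ⟨z, by rw [← hhMap_comp, Abelian.image.fac]⟩

/-- Scaling a section scales the map it names. -/
theorem toAbMap_homOf_smul (M : X.Modules) (a : k) (t : Γ(M, ⊤)) :
    toAbMap (homOf (cst k X ⊤ a • t)) =
      toAbMap (homOf t) ≫ Coh.smulAb M (Coh.toGlobal (X ↘ Spec (CommRingCat.of k)) a) := by
  ext W c
  show (homOf (cst k X ⊤ a • t)).app W.unop c =
    (Coh.smulAb M (Coh.toGlobal (X ↘ Spec (CommRingCat.of k)) a)).hom.app W ((homOf t).app W.unop c)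
  rw [Coh.smulAb_app, TMul.app_eq_smul, TMul.app_eq_smul, val_homOf, val_homOf, res_smul, smul_comm]
  exact congrArg (fun r : Γ(X, W.unop) => r • _) (resO_resO _ _ _)

/-- A nonzero section gives a surjection `H^1(O) → H^1(M)` when `M` sits in an invertible module. -/
theorem h1_homOf_surjective [IsIntegral X] (hdim : topologicalKrullDim X ≤ 1) {M L : X.Modules}
    (hM : Coh.IsCoh M) (hL : PicF.IsInvertible L) (j : M ⟶ L) [Mono j] {t : Γ(M, ⊤)} (ht : t ≠ 0) :
    Function.Surjective (hhMap k (homOf t) 1) := by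
  haveI := isNoetherian_of_proper k X
  have hne : homOf t ≫ j ≠ 0 := fun h0 => ht (by
    have h1 : j.app ⊤ t = 0 := by
      have := congrArg (fun ψ : Coh.structureModule X ⟶ L => ψ.app ⊤ (1 : Γ(X, ⊤))) h0
      refine Eq.trans ?_ (this.trans rfl)
      show j.app ⊤ t = j.app ⊤ ((homOf t).app ⊤ (1 : Γ(X, ⊤)))
      rw [TMul.app_eq_smul, val_homOf, one_smul, res_self]
    exact Groth.Agent.QC.app_injective_of_mono j ⊤ (h1.trans (map_zero _).symm))
  have hsurj : Function.Surjective (stalkHom (homOf t) (genericPoint X)) := fun v => by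
    obtain ⟨w, hw⟩ := surjective_stalk_generic hL _ hne (stalkHom j _ v)
    refine ⟨w, (ModuleCat.mono_iff_injective _).1
      (inferInstance : Mono ((DerSch.stalkFunctor X (genericPoint X)).map j)) ?_⟩
    exact Eq.trans (congrArg (fun (ψ : (DerSch.stalkFunctor X (genericPoint X)).obj (Coh.structureModule X) ⟶ _) =>
      ψ.hom w) ((DerSch.stalkFunctor X (genericPoint X)).map_comp (homOf t) j).symm) hw
  have hC : Coh.IsCoh (cokernel (homOf t)) :=
    Groth.Agent.QC.isCoh_cokernel RefStalk.isCoh_structureModule.1 hM _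
  have hcl := Groth.Agent.QC.isClosed_support hC.2
  exact h1_surjective hdim _ hcl (dim_le_zero_of_closed hdim hcl (notMem_support_coker _ _ hsurj)) le_rfl

/-- `h^1(M) ≠ 0` forces `h^0(M) ≤ h^1(O)`. -/
theorem h0_le_genus [IsIntegral X] (hdim : topologicalKrullDim X ≤ 1) {M L : X.Modules}
    (hM : Coh.IsCoh M) (hL : PicF.IsInvertible L) (j : M ⟶ L) [Mono j]
    (h1 : Nontrivial (Coh.HH X M 1)) : h k M 0 ≤ Curv2.genus k X := by
  haveI := isNoetherian_of_proper k X
  haveI := finite_proper k X (Coh.structureModule X) RefStalk.isCoh_structureModule 1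
  obtain ⟨x₀, hx₀⟩ := exists_ne (0 : Coh.HH X M 1)
  haveI : Module.Free k (Coh.HH X M 1) := Module.Free.of_divisionRing k _
  obtain ⟨lam, hlam⟩ : ∃ lam : Module.Dual k (Coh.HH X M 1), lam x₀ ≠ 0 := by
    by_contra! hh
    exact hx₀ ((Module.forall_dual_apply_eq_zero_iff k x₀).1 hh)
  letI := secMod k M ⊤
  let Φ : Γ(M, ⊤) →ₗ[k] Module.Dual k (Coh.HH X (Coh.structureModule X) 1) :=
    { toFun := fun t => lam.comp (hhMap k (homOf t) 1)
      map_add' := fun s t => LinearMap.ext fun x => by
        show lam (Sheaf.H.map (toAbMap (homOf (s + t))) 1 x) =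
          lam (Sheaf.H.map (toAbMap (homOf s)) 1 x) + lam (Sheaf.H.map (toAbMap (homOf t)) 1 x)
        rw [← map_add lam, ← Sheaf.H.map_add_apply]
        refine congrArg lam (congrArg (fun f => Sheaf.H.map f 1 x) ?_)
        rw [← Functor.map_add]
        refine congrArg toAbMap (TMul.hom_ext_val ?_)
        show TMul.val (homOf (s + t)) ⊤ = TMul.val (homOf s) ⊤ + TMul.val (homOf t) ⊤
        rw [val_homOf, val_homOf, val_homOf, map_add]
      map_smul' := fun a t => LinearMap.ext fun x => by
        show lam (Sheaf.H.map (toAbMap (homOf (cst k X ⊤ a • t))) 1 x) =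
          a • lam (Sheaf.H.map (toAbMap (homOf t)) 1 x)
        rw [← map_smul lam, toAbMap_homOf_smul, Sheaf.H.map_comp_apply]
        rfl }
  have hΦ : Function.Injective Φ := (injective_iff_map_eq_zero Φ).2 fun t ht => by
    by_contra ht0
    obtain ⟨y, hy⟩ := h1_homOf_surjective (k := k) hdim hM hL j ht0 x₀
    exact hlam (by rw [← hy]; exact LinearMap.congr_fun ht y)
  have := LinearMap.finrank_le_finrank_of_injective hΦ
  rw [Subspace.dual_finrank_eq, finrank_sec] at this
  exact this

/-- `χ(I ⊗ L) = χ(L) - h^0(O/I)`. -/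
theorem euler_ideal_tensor {L : X.Modules} (hL : PicF.IsInvertible L) (Z : X.IdealSheafData)
    (hZ : topologicalKrullDim (Z.support : Set X) ≤ 0) :
    Curv2.euler k X (CohB1.tensorMod (ClSub.idealMod Z) L) =
      Curv2.euler k X L - h k (ClSub.quotMod Z) 0 := by
  haveI := isNoetherian_of_proper k X
  obtain ⟨hI, hQ⟩ := isCoh_idealMod Z
  have hS := shortExact_tmap hL (ideal_shortExact Z)
  have h1 := euler_add (k := k) hS (isCoh_tensor hI hL) (isCoh_tensor RefStalk.isCoh_structureModule hL) (isCoh_tensor hQ hL)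
  have h2 : Curv2.euler k X (CohB1.tensorMod (ClSub.quotMod Z) L) = h k (ClSub.quotMod Z) 0 := by
    rw [euler_eq_of_iso (TMul.commIso (ClSub.quotMod Z) L), euler_tensor_zeroDim hQ Z.support.isClosed hZ
      (support_quotMod Z) (isFinLocFreeOfRank_one hL), Nat.cast_one, one_mul]
    exact euler_eq_h0 fun i hi => SuppZero.subsingleton_hh_of_supported Z.support.isClosed hZ _
      (fun x hx h => hx (support_quotMod Z h)) i hi
  have h3 : Curv2.euler k X (CohB1.tensorMod (Coh.structureModule X) L) = Curv2.euler k X L :=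
    euler_eq_of_iso (TMul.leftUnitIso L)
  change Curv2.euler k X (CohB1.tensorMod (Coh.structureModule X) L) =
    Curv2.euler k X (CohB1.tensorMod (ClSub.idealMod Z) L) + Curv2.euler k X (CohB1.tensorMod (ClSub.quotMod Z) L) at h1
  rw [h3, h2] at h1
  omega

/-- `I ⊗ L ⊆ L`. -/
theorem exists_mono_ideal_tensor {L : X.Modules} (hL : PicF.IsInvertible L) (Z : X.IdealSheafData) :
    ∃ j : CohB1.tensorMod (ClSub.idealMod Z) L ⟶ L, Mono j := by
  haveI := (shortExact_tmap hL (ideal_shortExact Z)).mono_f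
  exact ⟨tmap (ClSub.idealModι Z) L ≫ (TMul.leftUnitIso L).hom, mono_comp _ _⟩

theorem euler_structure (hdim : topologicalKrullDim X ≤ 1) (h0 : h k (Coh.structureModule X) 0 = 1) :
    Curv2.euler k X (Coh.structureModule X) = 1 - Curv2.genus k X := by
  rw [euler_eq hdim, h0, Curv2.genus]
  simp

/-- `H^1(I ⊗ L) ≠ 0` bounds the degree. -/
theorem deg_le_of_nontrivial [IsIntegral X] (hdim : topologicalKrullDim X ≤ 1)
    (h0 : h k (Coh.structureModule X) 0 = 1) {L : X.Modules} (hL : PicF.IsInvertible L) (Z : X.IdealSheafData)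
    (hZ : topologicalKrullDim (Z.support : Set X) ≤ 0)
    (h1 : Nontrivial (Coh.HH X (CohB1.tensorMod (ClSub.idealMod Z) L) 1)) :
    Curv2.deg k X L 1 ≤ 2 * (Curv2.genus k X : ℤ) - 2 + h k (ClSub.quotMod Z) 0 := by
  haveI := isNoetherian_of_proper k X
  have hM := isCoh_tensor (isCoh_idealMod Z).1 hL
  obtain ⟨j, hj⟩ := exists_mono_ideal_tensor hL Z
  have hle := h0_le_genus (k := k) hdim hM hL j h1
  haveI := finite_proper k X _ hM 1
  have hpos : 0 < h k (CohB1.tensorMod (ClSub.idealMod Z) L) 1 := Module.finrank_pos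
  have he := euler_ideal_tensor (k := k) hL Z hZ
  rw [euler_eq hdim] at he
  rw [Curv2.deg, euler_structure hdim h0]
  push_cast
  omega

end Groth.Agent.CurveRR
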