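import Groth.Agent.CurveRR.Euler
import Groth.Agent.SuppZero.Basic
import Groth.Agent.TMul.Frame
import Groth.Agent.TMul.Assoc
import Groth.Agent.W7Cech.GlobSec
import Groth.Agent.LocFree.SemiLocal

/-!
Modules with finite support: global sections are the product of the sections near the points, and tensoring
with a locally free module of rank `n` multiplies them by `n`.
-/

set_option autoImplicit false
set_option backward.isDefEq.respectTransparency false
set_option linter.style.haveILetI false

universe u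

open CategoryTheory CategoryTheory.Limits AlgebraicGeometry TopologicalSpace Opposite
open Groth.Agent.QC (res resO res_res res_self res_smul resO_resO resO_self section_eq_of_locally)
open TMul (IsFrame tm tt)
open scoped TensorProduct

noncomputable section

namespace Groth.Agent.CurveRR

variable {k : Type u} [Field k] {X : Scheme.{u}} [X.Over (Spec (CommRingCat.of k))]

/-- Constants, on an open. -/
abbrev cst (k : Type u) [Field k] (X : Scheme.{u}) [X.Over (Spec (CommRingCat.of k))] (U : X.Opens) :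
    k →+* Γ(X, U) :=
  (resO X (le_top : U ≤ ⊤)).comp (Coh.toGlobal (X ↘ Spec (CommRingCat.of k)))

/-- Sections as `k`-spaces. -/
@[reducible] def secMod (k : Type u) [Field k] {X : Scheme.{u}} [X.Over (Spec (CommRingCat.of k))]
    (G : X.Modules) (U : X.Opens) : Module k Γ(G, U) :=
  Module.compHom _ (cst k X U)

attribute [local instance] secMod

theorem smul_def (G : X.Modules) (U : X.Opens) (a : k) (s : Γ(G, U)) : a • s = cst k X U a • s := rfl

/-- Restriction, linearly. -/
def resL (G : X.Modules) {U V : X.Opens} (h : V ≤ U) : Γ(G, U) →ₗ[k] Γ(G, V) where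
  toFun := res G h
  map_add' := map_add _
  map_smul' a s := by
    show res G h (cst k X U a • s) = cst k X V a • res G h s
    rw [res_smul]
    exact congrArg (· • _) (resO_resO _ _ _)

/-- `Γ(X, G) = H^0(X, G)`. -/
def secH0 (G : X.Modules) : Γ(G, ⊤) ≃ₗ[k] Coh.HH X G 0 :=
  { (Sheaf.H.equiv₀ (Coh.toAb G) (Limits.isTerminalTop (α := X.Opens))).symm with
    map_smul' := fun a x => by
      refine Eq.trans (congrArg (W7Cech.gsH0 k G) ?_) (Sheaf.H.equiv₀_symm_naturality (Limits.isTerminalTop
        (α := X.Opens)) (Coh.smulAb G (Coh.toGlobal (X ↘ Spec (CommRingCat.of k)) a)) x).symm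
      rw [Coh.smulAb_app]
      rfl }

theorem finrank_sec (G : X.Modules) : Module.finrank k Γ(G, ⊤) = h k G 0 := (secH0 (k := k) G).finrank_eq

/-- `G` lives on `S`. -/
def SuppIn (G : X.Modules) (S : Set X) : Prop :=
  ∀ (W : X.Opens) (s : Γ(G, W)), (∀ x ∈ W, x ∉ S) → s = 0

theorem suppIn_of_subset {G : X.Modules} {S : Set X} (hS : CohB1.support G ⊆ S) : SuppIn G S := fun W s hW =>
  section_eq_of_locally fun y hy => by
    obtain ⟨W', hW', hyW', e⟩ := (Groth.Agent.QC.notMem_support_iff y).mp (fun h => hW y hy (hS h)) W hy s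
    exact ⟨W', hW', hyW', e.trans (map_zero _).symm⟩

theorem suppIn_tensor {F : X.Modules} {S : Set X} (hF : SuppIn F S) (E : X.Modules) :
    SuppIn (CohB1.tensorMod F E) S := fun W s hW => section_eq_of_locally fun y hy => by
  obtain ⟨V, hV, p, hyV, hp⟩ := TMul.exists_tt s hy
  refine ⟨V, hV, hyV, ?_⟩
  rw [map_zero, ← hp]
  clear hp
  induction p using TensorProduct.induction_on with
  | zero => exact map_zero _
  | tmul a b => rw [TMul.tt_tmul, hF V a fun x hx => hW x (hV hx), TMul.zero_tm]
  | add a b ha hb => rw [map_add, ha, hb, add_zero]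

/-- Global sections are the product of the sections near the points. -/
theorem finrank_eq_sum {G : X.Modules} {S : Set X} [Fintype S] (hS : IsClosed S) (hG : SuppIn G S)
    (U : S → X.Opens) (hxU : ∀ x : S, x.1 ∈ U x) (hU : ∀ x y : S, y.1 ∈ U x → y = x)
    [∀ x, Module.Finite k Γ(G, U x)] :
    Module.finrank k Γ(G, ⊤) = ∑ x, Module.finrank k Γ(G, U x) := by
  classical
  rw [← Module.finrank_pi_fintype]
  refine LinearEquiv.finrank_eq (LinearEquiv.ofBijective (LinearMap.pi fun x => resL G (le_top : U x ≤ ⊤))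
    ⟨(injective_iff_map_eq_zero _).2 fun s hs => section_eq_of_locally fun y _ => ?_, fun t => ?_⟩)
  · by_cases hy : y ∈ S
    · exact ⟨U ⟨y, hy⟩, le_top, hxU ⟨y, hy⟩, (congrFun hs ⟨y, hy⟩).trans (map_zero _).symm⟩
    · exact ⟨⟨Sᶜ, hS.isOpen_compl⟩, le_top, hy, (hG _ _ fun x hx => hx).trans (map_zero _).symm⟩
  · let V : Option S → X.Opens := fun o => o.elim ⟨Sᶜ, hS.isOpen_compl⟩ U
    let f : ∀ o, Γ(G, V o) := fun o => match o with
      | none => 0
      | some x => t x
    obtain ⟨a, ha, -⟩ := TopCat.Sheaf.existsUnique_gluing' (Groth.Agent.QC.abSheaf G) V ⊤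
      (fun o => homOfLE le_top) (fun y _ => Opens.mem_iSup.mpr (by
        by_cases hy : y ∈ S
        · exact ⟨some ⟨y, hy⟩, hxU ⟨y, hy⟩⟩
        · exact ⟨none, hy⟩)) f (fun o o' => by
        suffices key : ∀ (P : X.Opens) (h1 : P ≤ V o) (h2 : P ≤ V o'), res G h1 (f o) = res G h2 (f o') from
          key _ inf_le_left inf_le_right
        intro P h1 h2
        by_cases he : o = o'
        · subst he; rfl
        · have hP : ∀ x ∈ P, x ∉ S := fun x hx hxS => by
            rcases o with _ | z
            · exact h1 hx hxS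
            · rcases o' with _ | z'
              · exact h2 hx hxS
              · exact he (congrArg some ((hU z ⟨x, hxS⟩ (h1 hx)).symm.trans (hU z' ⟨x, hxS⟩ (h2 hx))))
          exact (hG P _ hP).trans (hG P (res G h2 (f o')) hP).symm)
    exact ⟨a, funext fun x => ha (some x)⟩

/-- A locally free module of rank `n` has a frame of that size near every point. -/
theorem exists_frame {E : X.Modules} {n : ℕ} (hE : FlatMod.IsFinLocFreeOfRank n E) (x : X) :
    ∃ (U : X.Opens) (e : Fin n → Γ(E, U)), x ∈ U ∧ IsFrame e := by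
  have hE' : FlatMod.IsFinLocFree E := fun y => let ⟨U, h1, h2⟩ := hE y; ⟨U, n, h1, h2⟩
  obtain ⟨U, m, e, hxU, he⟩ := TMul.exists_isFrame hE' x
  obtain ⟨W, hxW, ⟨i⟩⟩ := hE x
  obtain ⟨b⟩ := LocFree.exists_basis_stalk i (LocFree.isQCoh_of_isFinLocFree hE') hxW
  let φ : (Fin m → X.presheaf.stalk x) →ₗ[X.presheaf.stalk x] E.presheaf.stalk x :=
    ∑ i, (LinearMap.proj i).smulRight (WeakAssLib.mgerm E hxU (e i))
  have hφ : Function.Bijective φ := by
    have : (φ : (Fin m → X.presheaf.stalk x) → _) = fun c => ∑ i, c i • WeakAssLib.mgerm E hxU (e i) := by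
      funext c; simp [φ]
    rw [this]
    exact he x hxU
  have h1 := (LinearEquiv.ofBijective φ hφ).finrank_eq
  rw [Module.finrank_pi, Fintype.card_fin, Module.finrank_eq_card_basis b, Fintype.card_ulift, Fintype.card_fin] at h1
  subst h1
  exact ⟨U, e, hxU, he⟩

/-- Sections of `F ⊗ E` over a framed open. -/
theorem finrank_framed {F E : X.Modules} {n : ℕ} {U V : X.Opens} {e : Fin n → Γ(E, U)} (he : IsFrame e)
    (hV : V ≤ U) [Module.Finite k Γ(F, V)] :
    Module.Finite k Γ(CohB1.tensorMod E F, V) ∧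
      Module.finrank k Γ(CohB1.tensorMod E F, V) = n * Module.finrank k Γ(F, V) := by
  let L : (Fin n → Γ(F, V)) →ₗ[k] Γ(CohB1.tensorMod E F, V) :=
    { toFun := fun m => ∑ i, tm (res E hV (e i)) (m i)
      map_add' := fun a b => by simp only [Pi.add_apply, TMul.add_tm, Finset.sum_add_distrib]
      map_smul' := fun c a => by
        show ∑ i, tm (res E hV (e i)) (cst k X V c • a i) = cst k X V c • _
        rw [Finset.smul_sum]
        exact Finset.sum_congr rfl fun i _ => TMul.tm_smul _ _ _ }
  let φ := LinearEquiv.ofBijective L (he.tm_bijective V hV)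
  refine ⟨Module.Finite.equiv φ, ?_⟩
  rw [← φ.finrank_eq, Module.finrank_pi_fintype, Finset.sum_const, Finset.card_univ, Fintype.card_fin, smul_eq_mul]

variable [IsProper (X ↘ Spec (CommRingCat.of k))]

include k in
theorem finite_of_dim_le_zero {S : Set X} (hS : IsClosed S) (hdim : topologicalKrullDim S ≤ 0) : S.Finite := by
  haveI := isNoetherian_of_proper k X
  haveI : DiscreteTopology S := discreteTopology_iff_isOpen_singleton.mpr fun z =>
    Groth.Agent.TopDim.isOpen_singleton_of_dim_le_zero hdim z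
  haveI : CompactSpace S := isCompact_iff_compactSpace.mp hS.isCompact
  exact Set.finite_coe_iff.mp finite_of_compact_of_discrete

/-- `h^0(E ⊗ F) = n h^0(F)` for `F` with finite support and `E` locally free of rank `n`. -/
theorem h0_tensor {F : X.Modules} (hF : Coh.IsCoh F) {S : Set X} (hS : IsClosed S)
    (hdim : topologicalKrullDim S ≤ 0) (hsupp : CohB1.support F ⊆ S) {n : ℕ} {E : X.Modules}
    (hE : FlatMod.IsFinLocFreeOfRank n E) :
    h k (CohB1.tensorMod E F) 0 = n * h k F 0 ∧
      ∀ i, 1 ≤ i → Subsingleton (Coh.HH X (CohB1.tensorMod E F) i) := by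
  classical
  haveI := isNoetherian_of_proper k X
  haveI : Finite S := (finite_of_dim_le_zero (k := k) hS hdim).to_subtype
  haveI := Fintype.ofFinite S
  have hcl : ∀ T : Set X, T ⊆ S → IsClosed T := SuppZero.isClosed_of_subset hS hdim
  choose U₀ e hxU₀ he using fun x : S => exists_frame hE x.1
  let U : S → X.Opens := fun x => U₀ x ⊓ ⟨(S \ {x.1})ᶜ, (hcl _ Set.diff_subset).isOpen_compl⟩
  have hxU : ∀ x : S, x.1 ∈ U x := fun x => ⟨hxU₀ x, fun h => h.2 rfl⟩
  have hU : ∀ x y : S, y.1 ∈ U x → y = x := fun x y hy => Subtype.ext (by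
    by_contra hne; exact hy.2 ⟨y.2, hne⟩)
  have hFS := suppIn_of_subset hsupp
  have hfin : ∀ x, Module.Finite k Γ(F, U x) := fun x => by
    haveI : Module.Finite k Γ(F, ⊤) :=
      haveI := CohFinite.finite_proper k X F hF 0
      Module.Finite.equiv (secH0 (k := k) F).symm
    refine Module.Finite.of_surjective (resL F (le_top : U x ≤ ⊤)) fun t => ?_
    exact SuppZero.exists_extend_global F (fun T hT => hcl T (hT.trans hsupp)) _ t
  have hT : SuppIn (CohB1.tensorMod E F) S := fun W s hW => by
    let i := TMul.commIso E F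
    have h1 : i.hom.app W s = 0 := suppIn_tensor hFS E W _ hW
    exact (ConcreteCategory.bijective_of_isIso (i.hom.app W)).1 (h1.trans (map_zero _).symm)
  haveI : ∀ x, Module.Finite k Γ(CohB1.tensorMod E F, U x) := fun x =>
    (finrank_framed (k := k) (he x) inf_le_left).1
  refine ⟨?_, fun i hi => Groth.Agent.SuppZero.subsingleton_hh_of_supported hS hdim _ (fun x hx => ?_) i hi⟩
  · rw [← finrank_sec, ← finrank_sec, finrank_eq_sum hS hT U hxU hU, finrank_eq_sum hS hFS U hxU hU, Finset.mul_sum]
    exact Finset.sum_congr rfl fun x _ => (finrank_framed (k := k) (he x) inf_le_left).2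
  · rw [Groth.Agent.QC.notMem_support_iff]
    intro W hxW s
    exact ⟨W ⊓ ⟨Sᶜ, hS.isOpen_compl⟩, inf_le_left, ⟨hxW, hx⟩, hT _ _ fun y hy => hy.2⟩

theorem euler_eq_h0 {F : X.Modules} (hvan : ∀ i, 1 ≤ i → Subsingleton (Coh.HH X F i)) :
    Curv2.euler k X F = h k F 0 := by
  rw [euler_eq_sum F 1 hvan, Finset.sum_range_one]
  simp

theorem euler_tensor_zeroDim {F : X.Modules} (hF : Coh.IsCoh F) {S : Set X} (hS : IsClosed S)
    (hdim : topologicalKrullDim S ≤ 0) (hsupp : CohB1.support F ⊆ S) {n : ℕ} {E : X.Modules}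
    (hE : FlatMod.IsFinLocFreeOfRank n E) :
    Curv2.euler k X (CohB1.tensorMod E F) = n * Curv2.euler k X F := by
  haveI := isNoetherian_of_proper k X
  obtain ⟨h1, h2⟩ := h0_tensor (k := k) hF hS hdim hsupp hE
  rw [euler_eq_h0 h2, euler_eq_h0 fun i hi => SuppZero.subsingleton_hh_of_supported hS hdim _
    (fun x hx h => hx (hsupp h)) i hi, h1]
  push_cast
  ring

end Groth.Agent.CurveRR
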