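import Groth.Agent.CurveRR.RatPoint
import Groth.Agent.CurveRR.SmoothPt
import Groth.Agent.CurveRR.Ample
import Groth.Agent.Nakai.PullIdeal
import Groth.Agent.LocalDimBC.Scheme
import Groth.Agent.PtsDense.Basic
import Groth.Agent.TMul.Pullback
import Groth.Agent.TMul.RelAmple
import Groth.Agent.SmLocalST.SmoothField
import Groth.Agent.ClosedRep.GeomIntegral
import Groth.Agent.Rigid.FibreTranslate
import Groth.Agent.S1551
import Groth.Agent.S5792
import Mathlib

/-!
Twisting a curve over an extension field by bundles from a separably closed base field.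
-/

set_option autoImplicit false
set_option backward.isDefEq.respectTransparency false
set_option backward.isDefEq.respectTransparency.types false
set_option linter.style.haveILetI false
set_option maxHeartbeats 2000000

universe u

open CategoryTheory CategoryTheory.Limits AlgebraicGeometry TopologicalSpace Opposite
open TMul (homOf)
open Groth.Agent.CohFinite

noncomputable section

namespace Groth.Agent.CurveRR

variable {k : Type u} [Field k]

/-- The reduced point is the kernel of its section. -/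
theorem ker_section {X : Scheme.{u}} (f : X ⟶ Spec (CommRingCat.of k)) [IsSeparated f]
    (σ : Spec (CommRingCat.of k) ⟶ X) (hσ : σ ≫ f = 𝟙 _) {P : X} (hP : IsClosed ({P} : Set X))
    (hσP : ∀ p, σ p = P) :
    σ.ker = Scheme.IdealSheafData.vanishingIdeal ⟨{P}, hP⟩ := by
  haveI : IsClosedImmersion (σ ≫ f) := by rw [hσ]; infer_instance
  haveI : IsClosedImmersion σ := IsClosedImmersion.of_comp σ f
  refine (Nakai.ker_eq_vanishingIdeal σ).trans
    (congrArg Scheme.IdealSheafData.vanishingIdeal (SetLike.coe_injective ?_))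
  rw [Scheme.Hom.support_ker, σ.isClosedEmbedding.isClosed_range.closure_eq]
  exact Set.range_eq_singleton_iff.2 hσP

variable {X : Scheme.{u}} [X.Over (Spec (CommRingCat.of k))] [IsProper (X ↘ Spec (CommRingCat.of k))]
  [Smooth (X ↘ Spec (CommRingCat.of k))] [IsIntegral X] [IsSepClosed k]

omit [IsProper (X ↘ Spec (CommRingCat.of k))] in
/-- A rational point exists. -/
theorem exists_section_sepClosed :
    ∃ σ : Spec (CommRingCat.of k) ⟶ X, σ ≫ (X ↘ Spec (CommRingCat.of k)) = 𝟙 _ := by
  obtain ⟨-, σ, hσ, -⟩ := (PtsDense.dense_rational k (X ↘ Spec (CommRingCat.of k))).nonempty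
  exact ⟨σ, hσ⟩

/-- A rational point avoiding a finite set. -/
theorem exists_section_notMem (hdim : topologicalKrullDim X = 1) {F : Set X} (hF : F.Finite) :
    ∃ (σ : Spec (CommRingCat.of k) ⟶ X) (P : X), σ ≫ (X ↘ Spec (CommRingCat.of k)) = 𝟙 _ ∧
      IsClosed ({P} : Set X) ∧ (∀ p, σ p = P) ∧ P ∉ F := by
  let D : Set X := {x : X | ∃ s : Spec (CommRingCat.of k) ⟶ X, s ≫ (X ↘ Spec (CommRingCat.of k)) = 𝟙 _ ∧
    s (IsLocalRing.closedPoint k) = x}
  have hcl : ∀ x ∈ D, IsClosed ({x} : Set X) := by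
    rintro _ ⟨s, hs, rfl⟩
    haveI : IsClosedImmersion (s ≫ (X ↘ Spec (CommRingCat.of k))) := by rw [hs]; infer_instance
    haveI : IsClosedImmersion s := IsClosedImmersion.of_comp s (X ↘ Spec (CommRingCat.of k))
    rw [show ({s (IsLocalRing.closedPoint k)} : Set X) = Set.range s from
      (Set.range_eq_singleton_iff.2 fun p => congrArg s (Subsingleton.elim p _)).symm]
    exact s.isClosedEmbedding.isClosed_range
  have hinf : D.Infinite := fun hfin => by
    have hc : IsClosed D := by
      rw [← Set.biUnion_of_singleton D]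
      exact hfin.isClosed_biUnion hcl
    have hη : genericPoint X ∈ D := by
      rw [← hc.closure_eq]
      exact PtsDense.dense_rational k (X ↘ Spec (CommRingCat.of k)) (genericPoint X)
    exact genericPoint_ne_of_closed (k := k) hdim (hcl _ hη) rfl
  obtain ⟨P, ⟨σ, hσ, rfl⟩, hPF⟩ := (hinf.sdiff hF).nonempty
  exact ⟨σ, _, hσ, hcl _ ⟨σ, hσ, rfl⟩, fun p => congrArg σ (Subsingleton.elim p _), hPF⟩

variable {K : Type u} [Field K] [Algebra k K] {XK : Scheme.{u}} [XK.Over (Spec (CommRingCat.of K))]
  {g : XK ⟶ X}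
  (hpb : IsPullback g (XK ↘ Spec (CommRingCat.of K)) (X ↘ Spec (CommRingCat.of k))
    (Spec.map (CommRingCat.ofHom (algebraMap k K))))

include hpb in
/-- The extended curve. -/
theorem curve_extension (hdim : topologicalKrullDim X = 1) :
    IsProper (XK ↘ Spec (CommRingCat.of K)) ∧ IsIntegral XK ∧ IsAffineHom g ∧ topologicalKrullDim XK = 1 ∧
      (∀ z : XK, IsRegularLocalRing (XK.presheaf.stalk z)) ∧
      Function.Bijective ((XK ↘ Spec (CommRingCat.of K)).appTop.hom.comp
        (Scheme.ΓSpecIso (CommRingCat.of K)).inv.hom) := by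
  haveI hp : IsProper (XK ↘ Spec (CommRingCat.of K)) :=
    MorphismProperty.of_isPullback (P := @IsProper) hpb ‹_›
  haveI : Smooth (XK ↘ Spec (CommRingCat.of K)) := MorphismProperty.of_isPullback (P := @Smooth) hpb ‹_›
  haveI : IsAffineHom g := MorphismProperty.of_isPullback (P := @IsAffineHom) hpb.flip inferInstance
  obtain ⟨σ, hσ⟩ := exists_section_sepClosed (k := k) (X := X)
  haveI := Rigid.geometricallyConnected_of_section (X ↘ Spec (CommRingCat.of k)) σ hσ
  haveI := ClosedRep.GeomIntegral.geometricallyIntegral_of_smooth (X ↘ Spec (CommRingCat.of k))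
  haveI hi : IsIntegral XK := GeometricallyIntegral.geometrically_isIntegral _ _ _ hpb
  haveI : GeometricallyConnected (XK ↘ Spec (CommRingCat.of K)) :=
    MorphismProperty.of_isPullback (P := @GeometricallyConnected) hpb ‹_›
  haveI : GeometricallyReduced (XK ↘ Spec (CommRingCat.of K)) :=
    MorphismProperty.of_isPullback (P := @GeometricallyReduced) hpb inferInstance
  haveI : Surjective (Spec.map (CommRingCat.ofHom (algebraMap k K))) :=
    ⟨fun _ => ⟨IsLocalRing.closedPoint K, Subsingleton.elim _ _⟩⟩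
  haveI : Surjective g := MorphismProperty.of_isPullback (P := @Surjective) hpb.flip inferInstance
  refine ⟨hp, hi, inferInstance, ?_, SmLocalST.isRegularLocalRing_stalk_of_smooth_field (XK ↘ Spec (CommRingCat.of K)),
    W7See.bijective_global_field (XK ↘ Spec (CommRingCat.of K))⟩
  rw [Groth.Agent.S5792.result, ← hdim, Groth.Agent.S5792.result X]
  refine le_antisymm (iSup_le fun z => ?_) (iSup_le fun x => ?_)
  · rw [LocalDimBC.localDim_of_isPullback (X ↘ Spec (CommRingCat.of k)) _ g _ hpb z]
    exact le_iSup (fun x : X => FlatMor.localDim X x) _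
  · obtain ⟨z, rfl⟩ := g.surjective x
    rw [← LocalDimBC.localDim_of_isPullback (X ↘ Spec (CommRingCat.of k)) _ g _ hpb z]
    exact le_iSup (fun z : XK => FlatMor.localDim XK z) _

include hpb in
/-- **One step down.** -/
theorem exists_step_base (hdim : topologicalKrullDim X = 1) {M : XK.Modules} (hM : PicF.IsInvertible M)
    (h1 : Subsingleton (Coh.HH XK M 1)) (h0 : h K M 0 ≠ 0) :
    ∃ I : X.Modules, PicF.IsInvertible I ∧
      Subsingleton (Coh.HH XK (CohB1.tensorMod ((Scheme.Modules.pullback g).obj I) M) 1) ∧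
      h K (CohB1.tensorMod ((Scheme.Modules.pullback g).obj I) M) 0 + 1 = h K M 0 := by
  obtain ⟨hp, hi, -, hdimK, hreg, -⟩ := curve_extension hpb hdim
  haveI := hp
  haveI := hi
  haveI := isNoetherian_of_proper K XK
  haveI := isNoetherian_of_proper k X
  obtain ⟨t, ht⟩ : ∃ t : Γ(M, ⊤), t ≠ 0 := by
    by_contra! hh
    letI := secMod K M ⊤
    haveI : Subsingleton Γ(M, ⊤) := ⟨fun a b => (hh a).trans (hh b).symm⟩
    exact h0 (by rw [← finrank_sec]; exact Module.finrank_zero_of_subsingleton)
  have hη := generic_mem_genLocus hM ht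
  let Z : Set XK := (CohB1.genLocus M (homOf t) : Set XK)ᶜ
  have hZc : IsClosed Z := (CohB1.genLocus M (homOf t)).2.isClosed_compl
  have hZ : Z.Finite := finite_of_dim_le_zero (k := K) hZc (dim_le_zero_of_closed hdimK.le hZc fun h => h hη)
  obtain ⟨σ, P, hσ, hP, hσP, hPZ⟩ := exists_section_notMem (k := k) hdim (hZ.image g)
  let φ := Spec.map (CommRingCat.ofHom (algebraMap k K))
  have hw : (φ ≫ σ) ≫ (X ↘ Spec (CommRingCat.of k)) = 𝟙 _ ≫ φ := by
    rw [Category.assoc, hσ, Category.comp_id, Category.id_comp]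
  let s : Spec (CommRingCat.of K) ⟶ XK := hpb.lift (φ ≫ σ) (𝟙 _) hw
  have hs : s ≫ (XK ↘ Spec (CommRingCat.of K)) = 𝟙 _ := hpb.lift_snd _ _ _
  have hsg : s ≫ g = φ ≫ σ := hpb.lift_fst _ _ _
  let Q : XK := s (IsLocalRing.closedPoint K)
  have hsQ : ∀ p, s p = Q := fun p => congrArg s (Subsingleton.elim p _)
  haveI : IsClosedImmersion (s ≫ (XK ↘ Spec (CommRingCat.of K))) := by rw [hs]; infer_instance
  haveI : IsClosedImmersion s := IsClosedImmersion.of_comp s (XK ↘ Spec (CommRingCat.of K))
  haveI : IsClosedImmersion (σ ≫ (X ↘ Spec (CommRingCat.of k))) := by rw [hσ]; infer_instance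
  haveI : IsClosedImmersion σ := IsClosedImmersion.of_comp σ (X ↘ Spec (CommRingCat.of k))
  have hQ : IsClosed ({Q} : Set XK) := (Set.range_eq_singleton_iff.2 hsQ) ▸ s.isClosedEmbedding.isClosed_range
  have hQP : g Q = P := by
    change g (s _) = P
    rw [← Scheme.Hom.comp_apply, hsg, Scheme.Hom.comp_apply, hσP]
  have hQt : Q ∈ CohB1.genLocus M (homOf t) := by
    by_contra hn
    exact hPZ ⟨Q, hn, hQP⟩
  let I := Scheme.IdealSheafData.vanishingIdeal ⟨{P}, hP⟩
  let J := Scheme.IdealSheafData.vanishingIdeal ⟨{Q}, hQ⟩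
  have hsq : IsPullback s φ g σ := by
    refine IsPullback.of_right ?_ hsg hpb.flip
    rw [hs, hσ]
    exact IsPullback.of_horiz_isIso ⟨by simp [φ]⟩
  have hIJ : I.comap g = J := by
    rw [show I = σ.ker from (ker_section _ σ hσ hP hσP).symm, ← Scheme.IdealSheafData.ker_fst_of_isClosedImmersion,
      show J = s.ker from (ker_section _ s hs hQ hsQ).symm, ← hsq.isoPullback_hom_fst,
      Scheme.Hom.ker_comp_of_isIso]
  have hregP := SmLocalST.isRegularLocalRing_stalk_of_smooth_field (X ↘ Spec (CommRingCat.of k)) P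
  have hI := isInvertible_pointIdeal hdim.le hP (genericPoint_ne_of_closed (k := k) hdim hP) hregP
  have hJ := isInvertible_pointIdeal hdimK.le hQ (genericPoint_ne_of_closed (k := K) hdimK hQ) (hreg Q)
  obtain ⟨e⟩ := Nakai.nonempty_pullback_idealMod g ((Groth.Agent.S8914.result I).1 hI)
    (hIJ.symm ▸ (Groth.Agent.S8914.result J).1 hJ)
  rw [hIJ] at e
  have hh := (h0_ratPointIdeal (k := K) hQ s hs hsQ hM).2.2.mpr ⟨t, hQt⟩
  have he := euler_ratPointIdeal (k := K) hQ s hs hsQ hM
  rw [euler_eq hdimK.le, euler_eq hdimK.le, show h K M 1 = 0 from h_eq_zero h1] at he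
  let ι := PicGrp.tensorModIso e (Iso.refl M)
  refine ⟨ClSub.idealMod I, hI, ?_, by rw [h_eq_of_iso ι]; exact hh⟩
  haveI := finite_proper K XK _
    (isCoh_of_inv (TMul.isInvertible_tensorMod (PicLoc.isInvertible_pullback g hI) hM)) 1
  refine Module.finrank_zero_iff.mp (?_ : h K _ 1 = 0)
  rw [h_eq_of_iso ι]
  simp only [J, Nat.cast_zero, sub_zero] at hh he ⊢
  omega

include hpb in
/-- **Twists with one section and no `H¹`.** -/
theorem exists_twist_h0_one (hdim : topologicalKrullDim X = 1) {L : XK.Modules} (hL : PicF.IsInvertible L) :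
    ∃ L₀ : X.Modules, PicF.IsInvertible L₀ ∧ h K (CohB1.tensorMod L ((Scheme.Modules.pullback g).obj L₀)) 0 = 1 ∧
      Subsingleton (Coh.HH XK (CohB1.tensorMod L ((Scheme.Modules.pullback g).obj L₀)) 1) := by
  obtain ⟨hp, hi, haff, hdimK, -, hglob⟩ := curve_extension hpb hdim
  haveI := hp
  haveI := hi
  haveI := haff
  haveI := isNoetherian_of_proper K XK
  haveI := isNoetherian_of_proper k X
  haveI : X.IsSeparated := ⟨by
    rw [show terminal.from X = (X ↘ Spec (CommRingCat.of k)) ≫ terminal.from _ from terminal.hom_ext _ _]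
    infer_instance⟩
  obtain ⟨A, hA⟩ := Groth.Agent.S1551.result X hdim
  let AK := (Scheme.Modules.pullback g).obj A
  have hAK : CohB1.IsAmple AK := TMul.isAmple_pullback_of_isAffineHom g hA
  have hpos := deg_pos_of_isAmple (k := K) hdimK hAK
  have h00 : h K (Coh.structureModule XK) 0 = 1 := by
    letI := secMod K (Coh.structureModule XK) ⊤
    rw [← finrank_sec]
    let e : K →ₗ[K] Γ(Coh.structureModule XK, ⊤) :=
      { toFun := fun a => cst K XK ⊤ a
        map_add' := map_add _
        map_smul' := fun a b => map_mul (cst K XK ⊤) a b }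
    have he : Function.Bijective e := by
      show Function.Bijective (cst K XK ⊤ : K → Γ(XK, ⊤))
      rw [show (cst K XK ⊤ : K → Γ(XK, ⊤)) = Coh.toGlobal (XK ↘ Spec (CommRingCat.of K)) from
        funext fun a => QC.resO_self _ _]
      exact hglob
    rw [← (LinearEquiv.ofBijective e he).finrank_eq, Module.finrank_self]
  let d : ℕ := (2 * (Curv2.genus K XK : ℤ) + 1 - Curv2.deg K XK L 1).toNat
  have hN : PicF.IsInvertible (CohB1.tensorMod L ((Scheme.Modules.pullback g).obj (CohB1.tensorPow A d))) :=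
    TMul.isInvertible_tensorMod hL (PicLoc.isInvertible_pullback g (TMul.isInvertible_tensorPow hA.1 d))
  have hdeg : 2 * (Curv2.genus K XK : ℤ) + 1 ≤
      Curv2.deg K XK (CohB1.tensorMod L ((Scheme.Modules.pullback g).obj (CohB1.tensorPow A d))) 1 := by
    rw [deg_tensor_inv (k := K) hdimK.le hL (PicLoc.isInvertible_pullback g (TMul.isInvertible_tensorPow hA.1 d)),
      show Curv2.deg K XK ((Scheme.Modules.pullback g).obj (CohB1.tensorPow A d)) 1 = (d : ℤ) * Curv2.deg K XK AK 1 from by
        rw [← deg_tensorPow hdimK.le hAK.1 d]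
        unfold Curv2.deg
        rw [euler_eq_of_iso (k := K) (TMul.nonempty_pullPowIso g A d).some.symm]]
    have : (d : ℤ) ≤ d * Curv2.deg K XK AK 1 := le_mul_of_one_le_right (by positivity) hpos
    omega
  have hv := subsingleton_h1 hdimK.le h00 hN (by omega)
  have hh := h0_eq_of_deg hdimK.le h00 hN (by omega)
  have key : ∀ n : ℕ, n + 1 ≤ h K (CohB1.tensorMod L ((Scheme.Modules.pullback g).obj (CohB1.tensorPow A d))) 0 →
      ∃ L₀ : X.Modules, PicF.IsInvertible L₀ ∧
        h K (CohB1.tensorMod L ((Scheme.Modules.pullback g).obj L₀)) 0 + n =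
          h K (CohB1.tensorMod L ((Scheme.Modules.pullback g).obj (CohB1.tensorPow A d))) 0 ∧
        Subsingleton (Coh.HH XK (CohB1.tensorMod L ((Scheme.Modules.pullback g).obj L₀)) 1) := by
    intro n
    induction n with
    | zero => exact fun _ => ⟨_, TMul.isInvertible_tensorPow hA.1 d, rfl, hv⟩
    | succ n ih =>
      intro hn
      obtain ⟨L₀, hL₀, he, hL1⟩ := ih (by omega)
      obtain ⟨I, hI, hI1, hI0⟩ := exists_step_base hpb hdim
        (TMul.isInvertible_tensorMod hL (PicLoc.isInvertible_pullback g hL₀)) hL1 (by omega)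
      let ι : CohB1.tensorMod ((Scheme.Modules.pullback g).obj I) (CohB1.tensorMod L ((Scheme.Modules.pullback g).obj L₀)) ≅
          CohB1.tensorMod L ((Scheme.Modules.pullback g).obj (CohB1.tensorMod L₀ I)) :=
        TMul.commIso _ _ ≪≫ TMul.assocIso _ _ _ ≪≫
          PicGrp.tensorModIso (Iso.refl L) (TMul.nonempty_pullTensorIso g L₀ I).some
      refine ⟨CohB1.tensorMod L₀ I, TMul.isInvertible_tensorMod hL₀ hI, ?_, ?_⟩
      · rw [← h_eq_of_iso ι]
        omega
      · haveI := hI1
        exact (hhEquiv K ι 1).symm.injective.subsingleton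
  obtain ⟨L₀, hL₀, he, h1⟩ := key (h K (CohB1.tensorMod L ((Scheme.Modules.pullback g).obj (CohB1.tensorPow A d))) 0 - 1)
    (by omega)
  exact ⟨L₀, hL₀, by omega, h1⟩

end Groth.Agent.CurveRR
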