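import Groth.Agent.CurveRR.Easy
import Groth.Agent.CurveRR.Tensor
import Groth.Agent.KFlat.ClosedImm
import Groth.Agent.Devissage.Apply2
import Groth.Agent.RatFunLib.Basic
import Groth.Agent.CohQC.Push
import Groth.Agent.ModDesc.LocFreeDesc

/-!
`χ(E ⊗ F) = n χ(F) + Σ_Z length_Z(F) deg(E|Z)` on a proper scheme of dimension at most one.
-/

set_option autoImplicit false
set_option backward.isDefEq.respectTransparency false
set_option linter.style.haveILetI false
set_option linter.unusedSectionVars false

universe u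

open CategoryTheory CategoryTheory.Limits AlgebraicGeometry TopologicalSpace Opposite
open Groth.Agent.CohFinite
open Groth.Agent.WeakAssLib (mgerm stalkHom)

noncomputable section

namespace Groth.Agent.CurveRR.Multi

variable (k : Type u) [Field k] {X : Scheme.{u}} [X.Over (Spec (CommRingCat.of k))]

/-- The degree of the restriction to the closed subscheme of an ideal sheaf. -/
def degOn (I : X.IdealSheafData) (n : ℕ) (E : X.Modules) : ℤ :=
  @Curv2.deg k _ I.subscheme ⟨I.subschemeι ≫ (X ↘ Spec (CommRingCat.of k))⟩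
    ((Scheme.Modules.pullback I.subschemeι).obj E) n

omit [X.Over (Spec (CommRingCat.of k))] in
theorem isFinLocFreeOfRank_pullback {Y : Scheme.{u}} (g : Y ⟶ X) {n : ℕ} {E : X.Modules}
    (hE : FlatMod.IsFinLocFreeOfRank n E) : FlatMod.IsFinLocFreeOfRank n ((Scheme.Modules.pullback g).obj E) :=
  fun x => let ⟨U, hU, ⟨e⟩⟩ := hE (g x)
    ⟨g ⁻¹ᵁ U, hU, ModDesc.exists_free_pullback g e⟩

variable [IsProper (X ↘ Spec (CommRingCat.of k))]

/-- Length of the stalk. -/
def lenAt (F : X.Modules) (ξ : X) : ℤ := ((Module.length (X.presheaf.stalk ξ) (F.presheaf.stalk ξ)).toNat : ℤ)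

omit [X.Over (Spec (CommRingCat.of k))] [IsProper (X ↘ Spec (CommRingCat.of k))] in
theorem lenAt_add [IsNoetherian X] {S : ShortComplex X.Modules} (hS : S.ShortExact) (h₂ : Coh.IsCoh S.X₂)
    {ξ : X} (hξ : ∀ y : X, y ⤳ ξ → y = ξ) : lenAt S.X₂ ξ = lenAt S.X₁ ξ + lenAt S.X₃ ξ := by
  haveI := RatFunLib.isArtinianRing_stalk hξ
  haveI := RegDual.finite_stalk h₂ ξ
  have hT := hS.map_of_exact (DerSch.stalkFunctor X ξ)
  let f : S.X₁.presheaf.stalk ξ →ₗ[X.presheaf.stalk ξ] S.X₂.presheaf.stalk ξ :=
    ((DerSch.stalkFunctor X ξ).map S.f).hom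
  let g : S.X₂.presheaf.stalk ξ →ₗ[X.presheaf.stalk ξ] S.X₃.presheaf.stalk ξ :=
    ((DerSch.stalkFunctor X ξ).map S.g).hom
  have hexact : Function.Exact f g := LinearMap.exact_iff.mpr hT.exact.moduleCat_range_eq_ker.symm
  have hinj : Function.Injective f := (ModuleCat.mono_iff_injective _).1 hT.mono_f
  have hsurj : Function.Surjective g := (ModuleCat.epi_iff_surjective _).1 hT.epi_g
  have h := Module.length_eq_add_of_exact f g hinj hsurj hexact
  have hfin : Module.length (X.presheaf.stalk ξ) (S.X₂.presheaf.stalk ξ) ≠ ⊤ := Module.length_ne_top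
  rw [h] at hfin
  rw [lenAt, lenAt, lenAt, h, ENat.toNat_add (fun e => hfin (by rw [e, top_add])) (fun e => hfin (by rw [e, add_top]))]
  push_cast
  rfl

omit [X.Over (Spec (CommRingCat.of k))] [IsProper (X ↘ Spec (CommRingCat.of k))] in
theorem lenAt_eq_zero {F : X.Modules} {ξ : X} (h : ξ ∉ CohB1.support F) : lenAt F ξ = 0 := by
  haveI : Subsingleton (F.presheaf.stalk ξ) := subsingleton_stalk h
  rw [lenAt, Module.length_eq_zero]
  rfl

omit [X.Over (Spec (CommRingCat.of k))] [IsProper (X ↘ Spec (CommRingCat.of k))] in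
theorem simpleAt_A [IsNoetherian X] (ξ : X) : Devissage.SimpleAt ξ (Devissage.A ξ) ∧ lenAt (Devissage.A ξ) ξ = 1 := by
  have hs : Devissage.SimpleAt ξ (Devissage.A ξ) := fun m hm m' => Devissage.stalk_A_generates ξ hm m'
  refine ⟨hs, ?_⟩
  haveI : Nontrivial ((Devissage.A ξ).presheaf.stalk ξ) := not_subsingleton_iff_nontrivial.1 (Devissage.piece_A ξ).mem
  haveI : IsSimpleModule (X.presheaf.stalk ξ) ((Devissage.A ξ).presheaf.stalk ξ) := by
    rw [isSimpleModule_iff_toSpanSingleton_surjective]
    exact ⟨inferInstance, fun m hm m' => let ⟨c, hc⟩ := hs m hm m'; ⟨c, hc.symm⟩⟩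
  rw [lenAt, Module.length_eq_one]
  rfl

variable (n : ℕ) (E : X.Modules)

/-- The sum over one-dimensional components. -/
def compSum [Fintype (irreducibleComponents (X : Type u))] (F : X.Modules) : ℤ :=
  ∑ Z : irreducibleComponents (X : Type u), if topologicalKrullDim (Z.1 : Set X) = 1 then
    lenAt F Z.2.1.genericPoint * degOn k (Scheme.IdealSheafData.vanishingIdeal (Devissage.Zc Z.2.1.genericPoint)) n E
  else 0

omit [X.Over (Spec (CommRingCat.of k))] [IsProper (X ↘ Spec (CommRingCat.of k))] in
theorem eq_of_specializes (Z : irreducibleComponents (X : Type u)) (y : X) (h : y ⤳ Z.2.1.genericPoint) :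
    y = Z.2.1.genericPoint := by
  have hgen := Z.2.1.isGenericPoint_genericPoint (isClosed_of_mem_irreducibleComponents _ Z.2)
  have h1 : Z.1 ⊆ closure {y} := by
    rw [← hgen.def]
    exact closure_minimal (Set.singleton_subset_iff.mpr h.mem_closure) isClosed_closure
  have h2 : closure {y} ⊆ Z.1 := Z.2.2 isIrreducible_singleton.closure h1
  exact IsGenericPoint.eq (S := Z.1) (h2.antisymm h1) hgen

theorem euler_push {Y : Scheme.{u}} (i : Y ⟶ X) [IsClosedImmersion i] (G : Y.Modules) (hG : Coh.IsQCoh G) :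
    letI : Y.Over (Spec (CommRingCat.of k)) := ⟨i ≫ (X ↘ Spec (CommRingCat.of k))⟩
    Curv2.euler k X ((Scheme.Modules.pushforward i).obj G) = Curv2.euler k Y G := by
  letI : Y.Over (Spec (CommRingCat.of k)) := ⟨i ≫ (X ↘ Spec (CommRingCat.of k))⟩
  haveI := hG
  refine finsum_congr fun q => ?_
  obtain ⟨e⟩ := hh_push_linear k i rfl G (CohQC.directAcyclic_of_isAffineHom i G) q
  rw [e.finrank_eq]

/-- The defect. -/
def D (F : X.Modules) : ℤ := Curv2.euler k X (CohB1.tensorMod F E) - n * Curv2.euler k X F

theorem D_add (hE : FlatMod.IsFinLocFreeOfRank n E) {S : ShortComplex X.Modules} (hS : S.ShortExact)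
    (h₁ : Coh.IsCoh S.X₁) (h₂ : Coh.IsCoh S.X₂) (h₃ : Coh.IsCoh S.X₃) :
    D k n E S.X₂ = D k n E S.X₁ + D k n E S.X₃ := by
  haveI := isNoetherian_of_proper k X
  have hT := shortExact_tmapR (hasFrames_of_rank hE) hS
  have hc := isCoh_of_rank hE
  have h := euler_add (k := k) hT (isCoh_tensor' h₁ hc) (isCoh_tensor' h₂ hc) (isCoh_tensor' h₃ hc)
  change Curv2.euler k X (CohB1.tensorMod S.X₂ E) =
    Curv2.euler k X (CohB1.tensorMod S.X₁ E) + Curv2.euler k X (CohB1.tensorMod S.X₃ E) at h
  rw [D, D, D, h, euler_add (k := k) hS h₁ h₂ h₃]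
  ring

theorem D_zeroDim (hE : FlatMod.IsFinLocFreeOfRank n E) {F : X.Modules} (hF : Coh.IsCoh F) {S : Set X}
    (hS : IsClosed S) (hd : topologicalKrullDim S ≤ 0) (hsupp : CohB1.support F ⊆ S) : D k n E F = 0 := by
  rw [D, euler_eq_of_iso (TMul.commIso F E), euler_tensor_zeroDim hF hS hd hsupp hE]
  ring

theorem D_A (hE : FlatMod.IsFinLocFreeOfRank n E) (ξ : X) :
    D k n E (Devissage.A ξ) = degOn k (Scheme.IdealSheafData.vanishingIdeal (Devissage.Zc ξ)) n E := by
  haveI := isNoetherian_of_proper k X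
  let i := Devissage.Zi ξ
  haveI := LocallyOfFiniteType.isLocallyNoetherian i
  have e : CohB1.tensorMod (Devissage.A ξ) E ≅ (Scheme.Modules.pushforward i).obj
      (CohB1.tensorMod (Coh.structureModule _) ((Scheme.Modules.pullback i).obj E)) :=
    KFlat.projFormulaIso i _ E
  have hP := isFinLocFreeOfRank_pullback i hE
  rw [D, euler_eq_of_iso (e ≪≫ (Scheme.Modules.pushforward i).mapIso (TMul.leftUnitIso _)),
    euler_push k i _ (isCoh_of_rank hP).1, euler_push k i _ RefStalk.isCoh_structureModule.1]
  rfl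

theorem D_eq_compSum [Fintype (irreducibleComponents (X : Type u))] (hdim : topologicalKrullDim X ≤ 1)
    (hE : FlatMod.IsFinLocFreeOfRank n E) (F : X.Modules) (hF : Coh.IsCoh F) :
    D k n E F = compSum k n E F := by
  classical
  haveI := isNoetherian_of_proper k X
  refine Devissage.twothree (fun F => D k n E F = compSum k n E F) (fun M hM => ?_) ⊤ (fun S hS h₁ h₂ h₃ _ => ?_)
    (fun ξ _ => Or.inr ⟨Devissage.A ξ, Devissage.isCoh_A ξ, Devissage.support_A_subset ξ,
      (Devissage.piece_A ξ).mem, (simpleAt_A ξ).1, ?_⟩) F hF (by simp)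
  · have hsupp : CohB1.support M ⊆ ∅ := fun x hx => hx (by
      have := ((DerSch.stalkFunctor X x).map_isZero hM)
      exact ModuleCat.subsingleton_of_isZero this)
    have hd : topologicalKrullDim (∅ : Set X) ≤ 0 := by
      simp only [topologicalKrullDim, Order.krullDim, iSup_le_iff]
      exact fun p => by obtain ⟨⟨x, hx⟩, -⟩ := p.head.isIrreducible.nonempty; exact hx.elim
    rw [D_zeroDim k n E hE (Groth.Agent.QC.isCoh_cokernel RefStalk.isCoh_structureModule.1 RefStalk.isCoh_structureModule (𝟙 (Coh.structureModule X)) |> fun h => isCoh_of_iso ((isZero_cokernel_of_epi (𝟙 _)).iso hM) h) isClosed_empty hd hsupp, compSum]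
    refine (Finset.sum_eq_zero fun Z _ => ?_).symm
    rw [lenAt_eq_zero (fun h => hsupp h), zero_mul, ite_self]
  · have hD := D_add k n E hE hS h₁ h₂ h₃
    have hC : compSum k n E S.X₂ = compSum k n E S.X₁ + compSum k n E S.X₃ := by
      rw [compSum, compSum, compSum, ← Finset.sum_add_distrib]
      refine Finset.sum_congr rfl fun Z _ => ?_
      rw [lenAt_add hS h₂ (eq_of_specializes Z)]
      split_ifs <;> ring
    exact ⟨fun a b => by omega, fun a b => by omega, fun a b => by omega⟩
  · have hcl : IsClosed (closure {ξ} : Set X) := isClosed_closure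
    by_cases hd : topologicalKrullDim (closure {ξ} : Set X) ≤ 0
    · rw [D_zeroDim k n E hE (Devissage.isCoh_A ξ) hcl hd (Devissage.support_A_subset ξ), compSum]
      refine (Finset.sum_eq_zero fun Z _ => ?_).symm
      split_ifs with h1
      · rw [lenAt_eq_zero, zero_mul]
        intro hmem
        have hsub : Z.1 ⊆ closure {ξ} := by
          rw [← (Z.2.1.isGenericPoint_genericPoint (isClosed_of_mem_irreducibleComponents _ Z.2)).def]
          exact closure_minimal (Set.singleton_subset_iff.mpr
            (Devissage.support_A_subset ξ hmem)) hcl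
        have := (Topology.IsEmbedding.inclusion hsub).isInducing.topologicalKrullDim_le
        rw [h1] at this
        exact absurd (this.trans hd) (by norm_num)
      · rfl
    · have hcomp : closure ({ξ} : Set X) ∈ irreducibleComponents (X : Type u) := by
        refine ⟨isIrreducible_singleton.closure, fun T hT hle => ?_⟩
        obtain ⟨a, b, hab⟩ := Order.krullDim_pos_iff.mp (not_le.mp hd)
        let C : IrreducibleCloseds X := ⟨closure {ξ}, isIrreducible_singleton.closure, hcl⟩
        let T' : IrreducibleCloseds X := ⟨closure T, hT.closure, isClosed_closure⟩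
        have hlt : IrreducibleCloseds.map Subtype.val continuous_subtype_val a < C :=
          (IrreducibleCloseds.map_strictMono_of_isInducing Topology.IsInducing.subtypeVal hab).trans_le
            (closure_minimal (fun _ ⟨y, _, hy⟩ => hy ▸ y.2) hcl)
        rcases Order.krullDim_le_one_iff.mp hdim C with h | h
        · exact absurd (h hlt.le) (not_le_of_gt hlt)
        · exact subset_closure.trans (h (show C ≤ T' from hle.trans subset_closure))
      have hd1 : topologicalKrullDim (closure {ξ} : Set X) = 1 := by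
        refine le_antisymm ((topologicalKrullDim_subspace_le X _).trans hdim) ?_
        generalize topologicalKrullDim (closure {ξ} : Set X) = d at hd
        match d, hd with
        | ⊥, hd => exact absurd bot_le hd
        | (a : ℕ∞), hd => exact WithBot.coe_le_coe.mpr (Order.one_le_iff_pos.mpr (WithBot.coe_lt_coe.mp (not_le.mp hd)))
      rw [D_A k n E hE ξ, compSum, Finset.sum_eq_single_of_mem ⟨closure {ξ}, hcomp⟩ (Finset.mem_univ _)]
      · have hg : (⟨closure {ξ}, hcomp⟩ : irreducibleComponents (X : Type u)).2.1.genericPoint = ξ :=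
          IsGenericPoint.eq (IsIrreducible.isGenericPoint_genericPoint _ hcl) rfl
        rw [if_pos hd1, hg, (simpleAt_A ξ).2, one_mul]
      · intro Z _ hne
        rw [lenAt_eq_zero, zero_mul, ite_self]
        intro hmem
        refine hne (Subtype.ext (subset_antisymm ?_ (Z.2.2 isIrreducible_singleton.closure ?_)))
        all_goals
          rw [← (Z.2.1.isGenericPoint_genericPoint (isClosed_of_mem_irreducibleComponents _ Z.2)).def]
          exact closure_minimal (Set.singleton_subset_iff.mpr (Devissage.support_A_subset ξ hmem)) hcl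

end Groth.Agent.CurveRR.Multi
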