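import Groth.Agent.CurveRR.Curve
import Groth.Agent.CurveRR.Multi
import Groth.Agent.AmpleDimOne.Top
import Groth.Agent.GeomProp.SmoothPoint
import Groth.Agent.Unibranch.ComponentTransfer
import Groth.Agent.DimFormula.Dims
import Mathlib.AlgebraicGeometry.ZariskisMainTheorem
import Groth.Prelude.Def_ClSub2

/-!
# The genus drops along finite maps surjective on functions over a dense open
-/

set_option autoImplicit false
set_option linter.style.haveILetI false
set_option linter.unusedSectionVars false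
set_option backward.isDefEq.respectTransparency false

universe u

open CategoryTheory CategoryTheory.Limits AlgebraicGeometry TopologicalSpace Opposite
open Groth.Agent.CohFinite
open Groth.Agent.QC (res res_self)
open Groth.Agent.WeakAssLib (mgerm mgerm_res stalkHom stalkHom_germ)

noncomputable section

namespace Groth.Agent.CurveRR

variable {X : Scheme.{u}}

/-- The complement of a dense open of a curve has dimension zero. -/
theorem dim_compl_le_zero [IsLocallyNoetherian X] (hdim : topologicalKrullDim X ≤ 1) (U : X.Opens)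
    (hU : Dense (U : Set X)) : topologicalKrullDim ↥((U : Set X)ᶜ) ≤ 0 := by
  haveI : QuasiSober ↥((U : Set X)ᶜ) := U.2.isClosed_compl.isClosedEmbedding_subtypeVal.quasiSober
  refine Unibranch.le_of_forall_natCast_le fun n hn => ?_
  obtain ⟨c, hc⟩ := Unibranch.exists_chain_of_le_topologicalKrullDim hn
  rcases Nat.eq_zero_or_pos n with rfl | hpos
  · exact le_rfl
  exfalso
  have hs := (hc ⟨0, hpos⟩).1.map continuous_subtype_val
  obtain ⟨ξ, hξ, hξa⟩ := Unibranch.exists_isMaxPt_specializes (c (Fin.castSucc ⟨0, hpos⟩) : X)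
  rcases AmpleDimOne.eq_or_eq_of_specializes hdim hξa hs with h | h
  · refine (c (Fin.castSucc ⟨0, hpos⟩)).2 ?_
    show (c (Fin.castSucc ⟨0, hpos⟩) : X) ∈ U
    rw [← h]
    exact GeomProp.genericPoint_mem_of_dense X hξ.mem_irreducibleComponents U hU
  · exact (hc ⟨0, hpos⟩).2 (Subtype.ext h)

variable {k : Type u} [Field k] [X.Over (Spec (CommRingCat.of k))] [IsProper (X ↘ Spec (CommRingCat.of k))]
  {Y : Scheme.{u}} [Y.Over (Spec (CommRingCat.of k))]

variable (k) in
/-- `H^1(O_X) → H^1(O_Y)` is onto for a finite map which is surjective on functions over a dense open. -/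
theorem genus_le_of_surjective (hdim : topologicalKrullDim X ≤ 1) (f : Y ⟶ X) [IsAffineHom f]
    (hf : f ≫ (X ↘ Spec (CommRingCat.of k)) = Y ↘ Spec (CommRingCat.of k)) (U : X.Opens)
    (hU : Dense (U : Set X))
    (hs : ∀ W : X.Opens, IsAffineOpen W → W ≤ U → Function.Surjective (f.app W).hom) :
    Curv2.genus k Y ≤ Curv2.genus k X := by
  haveI := isNoetherian_of_proper k X
  let φ := ClSub.unitToPush f
  have hd := dim_compl_le_zero hdim U hU
  have hsupp : CohB1.support (cokernel φ) ⊆ ((U : Set X)ᶜ) := by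
    intro η hη hηU
    refine notMem_support_coker φ η (fun v => ?_) hη
    obtain ⟨V, hV, s, rfl⟩ := ((Scheme.Modules.pushforward f).obj (Coh.structureModule Y)).presheaf.exists_germ_eq
      (x := η) v
    obtain ⟨W, hW, hηW, hWV⟩ := exists_isAffineOpen_mem_and_subset (x := η) (U := V ⊓ U) ⟨hV, hηU⟩
    obtain ⟨a, ha⟩ := hs W hW (hWV.trans inf_le_right)
      (res ((Scheme.Modules.pushforward f).obj (Coh.structureModule Y)) (hWV.trans inf_le_left) s)
    refine ⟨mgerm (Coh.structureModule X) hηW a, ?_⟩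
    rw [stalkHom_germ]
    refine Eq.trans ?_ (mgerm_res _ (hWV.trans inf_le_left) hηW s)
    exact congrArg (mgerm _ hηW) ha
  have hsurj := h1_surjective (k := k) hdim φ U.2.isClosed_compl hd hsupp
  haveI : (Coh.structureModule Y).IsQuasicoherent := Groth.Agent.QC.isQCoh_unit Y
  obtain ⟨e⟩ := hh_push_linear k f hf (Coh.structureModule Y)
    (CohQC.directAcyclic_of_isAffineHom f (Coh.structureModule Y)) 1
  haveI := finite_proper k X (Coh.structureModule X) RefStalk.isCoh_structureModule 1
  show Module.finrank k (Coh.HH Y (Coh.structureModule Y) 1) ≤ Module.finrank k (Coh.HH X (Coh.structureModule X) 1)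
  rw [e.finrank_eq]
  exact LinearMap.finrank_le_finrank_of_surjective hsurj

end Groth.Agent.CurveRR

namespace Groth.Agent.CurveRR

/-- Closed immersion over `U` gives surjections on functions of affines below `U`. -/
theorem surjective_app_of_restrict {X Y : Scheme.{u}} (f : Y ⟶ X) (U : X.Opens) [IsClosedImmersion (f ∣_ U)]
    (W : X.Opens) (hW : IsAffineOpen W) (hWU : W ≤ U) : Function.Surjective (f.app W).hom := by
  have h1 := Scheme.Hom.app_surjective (f ∣_ U) (U.ι ⁻¹ᵁ W)
    (hW.preimage_of_isOpenImmersion U.ι (by rw [Scheme.Opens.opensRange_ι]; exact hWU))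
  rw [morphismRestrict_app] at h1
  have key : ∀ V : X.Opens, V = W → Function.Surjective (f.app V).hom → Function.Surjective (f.app W).hom := by
    rintro V rfl h; exact h
  refine key (U.ι ''ᵁ U.ι ⁻¹ᵁ W) ?_ (fun z => ?_)
  · rw [Scheme.Hom.image_preimage_eq_opensRange_inf, Scheme.Opens.opensRange_ι]
    exact inf_eq_right.2 hWU
  · obtain ⟨a, ha⟩ := h1 ((Y.presheaf.map (eqToHom (image_morphismRestrict_preimage f U (U.ι ⁻¹ᵁ W))).op).hom z)
    exact ⟨a, (ConcreteCategory.bijective_of_isIso (Y.presheaf.map (eqToHom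
      (image_morphismRestrict_preimage f U (U.ι ⁻¹ᵁ W))).op)).1 ha⟩

/-- A proper birational map of curves is finite. -/
theorem isFinite_of_iso_dense {k : Type u} [Field k] {X Y : Scheme.{u}} [X.Over (Spec (CommRingCat.of k))]
    [IsProper (X ↘ Spec (CommRingCat.of k))] (hdim : topologicalKrullDim X ≤ 1) (f : Y ⟶ X) [IsProper f]
    (U : X.Opens) (hU : Dense (U : Set X)) (hU' : Dense ((f ⁻¹ᵁ U : Y.Opens) : Set Y))
    [IsIso (f ∣_ U)] : IsFinite f := by
  letI : Y.Over (Spec (CommRingCat.of k)) := ⟨f ≫ X ↘ Spec (CommRingCat.of k)⟩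
  haveI : IsProper (Y ↘ Spec (CommRingCat.of k)) :=
    inferInstanceAs (IsProper (f ≫ X ↘ Spec (CommRingCat.of k)))
  haveI := isNoetherian_of_proper k X
  haveI := isNoetherian_of_proper k Y
  have hinj : ∀ y y' : Y, f y ∈ U → f y' = f y → y' = y := by
    intro y y' hy hyy
    have hy' : f y' ∈ U := by rw [hyy]; exact hy
    have h1 : (f ∣_ U) ⟨y', hy'⟩ = (f ∣_ U) ⟨y, hy⟩ := by
      refine Subtype.ext ?_
      rw [morphismRestrict_base_coe, morphismRestrict_base_coe]
      exact hyy
    exact congrArg Subtype.val ((f ∣_ U).homeomorph.injective h1)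
  have hd : topologicalKrullDim ↥(((f ⁻¹ᵁ U : Y.Opens) : Set Y)ᶜ) ≤ 0 := by
    haveI : QuasiSober ↥(((f ⁻¹ᵁ U : Y.Opens) : Set Y)ᶜ) :=
      (f ⁻¹ᵁ U).2.isClosed_compl.isClosedEmbedding_subtypeVal.quasiSober
    refine Unibranch.le_of_forall_natCast_le fun n hn => ?_
    obtain ⟨c, hc⟩ := Unibranch.exists_chain_of_le_topologicalKrullDim hn
    rcases Nat.eq_zero_or_pos n with rfl | hpos
    · exact le_rfl
    exfalso
    let a : Y := (c (Fin.castSucc ⟨0, hpos⟩)).1
    let b : Y := (c (Fin.succ ⟨0, hpos⟩)).1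
    have hab : a ⤳ b := (hc ⟨0, hpos⟩).1.map continuous_subtype_val
    have hne : a ≠ b := fun h => (hc ⟨0, hpos⟩).2 (Subtype.ext h)
    obtain ⟨ξ, hξ, hξa⟩ := Unibranch.exists_isMaxPt_specializes a
    have hξU : f ξ ∈ U := GeomProp.genericPoint_mem_of_dense Y hξ.mem_irreducibleComponents (f ⁻¹ᵁ U) hU'
    have hξne : ξ ≠ a := fun h => (c (Fin.castSucc ⟨0, hpos⟩)).2 (show a ∈ f ⁻¹ᵁ U from h ▸ hξU)
    have hgen : DimFormula.HasGen ξ b 2 := ⟨![ξ, a, b], fun i => by
      fin_cases i
      · exact ⟨hξa, hξne⟩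
      · exact ⟨hab, hne⟩, specializes_rfl, rfl⟩
    obtain ⟨e, he1, ⟨d, hd', hdc⟩, -⟩ := Unibranch.exists_dim_closure_eq f ξ
    have he : e = 0 := by
      by_contra he0
      refine (hdc ⟨0, by omega⟩).2 ((hinj ξ _ hξU (hd' _).2).trans (hinj ξ _ hξU (hd' _).2).symm)
    obtain ⟨δ, h1, h2, -⟩ := Unibranch.exists_dim_closure_eq f b
    obtain ⟨m, hm1, g, hg, hg0, hgl⟩ := DimFormula.exists_genLE_hasGen ((hξa.trans hab).map f.continuous)
    have := DimFormula.dimension_inequality f (hξa.trans hab) hgen hm1 h2 he1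
    have hm : m ≤ 1 := by
      have h3 := (Unibranch.natCast_le_topologicalKrullDim g hg).trans hdim
      exact_mod_cast h3
    omega
  have hfin := finite_of_dim_le_zero (k := k) (X := Y) (f ⁻¹ᵁ U).2.isClosed_compl hd
  haveI : LocallyQuasiFinite f := (locallyQuasiFinite_iff_finite_preimage_singleton (f := f)).2 fun x => by
    by_cases hx : x ∈ U
    · refine Set.Subsingleton.finite fun y hy y' hy' => ?_
      exact (hinj y y' (by rw [Set.mem_singleton_iff.1 hy]; exact hx) ((Set.mem_singleton_iff.1 hy').trans (Set.mem_singleton_iff.1 hy).symm)).symm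
    · exact hfin.subset fun y hy hyU => hx (by rw [← Set.mem_singleton_iff.1 hy]; exact hyU)
  exact IsFinite.of_isProper_of_locallyQuasiFinite f

end Groth.Agent.CurveRR
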