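import Groth.Agent.CurveRR.Tensor
import Groth.Agent.CartierDim.Basic

/-!
Twisting by an effective Cartier divisor on a proper scheme of dimension at most one.
-/

set_option autoImplicit false
set_option backward.isDefEq.respectTransparency false
set_option linter.style.haveILetI false

universe u

open CategoryTheory CategoryTheory.Limits AlgebraicGeometry TopologicalSpace Opposite
open Groth.Agent.CohFinite

noncomputable section

namespace Groth.Agent.CurveRR

/-- A Cartier divisor on a scheme of dimension at most one has dimension at most zero. -/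
theorem cartier_dim_le_zero {X : Scheme.{u}} (hdim : topologicalKrullDim X ≤ 1) {D : X.IdealSheafData}
    (hD : BlowUp.IsEffCartierIdeal D) : topologicalKrullDim (D.support : Set X) ≤ 0 := by
  haveI : QuasiSober (D.support : Set X) := D.support.isClosed.isClosedEmbedding_subtypeVal.quasiSober
  refine le_of_le_of_eq ?_ (Nat.cast_zero (R := WithBot ℕ∞))
  refine Groth.Agent.Unibranch.topologicalKrullDim_le_natCast fun l c hc => ?_
  obtain ⟨η, hη, hmax⟩ := CartierDim.exists_maximal_generization (c 0).1
  have hout : η ∉ D.support := BlowUpLib.notMem_support_of_maximalPt hD fun y hy => (hy.antisymm (hmax y hy)).eq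
  have h1 := Groth.Agent.Unibranch.natCast_le_topologicalKrullDim
    (Fin.cons η fun i => (c i).1) fun i => by
      refine Fin.cases ?_ (fun j => ?_) i
      · refine ⟨hη, fun h => hout ?_⟩
        simp only [Fin.castSucc_zero, Fin.cons_zero, Fin.cons_succ] at h
        exact h ▸ (c 0).2
      · simp only [← Fin.succ_castSucc, Fin.cons_succ]
        exact ⟨(subtype_specializes_iff _ _).mp (hc j).1, fun h => (hc j).2 (Subtype.ext h)⟩
  have h2 := h1.trans hdim
  exact Nat.succ_le_succ_iff.mp (CartierDim.natCast_le_withBot.mp (h2.trans_eq Nat.cast_one.symm))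

variable {k : Type u} [Field k] {X : Scheme.{u}} [X.Over (Spec (CommRingCat.of k))]
  [IsProper (X ↘ Spec (CommRingCat.of k))]

include k in
theorem isFinite_subscheme {I : X.IdealSheafData} (hI : topologicalKrullDim (I.support : Set X) ≤ 0) :
    IsFinite (I.subschemeι ≫ (X ↘ Spec (CommRingCat.of k))) := by
  have hfin := finite_of_dim_le_zero (k := k) I.support.isClosed hI
  haveI : LocallyQuasiFinite (I.subschemeι ≫ (X ↘ Spec (CommRingCat.of k))) := by
    refine LocallyQuasiFinite.of_finite_preimage_singleton _ fun x => ?_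
    refine Set.Finite.subset ?_ (Set.subset_univ _)
    haveI : Finite I.subscheme := by
      refine Set.finite_univ_iff.mp (Set.Finite.of_finite_image (f := I.subschemeι) ?_
        I.subschemeι.isClosedEmbedding.injective.injOn)
      rw [Set.image_univ, I.range_subschemeι]
      exact hfin
    exact Set.finite_univ
  exact IsFinite.of_isProper_of_locallyQuasiFinite _

/-- `deg(E(D)) = deg E + n deg D`. -/
theorem deg_tensor_cartier (hdim : topologicalKrullDim X ≤ 1) {D : X.IdealSheafData}
    (hD : BlowUp.IsEffCartierIdeal D) {L : X.Modules} (hL : PicF.IsInvertible L)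
    (hLD : ClSub.IsInverseOf L (ClSub.idealMod D)) {n : ℕ} {E : X.Modules} (hE : FlatMod.IsFinLocFreeOfRank n E) :
    Curv2.deg k X (CohB1.tensorMod E L) n = n * h k (ClSub.quotMod D) 0 + Curv2.deg k X E n := by
  haveI := isNoetherian_of_proper k X
  obtain ⟨e⟩ := hLD
  have hd := cartier_dim_le_zero hdim hD
  obtain ⟨hI, hQ⟩ := isCoh_idealMod D
  have hc := isCoh_of_rank hE
  have hLc := isCoh_of_inv hL
  have hO : Coh.IsCoh (Coh.structureModule X) := RefStalk.isCoh_structureModule
  have hT := shortExact_tmapR (hasFrames_of_rank hE) (shortExact_tmap hL (ideal_shortExact D))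
  have h := euler_add (k := k) hT (isCoh_tensor' (isCoh_tensor' hI hLc) hc)
    (isCoh_tensor' (isCoh_tensor' hO hLc) hc) (isCoh_tensor' (isCoh_tensor' hQ hLc) hc)
  change Curv2.euler k X (CohB1.tensorMod (CohB1.tensorMod (Coh.structureModule X) L) E) =
    Curv2.euler k X (CohB1.tensorMod (CohB1.tensorMod (ClSub.idealMod D) L) E) +
      Curv2.euler k X (CohB1.tensorMod (CohB1.tensorMod (ClSub.quotMod D) L) E) at h
  rw [euler_eq_of_iso (PicGrp.tensorModIso (TMul.leftUnitIso L) (Iso.refl E) ≪≫ TMul.commIso L E),
    euler_eq_of_iso (PicGrp.tensorModIso (TMul.commIso (ClSub.idealMod D) L ≪≫ e) (Iso.refl E) ≪≫ TMul.leftUnitIso E),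
    euler_eq_of_iso (TMul.commIso (CohB1.tensorMod (ClSub.quotMod D) L) E)] at h
  have hsupp : CohB1.support (CohB1.tensorMod (ClSub.quotMod D) L) ⊆ (D.support : Set X) := fun x hx => by
    by_contra hxD
    exact SuppZero.notMem_support_tensorMod _ L hL (fun h' => hxD (support_quotMod D h')) hx
  rw [euler_tensor_zeroDim (isCoh_tensor' hQ hLc) D.support.isClosed hd hsupp hE,
    euler_eq_of_iso (TMul.commIso (ClSub.quotMod D) L), euler_tensor_zeroDim hQ D.support.isClosed hd
      (support_quotMod D) (isFinLocFreeOfRank_one hL), Nat.cast_one, one_mul,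
    euler_eq_h0 (F := ClSub.quotMod D) fun i hi => SuppZero.subsingleton_hh_of_supported D.support.isClosed hd _
      (fun x hx h' => hx (support_quotMod D h')) i hi] at h
  rw [Curv2.deg, Curv2.deg, h]
  ring

end Groth.Agent.CurveRR
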