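import Groth.Agent.CurveRR.Clifford
import Groth.Agent.W7Slope.Hom
import Groth.Agent.W7Slope.Twist
import Groth.Agent.ZeroSch.Basic
import Groth.Prelude.Def_LinSer

/-!
# Pencils of degree two: uniqueness of the `g^1_2`
-/

set_option autoImplicit false
set_option linter.style.haveILetI false
set_option linter.unusedSectionVars false
set_option backward.isDefEq.respectTransparency false

universe u

open CategoryTheory CategoryTheory.Limits AlgebraicGeometry TopologicalSpace Opposite
open Groth.Agent.CohFinite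
open TMul (homOf val_homOf)
open Groth.Agent.QC (res res_self resO_self)

noncomputable section

namespace Groth.Agent.CurveRR

variable {X : Scheme.{u}}

theorem isCoh_biprod2 [IsLocallyNoetherian X] {A B : X.Modules} (hA : Coh.IsCoh A) (hB : Coh.IsCoh B) :
    Coh.IsCoh (A ⊞ B) := by
  refine isCoh_of_iso (Iso.mk (biproduct.desc fun j : WalkingPair => ?_)
      (biprod.desc (biproduct.ι (pairFunction A B) WalkingPair.left)
        (biproduct.ι (pairFunction A B) WalkingPair.right)) ?_ ?_)
    (Devissage.isCoh_biproduct (pairFunction A B) fun j => by cases j <;> assumption)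
  · exact WalkingPair.casesOn (motive := fun j => pairFunction A B j ⟶ A ⊞ B) j biprod.inl biprod.inr
  · apply biproduct.hom_ext'
    rintro (_ | _) <;> simp
  · apply biprod.hom_ext' <;> simp

variable {k : Type u} [Field k] [IsAlgClosed k] [X.Over (Spec (CommRingCat.of k))]
  [IsProper (X ↘ Spec (CommRingCat.of k))] [IsIntegral X]

variable (k) in
/-- Degree `≤ 1` has at most one section when `g ≥ 1`. -/
theorem two_le_deg (hdim : topologicalKrullDim X ≤ 1) (hg : 1 ≤ Curv2.genus k X) {L : X.Modules}
    (hL : PicF.IsInvertible L) (h : 2 ≤ h k L 0) : 2 ≤ Curv2.deg k X L 1 := by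
  rcases h0_cases (k := k) hdim hL (by omega) with he | he <;> omega

variable (k) in
/-- The kernel of a pencil of degree two pairs trivially with every pencil of degree two. -/
theorem exists_kernel_iso (hX : W7Slope.RegCurve X) (hg : 2 ≤ Curv2.genus k X) {M : X.Modules}
    (s : Fin 2 → LinSer.Sect X M) (hM : LinSer.IsLinSer k X M 2 1 s) :
    ∃ N : X.Modules, PicF.IsInvertible N ∧ ∀ M' : X.Modules, PicF.IsInvertible M' → Curv2.deg k X M' 1 = 2 →
      2 ≤ h k M' 0 → Nonempty (CohB1.tensorMod N M' ≅ Coh.structureModule X) := by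
  obtain ⟨hMi, hMd, hind⟩ := hM
  haveI := isNoetherian_of_proper k X
  set O := Coh.structureModule X with hOdef
  have hOc : Coh.IsCoh O := RefStalk.isCoh_structureModule
  have hMc := isCoh_of_inv hMi
  let f : O ⊞ O ⟶ M := biprod.desc (homOf (L := M) (s 0)) (homOf (L := M) (s 1))
  have hFc : Coh.IsCoh (O ⊞ O) := isCoh_biprod2 hOc hOc
  let S₀ : ShortComplex X.Modules := ShortComplex.mk (biprod.inl : O ⟶ O ⊞ O) biprod.snd biprod.inl_snd
  let sp : S₀.Splitting :=
    { r := biprod.fst, s := biprod.inr, f_r := biprod.inl_fst, s_g := biprod.inr_snd, id := biprod.total }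
  have hS₀ : S₀.ShortExact := sp.shortExact
  have hgF : W7Slope.grk (O ⊞ O) = 2 := by
    have := W7Slope.grk_add hS₀ hFc
    change W7Slope.grk (O ⊞ O) = W7Slope.grk O + W7Slope.grk O at this
    rwa [W7Slope.grk_of_rank (isFinLocFreeOfRank_one TMul.isInvertible_structureModule)] at this
  have hdF : W7Slope.cdeg k (O ⊞ O) = 0 := by
    have := W7Slope.cdeg_add (k := k) hS₀ hOc hFc hOc
    change W7Slope.cdeg k (O ⊞ O) = W7Slope.cdeg k O + W7Slope.cdeg k O at this
    rwa [← W7Slope.deg_eq (isFinLocFreeOfRank_one TMul.isInvertible_structureModule), deg_structure, add_zero] at this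
  have hne : ∀ i, homOf (L := M) (s i) ≠ 0 := fun i h0 => by
    have h1 : s i = 0 := by
      have h2 := val_homOf (L := M) (s i) ⊤
      rw [res_self, h0] at h2
      exact h2.symm.trans rfl
    have h2 := hind (Pi.single i 1) ((Finset.sum_eq_zero fun j _ => by
      by_cases hj : j = i
      · subst hj; rw [h1, smul_zero]
      · rw [Pi.single_eq_of_ne hj, map_zero, zero_smul]))
    exact one_ne_zero (α := k) (by simpa using congrFun h2 i)
  -- the map is an epimorphism
  haveI : Epi f := by
    have hsec : 2 ≤ h k (Abelian.image f) 0 := by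
      have hIc := W7Slope.isCoh_kernel k hMc (W7Slope.isCoh_cokernel k hFc hMc f) (cokernel.π f)
      haveI := finite_proper k X _ hIc 0
      letI := secMod k (Abelian.image f) ⊤
      haveI : Module.Finite k Γ(Abelian.image f, ⊤) := Module.Finite.equiv (secH0 (k := k) _).symm
      let t : Fin 2 → Γ(Abelian.image f, ⊤) := fun i =>
        TMul.val ((![biprod.inl, biprod.inr] i : O ⟶ O ⊞ O) ≫ Abelian.factorThruImage f) ⊤
      have ht : ∀ i, (Abelian.image.ι f).app ⊤ (t i) = s i := by
        intro i
        show TMul.val (((![biprod.inl, biprod.inr] i : O ⟶ O ⊞ O) ≫ Abelian.factorThruImage f) ≫ Abelian.image.ι f) ⊤ = s i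
        rw [Category.assoc, Abelian.image.fac]
        fin_cases i
        · show TMul.val (biprod.inl ≫ f) ⊤ = s 0
          rw [biprod.inl_desc, val_homOf, res_self]
        · show TMul.val (biprod.inr ≫ f) ⊤ = s 1
          rw [biprod.inr_desc, val_homOf, res_self]
      have hli : LinearIndependent k t := Fintype.linearIndependent_iff.2 fun c hc i => by
        refine congrFun (hind c ?_) i
        have h3 := congrArg ((Abelian.image.ι f).app ⊤) hc
        rw [map_zero, map_sum] at h3
        refine Eq.trans (Finset.sum_congr rfl fun j _ => ?_) h3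
        show _ = (Abelian.image.ι f).app ⊤ (cst k X ⊤ (c j) • t j)
        rw [TMul.app_smul, ht, show cst k X ⊤ (c j) = Coh.toGlobal (X ↘ Spec (CommRingCat.of k)) (c j) from resO_self _ _]
      have h4 := hli.fintype_card_le_finrank
      rwa [Fintype.card_fin, finrank_sec] at h4
    have hIc := W7Slope.isCoh_kernel k hMc (W7Slope.isCoh_cokernel k hFc hMc f) (cokernel.π f)
    have hIr := W7Slope.isFinLocFree_sub k hX (Abelian.image.ι f) hIc (isFinLocFreeOfRank_one hMi)
    have hle1 := W7Slope.grk_le_of_mono k (Abelian.image.ι f) hMc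
    rw [W7Slope.grk_of_rank (isFinLocFreeOfRank_one hMi)] at hle1
    have hι0 : Abelian.image.ι f ≠ 0 := fun h0 => hne 0 (by
      rw [show homOf (L := M) (s 0) = biprod.inl ≫ f from (biprod.inl_desc _ _).symm, ← Abelian.image.fac f, h0,
        comp_zero, comp_zero])
    have hg1 : W7Slope.grk (Abelian.image f) = 1 := by
      by_contra h1
      exact hι0 ((W7Slope.isZero_of_rank_zero ((show W7Slope.grk (Abelian.image f) = 0 by omega) ▸ hIr)).eq_of_src _ _)
    rw [hg1] at hIr
    have hIi := ZeroSch.isInvertible_of_rankOne hIr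
    obtain ⟨hle, hiso⟩ := deg_le_and_isIso (k := k) hX.dim hIi hMi (Abelian.image.ι f) hι0
    have := two_le_deg k hX.dim (by omega) hIi hsec
    haveI := hiso (by push_cast at hMd; omega)
    rw [← Abelian.image.fac f]
    infer_instance
  have hS : (ShortComplex.mk (kernel.ι f) f (kernel.condition f)).ShortExact := shortExact_ker f
  have hNc := W7Slope.isCoh_kernel k hFc hMc f
  haveI : Mono (kernel.ι f ≫ biprod.fst) := by
    refine Preadditive.mono_of_cancel_zero _ fun g hg => ?_
    rw [← Category.assoc] at hg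
    haveI := mono_of_ne_zero TMul.isInvertible_structureModule hMi (homOf (L := M) (s 1)) (hne 1)
    have h1 : (g ≫ kernel.ι f) ≫ biprod.snd = 0 := by
      rw [← cancel_mono (homOf (L := M) (s 1)), zero_comp]
      have h2 : (g ≫ kernel.ι f) ≫ f = 0 := by rw [Category.assoc, kernel.condition, comp_zero]
      have h3 : (g ≫ kernel.ι f) ≫ f = ((g ≫ kernel.ι f) ≫ biprod.fst) ≫ homOf (L := M) (s 0) +
          ((g ≫ kernel.ι f) ≫ biprod.snd) ≫ homOf (L := M) (s 1) := by
        show _ ≫ biprod.desc _ _ = _
        rw [biprod.desc_eq, Preadditive.comp_add, Category.assoc _ biprod.fst, Category.assoc _ biprod.snd]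
      rw [h3, hg, zero_comp, zero_add] at h2
      exact h2
    rw [← cancel_mono (kernel.ι f), zero_comp]
    exact biprod.hom_ext _ _ (hg.trans zero_comp.symm) (h1.trans zero_comp.symm)
  have hgN : W7Slope.grk (kernel f) = 1 := by
    have := W7Slope.grk_add hS hFc
    change W7Slope.grk (O ⊞ O) = W7Slope.grk (kernel f) + W7Slope.grk M at this
    rw [hgF, W7Slope.grk_of_rank (isFinLocFreeOfRank_one hMi)] at this
    omega
  have hNr : FlatMod.IsFinLocFreeOfRank 1 (kernel f) := by
    have := W7Slope.isFinLocFree_sub k hX (kernel.ι f ≫ biprod.fst) hNc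
      (isFinLocFreeOfRank_one (TMul.isInvertible_structureModule (X := X)))
    rwa [hgN] at this
  have hN := ZeroSch.isInvertible_of_rankOne hNr
  have hdN : Curv2.deg k X (kernel f) 1 = -2 := by
    have := W7Slope.cdeg_add (k := k) hS hNc hFc hMc
    change W7Slope.cdeg k (O ⊞ O) = W7Slope.cdeg k (kernel f) + W7Slope.cdeg k M at this
    rw [hdF, ← W7Slope.deg_eq hNr, ← W7Slope.deg_eq (isFinLocFreeOfRank_one hMi), hMd] at this
    push_cast at this
    omega
  refine ⟨kernel f, hN, fun M' hM' hd' h2' => ?_⟩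
  have hNM := TMul.isInvertible_tensorMod hN hM'
  have hdNM : Curv2.deg k X (CohB1.tensorMod (kernel f) M') 1 = 0 := by
    rw [W7Slope.deg_twist hX.dim hNr hM', hdN, hd']
    norm_num
  by_cases h0 : h k (CohB1.tensorMod (kernel f) M') 0 = 0
  · exfalso
    have hT := shortExact_tmap hM' hS
    have hT₀ := shortExact_tmap hM' hS₀
    have hMM := TMul.isInvertible_tensorMod hMi hM'
    haveI := finite_proper k X _ (isCoh_of_inv hNM) 0
    haveI := finite_proper k X _ (isCoh_of_inv hMM) 0
    haveI := finite_proper k X _ (isCoh_tensor hFc hM') 0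
    haveI := finite_proper k X _ (isCoh_tensor hOc hM') 0
    haveI : Subsingleton (Coh.HH X (CohB1.tensorMod (kernel f) M') 0) := Module.finrank_zero_iff.1 h0
    have hinj : Function.Injective (hhMap k (tmap f M') 0) := LinearMap.ker_eq_bot.1 (by
      rw [show LinearMap.ker (hhMap k (tmap f M') 0) = LinearMap.range (hhMap k (tmap (kernel.ι f) M') 0) from
        (range_f_eq_ker_g hT 0).symm, LinearMap.range_eq_bot]
      exact Subsingleton.elim _ _)
    have hsurj : Function.Surjective (hhMap k (tmap (biprod.snd : O ⊞ O ⟶ O) M') 0) := fun x =>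
      ⟨hhMap k (tmap (biprod.inr : O ⟶ O ⊞ O) M') 0 x, by
        rw [← hhMap_comp, ← tmap_comp, biprod.inr_snd, tmap_id, hhMap_id]⟩
    have h1 := LinearMap.finrank_range_add_finrank_ker (hhMap k (tmap (biprod.snd : O ⊞ O ⟶ O) M') 0)
    rw [LinearMap.range_eq_top.2 hsurj, finrank_top,
      show LinearMap.ker (hhMap k (tmap (biprod.snd : O ⊞ O ⟶ O) M') 0) =
        LinearMap.range (hhMap k (tmap (biprod.inl : O ⟶ O ⊞ O) M') 0) from (range_f_eq_ker_g hT₀ 0).symm,
      LinearMap.finrank_range_of_inj (injective_f (k := k) hT₀)] at h1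
    have hO : h k (CohB1.tensorMod O M') 0 = h k M' 0 := h_eq_of_iso (TMul.leftUnitIso M') 0
    have h3 := LinearMap.finrank_le_finrank_of_injective hinj
    change h k (CohB1.tensorMod O M') 0 + h k (CohB1.tensorMod O M') 0 = h k (CohB1.tensorMod (O ⊞ O) M') 0 at h1
    change h k (CohB1.tensorMod (O ⊞ O) M') 0 ≤ h k (CohB1.tensorMod M M') 0 at h3
    have hd4 : Curv2.deg k X (CohB1.tensorMod M M') 1 = 4 := by
      rw [W7Slope.deg_twist hX.dim (isFinLocFreeOfRank_one hMi) hM', hMd, hd']
      norm_num
    rcases h0_cases (k := k) hX.dim hMM (by omega) with he | he <;> omega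
  · obtain ⟨t, ht⟩ := exists_section (k := k) h0
    exact nonempty_iso_of_section (k := k) hX.dim hNM t ht hdNM.le

variable (k) in
/-- The `g^1_2` is unique. -/
theorem g12_unique (hX : W7Slope.RegCurve X) (hg : 2 ≤ Curv2.genus k X) {M M' : X.Modules}
    (s : Fin 2 → LinSer.Sect X M) (hM : LinSer.IsLinSer k X M 2 1 s) (hM' : PicF.IsInvertible M')
    (hd' : Curv2.deg k X M' 1 = 2) (h2 : 2 ≤ h k M 0) (h2' : 2 ≤ h k M' 0) : Nonempty (M ≅ M') := by
  obtain ⟨N, hN, h⟩ := exists_kernel_iso k hX hg s hM
  obtain ⟨e⟩ := h M hM.1 (by have := hM.2.1; push_cast at this; exact this) h2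
  obtain ⟨e'⟩ := h M' hM' hd' h2'
  -- M ≅ M ⊗ N ⊗ M' ≅ M'
  let φ := TMul.commIso M N ≪≫ e
  exact ⟨(W7Slope.untw e' M).symm ≪≫
    { hom := tmap φ.hom M', inv := tmap φ.inv M'
      hom_inv_id := by rw [← tmap_comp, Iso.hom_inv_id, tmap_id]
      inv_hom_id := by rw [← tmap_comp, Iso.inv_hom_id, tmap_id] } ≪≫ TMul.leftUnitIso M'⟩

variable (k) in
theorem two_le_h0_of_linIndep {M : X.Modules} (hM : Coh.IsCoh M) (s : Fin 2 → LinSer.Sect X M)
    (hind : LinSer.LinIndep k X M s) : 2 ≤ h k M 0 := by
  haveI := finite_proper k X M hM 0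
  letI := secMod k M ⊤
  haveI : Module.Finite k Γ(M, ⊤) := Module.Finite.equiv (secH0 (k := k) _).symm
  let t : Fin 2 → Γ(M, ⊤) := s
  have hli : LinearIndependent k t := Fintype.linearIndependent_iff.2 fun c hc i => by
    refine congrFun (hind c (Eq.trans (Finset.sum_congr rfl fun j _ => ?_) hc)) i
    show _ = cst k X ⊤ (c j) • t j
    rw [show cst k X ⊤ (c j) = Coh.toGlobal (X ↘ Spec (CommRingCat.of k)) (c j) from resO_self _ _]
  have h4 := hli.fintype_card_le_finrank
  rwa [Fintype.card_fin, finrank_sec] at h4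

end Groth.Agent.CurveRR
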