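import Groth.Agent.CurveRR.Point
import Groth.Agent.W7See.Fibre
import Groth.Agent.Nakai.FibreDeg

/-!
Rational points of a proper curve over any field.
-/

set_option autoImplicit false
set_option backward.isDefEq.respectTransparency false
set_option linter.style.haveILetI false

universe u

open CategoryTheory CategoryTheory.Limits AlgebraicGeometry TopologicalSpace Opposite
open Groth.Agent.CohFinite
open Groth.Agent.QC (res resO res_res res_self res_smul resO_resO resO_self section_eq_of_locally app_res)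
open TMul (IsGen homOf val_homOf tm)

noncomputable section

namespace Groth.Agent.CurveRR

variable {k : Type u} [Field k] {X : Scheme.{u}} [X.Over (Spec (CommRingCat.of k))]
  [IsProper (X ↘ Spec (CommRingCat.of k))]

/-- A closed point has degree one. -/
theorem h0_quotMod_ratPoint {P : X} (hP : IsClosed ({P} : Set X)) (s : Spec (CommRingCat.of k) ⟶ X)
    (hs : s ≫ (X ↘ Spec (CommRingCat.of k)) = 𝟙 _) (hsP : ∀ p, s p = P) :
    h k (ClSub.quotMod (Scheme.IdealSheafData.vanishingIdeal ⟨{P}, hP⟩)) 0 = 1 := by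
  haveI := isNoetherian_of_proper k X
  let I := Scheme.IdealSheafData.vanishingIdeal ⟨{P}, hP⟩
  haveI : IsReduced I.subscheme := Groth.Agent.DvrDom.isReduced_vanishingIdeal_subscheme _
  have hr : Set.range I.subschemeι = {P} := by
    rw [I.range_subschemeι]; simp [I]
  haveI : Nonempty I.subscheme := by
    obtain ⟨y, -⟩ : P ∈ Set.range I.subschemeι := by rw [hr]; rfl
    exact ⟨y⟩
  haveI : Subsingleton I.subscheme := ⟨fun a b => I.subschemeι.isClosedEmbedding.injective
    ((hr.le ⟨a, rfl⟩ : I.subschemeι a = P).trans (hr.le ⟨b, rfl⟩ : I.subschemeι b = P).symm)⟩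
  haveI : IrreducibleSpace I.subscheme :=
    { isPreirreducible_univ := Set.subsingleton_univ.isPreirreducible, toNonempty := inferInstance }
  haveI : IsIntegral I.subscheme := isIntegral_of_irreducibleSpace_of_isReduced _
  have hker : I.subschemeι.ker ≤ s.ker := by
    haveI : IsClosedImmersion (s ≫ (X ↘ Spec (CommRingCat.of k))) := by rw [hs]; infer_instance
    haveI : IsClosedImmersion s := IsClosedImmersion.of_comp s (X ↘ Spec (CommRingCat.of k))
    rw [I.ker_subschemeι, Groth.Agent.Nakai.ker_eq_vanishingIdeal s]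
    change Scheme.IdealSheafData.vanishingIdeal ⟨{P}, hP⟩ ≤ _
    refine le_of_eq (congrArg Scheme.IdealSheafData.vanishingIdeal (SetLike.coe_injective ?_))
    rw [Scheme.Hom.support_ker, (s.isClosedEmbedding.isClosed_range).closure_eq]
    exact (Set.range_eq_singleton_iff.2 hsP).symm
  have hb0 : Function.Bijective (Coh.toGlobal (I.subschemeι ≫ (X ↘ Spec (CommRingCat.of k)))) := by
    have h1 := Groth.Agent.W7See.bijective_of_point (I.subschemeι ≫ (X ↘ Spec (CommRingCat.of k)))
      (IsClosedImmersion.lift I.subschemeι s hker) (by rw [← Category.assoc, IsClosedImmersion.lift_fac, hs])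
    exact h1.comp (ConcreteCategory.bijective_of_isIso (Scheme.ΓSpecIso (CommRingCat.of k)).inv)
  letI := secMod k (ClSub.quotMod I) ⊤
  rw [← finrank_sec]
  let g : k →+* Γ(I.subscheme, I.subschemeι ⁻¹ᵁ ⊤) := (I.subschemeι.app ⊤).hom.comp (cst k X ⊤)
  have hg : (g : k → Γ(I.subscheme, I.subschemeι ⁻¹ᵁ ⊤)) =
      (Coh.toGlobal (I.subschemeι ≫ (X ↘ Spec (CommRingCat.of k))) : k → _) := funext fun a => by
    show (I.subschemeι.app ⊤).hom (cst k X ⊤ a) = _
    rw [show cst k X ⊤ a = Coh.toGlobal (X ↘ Spec (CommRingCat.of k)) a from resO_self _ _]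
    rfl
  let e : k →ₗ[k] Γ(ClSub.quotMod I, ⊤) :=
    { toFun := fun a => g a
      map_add' := map_add _
      map_smul' := fun a b => map_mul g a b }
  have hb : Function.Bijective e := by
    show Function.Bijective (g : k → Γ(I.subscheme, I.subschemeι ⁻¹ᵁ ⊤))
    rw [hg]; exact hb0
  rw [← (LinearEquiv.ofBijective e hb).finrank_eq, Module.finrank_self]

theorem euler_ratPointIdeal {P : X} (hP : IsClosed ({P} : Set X)) (s : Spec (CommRingCat.of k) ⟶ X)
    (hs : s ≫ (X ↘ Spec (CommRingCat.of k)) = 𝟙 _) (hsP : ∀ p, s p = P) {L : X.Modules}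
    (hL : PicF.IsInvertible L) :
    Curv2.euler k X (CohB1.tensorMod (ClSub.idealMod (Scheme.IdealSheafData.vanishingIdeal ⟨{P}, hP⟩)) L) =
      Curv2.euler k X L - 1 := by
  rw [euler_ideal_tensor hL _ (point_dim hP), h0_quotMod_ratPoint hP s hs hsP]
  norm_num

/-- `h^0` drops by at most one at a point, exactly when some section generates there. -/
theorem h0_ratPointIdeal {P : X} (hP : IsClosed ({P} : Set X)) (s : Spec (CommRingCat.of k) ⟶ X)
    (hs : s ≫ (X ↘ Spec (CommRingCat.of k)) = 𝟙 _) (hsP : ∀ p, s p = P) {L : X.Modules}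
    (hL : PicF.IsInvertible L) :
    letI M := CohB1.tensorMod (ClSub.idealMod (Scheme.IdealSheafData.vanishingIdeal ⟨{P}, hP⟩)) L
    h k M 0 ≤ h k L 0 ∧ h k L 0 ≤ h k M 0 + 1 ∧
      (h k M 0 + 1 = h k L 0 ↔ ∃ t : Γ(L, ⊤), P ∈ CohB1.genLocus L (homOf t)) := by
  haveI := isNoetherian_of_proper k X
  set I := Scheme.IdealSheafData.vanishingIdeal ⟨{P}, hP⟩ with hI
  have hQ := (isCoh_idealMod I).2
  have hT := shortExact_tmap hL (ideal_shortExact I)
  have hM := isCoh_tensor' (isCoh_idealMod I).1 (isCoh_of_inv hL)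
  haveI := mono_idealIncl hL I
  haveI := finite_proper k X _ hM 0
  haveI := finite_proper k X _ (isCoh_of_inv hL) 0
  haveI := finite_proper k X _ (isCoh_tensor' hQ (isCoh_of_inv hL)) 0
  have hOL : h k (CohB1.tensorMod (Coh.structureModule X) L) 0 = h k L 0 := h_eq_of_iso (TMul.leftUnitIso L) 0
  have hQL : h k (CohB1.tensorMod (ClSub.quotMod I) L) 0 = 1 := by
    rw [h_eq_of_iso (TMul.commIso (ClSub.quotMod I) L),
      (h0_tensor (k := k) hQ I.support.isClosed (point_dim hP) (support_quotMod I) (isFinLocFreeOfRank_one hL)).1,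
      one_mul, h0_quotMod_ratPoint hP s hs hsP]
  haveI := finite_proper k X _ (isCoh_tensor' RefStalk.isCoh_structureModule (isCoh_of_inv hL)) 0
  have e := (hhMap k (tmap (ClSub.toSubscheme I) L) 0).finrank_range_add_finrank_ker
  have e' : Module.finrank k (LinearMap.ker (hhMap k (tmap (ClSub.toSubscheme I) L) 0)) =
      h k (CohB1.tensorMod (ClSub.idealMod I) L) 0 := by
    rw [← range_f_eq_ker_g hT 0]
    exact LinearMap.finrank_range_of_inj (injective_f hT)
  have hle : Module.finrank k (LinearMap.range (hhMap k (tmap (ClSub.toSubscheme I) L) 0)) ≤ 1 :=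
    (Submodule.finrank_le _).trans hQL.le
  have e'' : Module.finrank k (LinearMap.range (hhMap k (tmap (ClSub.toSubscheme I) L) 0)) +
      h k (CohB1.tensorMod (ClSub.idealMod I) L) 0 = h k L 0 := by
    rw [← hOL, ← e']; exact e
  refine ⟨by omega, by omega, fun heq => ?_, fun ⟨t, ht⟩ => ?_⟩
  · by_contra! hno
    letI := secMod k L ⊤
    letI := secMod k (CohB1.tensorMod (ClSub.idealMod I) L) ⊤
    haveI : Module.Finite k Γ(CohB1.tensorMod (ClSub.idealMod I) L, ⊤) :=
      Module.Finite.equiv (secH0 (k := k) (CohB1.tensorMod (ClSub.idealMod I) L)).symm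
    let φ : Γ(CohB1.tensorMod (ClSub.idealMod I) L, ⊤) →ₗ[k] Γ(L, ⊤) :=
      { toFun := (idealIncl I L).app ⊤
        map_add' := map_add _
        map_smul' := fun a s => TMul.app_smul _ _ _ }
    have := φ.finrank_range_le
    rw [LinearMap.range_eq_top.mpr fun t => mem_range_idealIncl hL ⟨{P}, hP⟩ t fun z hz => by
      rw [Set.mem_singleton_iff.mp hz]; exact hno t, finrank_top, finrank_sec, finrank_sec] at this
    omega
  · by_contra hne
    have h0r : Module.finrank k (LinearMap.range (hhMap k (tmap (ClSub.toSubscheme I) L) 0)) = 0 := by omega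
    have hsurj : Function.Surjective (hhMap k (idealIncl I L) 0) := fun x => by
      obtain ⟨y, rfl⟩ := (hhEquiv k (TMul.leftUnitIso L) 0).surjective x
      have : y ∈ LinearMap.range (hhMap k (tmap (ClSub.idealModι I) L) 0) := by
        refine (range_f_eq_ker_g hT 0).ge (LinearMap.mem_ker.mpr ?_)
        have := LinearMap.mem_range_self (hhMap k (tmap (ClSub.toSubscheme I) L) 0) y
        rwa [Submodule.finrank_eq_zero.mp h0r, Submodule.mem_bot] at this
      obtain ⟨w, rfl⟩ := this
      exact ⟨w, hhMap_comp k _ _ 0 w⟩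
    have hs : ∃ u, (idealIncl I L).app ⊤ u = t := by
      letI := secMod k L ⊤
      letI := secMod k (CohB1.tensorMod (ClSub.idealMod I) L) ⊤
      obtain ⟨x, hx⟩ := hsurj (secH0 (k := k) L t)
      refine ⟨(secH0 (k := k) (CohB1.tensorMod (ClSub.idealMod I) L)).symm x, (secH0 (k := k) L).injective ?_⟩
      rw [← hx]
      refine Eq.trans ?_ (congrArg (hhMap k (idealIncl I L) 0)
        ((secH0 (k := k) (CohB1.tensorMod (ClSub.idealMod I) L)).apply_symm_apply x))
      exact (Sheaf.H.equiv₀_symm_naturality (Limits.isTerminalTop (α := X.Opens))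
        ((SheafOfModules.toSheaf X.ringCatSheaf).map (idealIncl I L)) _).symm
    obtain ⟨u, rfl⟩ := hs
    exact notMem_genLocus_idealIncl hL I u (by rw [hI]; simp) ht

end Groth.Agent.CurveRR
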