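import Groth.Agent.CurveRR.Multi
import Groth.Agent.CurveRR.Ample
import Groth.Agent.CurveRR.Cartier
import Groth.Agent.S11559

/-!
Consequences of the componentwise degree formula.
-/

set_option autoImplicit false
set_option backward.isDefEq.respectTransparency false
set_option linter.style.haveILetI false
set_option linter.unusedSectionVars false

universe u

open CategoryTheory CategoryTheory.Limits AlgebraicGeometry TopologicalSpace Opposite
open Groth.Agent.CohFinite
open TMul (IsGen homOf val_homOf)

noncomputable section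

namespace Groth.Agent.CurveRR.Multi

theorem nonempty_stalk_equiv {X : Scheme.{u}} {L : X.Modules} (hL : PicF.IsInvertible L) (x : X) :
    Nonempty (X.presheaf.stalk x ≃ₗ[X.presheaf.stalk x] L.presheaf.stalk x) := by
  obtain ⟨D, g, hxD, hg⟩ := TMul.exists_isGen hL x
  exact ⟨LinearEquiv.ofBijective (LinearMap.toSpanSingleton (X.presheaf.stalk x) (L.presheaf.stalk x)
    (WeakAssLib.mgerm L hxD g))
    ⟨fun a b h => ZeroSch.eq_of_germ_smul hg hxD h, fun v => let ⟨r, hr⟩ := ZeroSch.exists_smul_germ hg hxD v
      ⟨r, hr.symm⟩⟩⟩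

theorem length_stalkUnit {X : Scheme.{u}} (x : X) :
    Module.length (X.presheaf.stalk x) ((Coh.structureModule X).presheaf.stalk x) =
      Module.length (X.presheaf.stalk x) (X.presheaf.stalk x) :=
  let ⟨e⟩ := nonempty_stalk_equiv (TMul.isInvertible_structureModule (X := X)) x
  e.length_eq.symm

variable (k : Type u) [Field k] {X : Scheme.{u}} [X.Over (Spec (CommRingCat.of k))]
  [IsProper (X ↘ Spec (CommRingCat.of k))]

theorem radical_component [IsNoetherian X] (Z : irreducibleComponents (X : Type u)) :
    (X.irreducibleComponentIdeal Z.1 Z.2).radical =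
      Scheme.IdealSheafData.vanishingIdeal (Devissage.Zc Z.2.1.genericPoint) := by
  rw [← Scheme.IdealSheafData.vanishingIdeal_support]
  refine congrArg _ (Closeds.ext ?_)
  show Z.1 = closure {Z.2.1.genericPoint}
  exact (Z.2.1.isGenericPoint_genericPoint (isClosed_of_mem_irreducibleComponents _ Z.2)).def.symm

theorem deg_eq_finsum [IsNoetherian X] (hdim : topologicalKrullDim X ≤ 1) (n : ℕ) (E : X.Modules)
    (hE : FlatMod.IsFinLocFreeOfRank n E) :
    Curv2.deg k X E n = ∑ᶠ Z : irreducibleComponents (X : Type u),
      (if topologicalKrullDim (Z.1 : Set X) = 1 then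
        ((Module.length (X.presheaf.stalk Z.2.1.genericPoint) (X.presheaf.stalk Z.2.1.genericPoint)).toNat : ℤ) *
          degOn k (X.irreducibleComponentIdeal Z.1 Z.2).radical n E
      else 0) := by
  haveI : Fintype (irreducibleComponents (X : Type u)) :=
    (NoetherianSpace.finite_irreducibleComponents (α := X)).fintype
  have h := D_eq_compSum k n E hdim hE (Coh.structureModule X) RefStalk.isCoh_structureModule
  rw [D, euler_eq_of_iso (TMul.leftUnitIso E)] at h
  rw [finsum_eq_sum_of_fintype]
  refine Eq.trans h (Finset.sum_congr rfl fun Z _ => ?_)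
  rw [radical_component Z]
  congr 1
  refine congrArg (fun l : ℕ∞ => ((l.toNat : ℤ)) * _) ?_
  exact length_stalkUnit Z.2.1.genericPoint

theorem lenAt_locFree [IsNoetherian X] {m : ℕ} {V : X.Modules} (hV : FlatMod.IsFinLocFreeOfRank m V) {ξ : X}
    (hξ : ∀ y : X, y ⤳ ξ → y = ξ) : lenAt V ξ = m * lenAt (Coh.structureModule X) ξ := by
  obtain ⟨W, hxW, ⟨i⟩⟩ := hV ξ
  obtain ⟨b⟩ := LocFree.exists_basis_stalk i (isCoh_of_rank hV).1 hxW
  haveI := RatFunLib.isArtinianRing_stalk hξ
  have h1 := (b.equivFun).length_eq
  have h2 := length_stalkUnit ξ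
  rw [lenAt, lenAt, h1, h2, Module.length_pi_of_fintype, Finset.sum_const, Finset.card_univ, Fintype.card_ulift,
    Fintype.card_fin, nsmul_eq_mul, ENat.toNat_mul, ENat.toNat_coe]
  push_cast
  rfl

theorem deg_tensor (hdim : topologicalKrullDim X ≤ 1) (n m : ℕ) (E V : X.Modules)
    (hE : FlatMod.IsFinLocFreeOfRank n E) (hV : FlatMod.IsFinLocFreeOfRank m V) :
    Curv2.deg k X (CohB1.tensorMod E V) (n * m) = n * Curv2.deg k X V m + m * Curv2.deg k X E n := by
  haveI := isNoetherian_of_proper k X
  haveI : Fintype (irreducibleComponents (X : Type u)) :=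
    (NoetherianSpace.finite_irreducibleComponents (α := X)).fintype
  have h := D_eq_compSum k n E hdim hE V (isCoh_of_rank hV)
  have h' := D_eq_compSum k n E hdim hE (Coh.structureModule X) RefStalk.isCoh_structureModule
  have hs : compSum k n E V = m * compSum k n E (Coh.structureModule X) := by
    rw [compSum, compSum, Finset.mul_sum]
    refine Finset.sum_congr rfl fun Z _ => ?_
    rw [lenAt_locFree hV (eq_of_specializes Z)]
    split_ifs <;> ring
  rw [hs, ← h', D, D, euler_eq_of_iso (TMul.leftUnitIso E), euler_eq_of_iso (TMul.commIso V E)] at h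
  rw [Curv2.deg, Curv2.deg, Curv2.deg]
  push_cast
  linear_combination h

theorem deg_nonneg_of_nef (hdim : topologicalKrullDim X = 1) {L : X.Modules} (hL : PicF.IsInvertible L)
    (hnef : ∀ C : X.IdealSheafData, IsIntegral C.subscheme →
      topologicalKrullDim (C.support : Set X) = 1 →
        0 ≤ Curv2.euler k X (CohB1.tensorMod (ClSub.quotMod C) L) - Curv2.euler k X (ClSub.quotMod C)) :
    0 ≤ Curv2.deg k X L 1 := by
  haveI := isNoetherian_of_proper k X
  haveI : Fintype (irreducibleComponents (X : Type u)) :=
    (NoetherianSpace.finite_irreducibleComponents (α := X)).fintype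
  have hE := isFinLocFreeOfRank_one hL
  have h := D_eq_compSum k 1 L hdim.le hE (Coh.structureModule X) RefStalk.isCoh_structureModule
  rw [D, euler_eq_of_iso (TMul.leftUnitIso L)] at h
  rw [Curv2.deg, h, compSum]
  refine Finset.sum_nonneg fun Z _ => ?_
  split_ifs with h1
  · refine mul_nonneg (Int.natCast_nonneg _) ?_
    rw [← D_A k 1 L hE Z.2.1.genericPoint, D]
    have := hnef (Scheme.IdealSheafData.vanishingIdeal (Devissage.Zc Z.2.1.genericPoint)) (Devissage.Zi_isIntegral _) (by
      rw [Scheme.IdealSheafData.coe_support_vanishingIdeal]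
      show topologicalKrullDim (closure {Z.2.1.genericPoint} : Set X) = 1
      rw [(Z.2.1.isGenericPoint_genericPoint (isClosed_of_mem_irreducibleComponents _ Z.2)).def]
      exact h1)
    simpa using this
  · exact le_rfl

theorem isAmple_iff [IsNoetherian X] (hdim : topologicalKrullDim X ≤ 1) {L : X.Modules} (hL : PicF.IsInvertible L) :
    CohB1.IsAmple L ↔ ∀ (C : Set X) (hC : C ∈ irreducibleComponents (X : Type u)),
      topologicalKrullDim C = 1 → 0 < degOn k (X.irreducibleComponentIdeal C hC).radical 1 L := by
  rw [Groth.Agent.S11559.result k X L hL]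
  have key : ∀ (C : Set X) (hC : C ∈ irreducibleComponents (X : Type u)) (Z : Closeds X), (Z : Set X) = C →
      (X.irreducibleComponentIdeal C hC).radical = Scheme.IdealSheafData.vanishingIdeal Z := fun C hC Z hZ => by
    rw [← Scheme.IdealSheafData.vanishingIdeal_support]
    exact congrArg _ (Closeds.ext hZ.symm)
  have inst : ∀ (Z : Closeds X), (Z : Set X) ∈ irreducibleComponents (X : Type u) →
      IsIntegral (Scheme.IdealSheafData.vanishingIdeal Z).subscheme ∧
        topologicalKrullDim (Scheme.IdealSheafData.vanishingIdeal Z).subscheme = topologicalKrullDim (Z : Set X) ∧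
        Set.range (Scheme.IdealSheafData.vanishingIdeal Z).subschemeι = Z := fun Z hZ => by
    have hg : (⟨closure {hZ.1.genericPoint}, isClosed_closure⟩ : Closeds X) = Z :=
      Closeds.ext (hZ.1.isGenericPoint_genericPoint Z.isClosed).def
    refine ⟨hg ▸ Devissage.Zi_isIntegral _, ?_, DvrDom.range_vanishingIdeal_subschemeι Z⟩
    rw [((Scheme.IdealSheafData.vanishingIdeal Z).subschemeι.isClosedEmbedding.isEmbedding.toHomeomorph).isHomeomorph.topologicalKrullDim_eq,
      DvrDom.range_vanishingIdeal_subschemeι Z]
  constructor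
  · intro h C hC hd
    let Z : Closeds X := ⟨C, isClosed_of_mem_irreducibleComponents _ hC⟩
    rw [key C hC Z rfl]
    obtain ⟨hi, hd', -⟩ := inst Z hC
    let I := Scheme.IdealSheafData.vanishingIdeal Z
    letI : I.subscheme.Over (Spec (CommRingCat.of k)) := ⟨I.subschemeι ≫ (X ↘ Spec (CommRingCat.of k))⟩
    haveI : IsProper (I.subscheme ↘ Spec (CommRingCat.of k)) :=
      inferInstanceAs (IsProper (I.subschemeι ≫ (X ↘ Spec (CommRingCat.of k))))
    haveI := hi
    exact deg_pos_of_isAmple (hd'.trans hd) (h Z hC)
  · intro h Z hZ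
    obtain ⟨hi, hd', hr⟩ := inst Z hZ
    let I := Scheme.IdealSheafData.vanishingIdeal Z
    letI : I.subscheme.Over (Spec (CommRingCat.of k)) := ⟨I.subschemeι ≫ (X ↘ Spec (CommRingCat.of k))⟩
    haveI : IsProper (I.subscheme ↘ Spec (CommRingCat.of k)) :=
      inferInstanceAs (IsProper (I.subschemeι ≫ (X ↘ Spec (CommRingCat.of k))))
    haveI := hi
    have hL' := isFinLocFreeOfRank_pullback I.subschemeι (isFinLocFreeOfRank_one hL)
    have hLi : PicF.IsInvertible ((Scheme.Modules.pullback I.subschemeι).obj L) :=
      fun x => let ⟨U, hx, ⟨e⟩⟩ := hL' x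
        ⟨U, hx, ⟨e ≪≫ coproductUniqueIso (fun _ : Fin 1 => Coh.structureModule (U : Scheme.{u}))⟩⟩
    by_cases hd : topologicalKrullDim (Z : Set X) = 1
    · refine isAmple_of_deg_pos (k := k) (hd'.trans hd) hLi ?_
      have := h _ hZ hd
      rwa [key _ hZ Z rfl] at this
    · have h0 : topologicalKrullDim (Z : Set X) ≤ 0 := by
        have h1 := (topologicalKrullDim_subspace_le X (Z : Set X)).trans hdim
        generalize topologicalKrullDim (Z : Set X) = d at h1 hd
        match d with
        | ⊥ => exact bot_le
        | (a : ℕ∞) =>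
          have h1 : a ≤ 1 := WithBot.coe_le_coe.mp h1
          refine WithBot.coe_le_coe.mpr (le_of_not_gt fun ha => hd ?_)
          rw [le_antisymm h1 (Order.one_le_iff_pos.mpr ha)]
          rfl
      have hfin := finite_of_dim_le_zero (k := k) Z.isClosed h0
      haveI : Subsingleton I.subscheme := ⟨fun a b => I.subschemeι.isClosedEmbedding.injective (by
        have hsub : ∀ z ∈ (Z : Set X), z = hZ.1.genericPoint := fun z hz => by
          haveI : DiscreteTopology (Z : Set X) := discreteTopology_iff_isOpen_singleton.mpr fun w =>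
            haveI := isNoetherian_of_proper k X
            Groth.Agent.TopDim.isOpen_singleton_of_dim_le_zero h0 w
          have hzc : IsClosed ({z} : Set X) := by
            have := Z.isClosed.isClosedEmbedding_subtypeVal.isClosedMap _ (isClosed_singleton (x := (⟨z, hz⟩ : (Z : Set X))))
            simpa using this
          have hηc : IsClosed ({hZ.1.genericPoint} : Set X) := by
            have := Z.isClosed.isClosedEmbedding_subtypeVal.isClosedMap _ (isClosed_singleton (x := (⟨hZ.1.genericPoint,
              (hZ.1.isGenericPoint_genericPoint Z.isClosed).mem⟩ : (Z : Set X))))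
            simpa using this
          have hm : z ∈ closure ({hZ.1.genericPoint} : Set X) := by
            rw [(hZ.1.isGenericPoint_genericPoint Z.isClosed).def]; exact hz
          rw [hηc.closure_eq] at hm
          exact hm
        rw [hsub _ (hr.le ⟨a, rfl⟩), hsub _ (hr.le ⟨b, rfl⟩)])⟩
      obtain ⟨x⟩ := (inferInstance : Nonempty I.subscheme)
      obtain ⟨D, g, hxD, hg⟩ := TMul.exists_isGen hLi x
      obtain rfl : D = ⊤ := top_le_iff.mp fun y _ => (Subsingleton.elim x y) ▸ hxD
      haveI : CompactSpace I.subscheme := inferInstance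
      haveI := isFinite_subscheme (k := k) (I := I) (by
        rw [Scheme.IdealSheafData.coe_support_vanishingIdeal]; exact h0)
      haveI : IsAffine I.subscheme := isAffine_of_isAffineHom (I.subschemeι ≫ (X ↘ Spec (CommRingCat.of k)))
      refine ⟨hLi, inferInstance, fun y => ⟨0, SecTwist.powHom (homOf g) 1, ?_, ?_⟩⟩
      · rw [TMul.genLocus_powHom hLi]
        exact Subsingleton.elim x y ▸ TMul.le_genLocus (homOf g) (U := ⊤) (by rwa [val_homOf, Groth.Agent.QC.res_self]) trivial
      · have : CohB1.genLocus _ (SecTwist.powHom (homOf g) 1) = ⊤ := top_le_iff.mp fun y _ => by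
          rw [TMul.genLocus_powHom hLi]
          exact Subsingleton.elim x y ▸ TMul.le_genLocus (homOf g) (U := ⊤) (by rwa [val_homOf, Groth.Agent.QC.res_self]) trivial
        rw [this]
        exact isAffineOpen_top _

end Groth.Agent.CurveRR.Multi
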