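import Groth.Agent.DualGeneric.SubD
import Groth.Agent.DualGeneric.GorInv
import Groth.Agent.DualGeneric.GlobalField
import Groth.Agent.CurveRR.GlobGen
import Groth.Agent.CurveRR.Point
import Groth.Agent.W7Exist.Lift
import Groth.Agent.W7Gen.TSquare

/-!
Globally generated modules: finitely many sections, vanishing of top cohomology by duality.
-/

set_option autoImplicit false
set_option backward.isDefEq.respectTransparency false
set_option backward.isDefEq.respectTransparency.types false
set_option linter.style.haveILetI false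
set_option maxHeartbeats 1000000

universe u

open CategoryTheory CategoryTheory.Limits AlgebraicGeometry TopologicalSpace Opposite
open Groth.Agent.QC (res resO res_res res_self res_smul appₗ app_res section_eq_of_locally)
open Groth.Agent.CohFinite
open TMul (homOf val val_homOf tm)

attribute [local instance] Abelian.hasFiniteBiproducts

noncomputable section

namespace Groth.Agent.CurveRR

variable {X : Scheme.{u}}

/-- a map out of a globally generated module is determined by global sections -/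
theorem eq_zero_of_gg {F G : X.Modules} (hgg : Curv2.IsGloballyGenerated F) (ψ : F ⟶ G)
    (h : ∀ s : Γ(F, ⊤), homOf s ≫ ψ = 0) : ψ = 0 := by
  obtain ⟨ι, p, hp⟩ := hgg
  refine (cancel_epi p).1 (Sigma.hom_ext _ _ fun i => ?_)
  rw [comp_zero, comp_zero]
  let g : Coh.structureModule X ⟶ F := Sigma.ι (fun _ : ι => SheafOfModules.unit X.ringCatSheaf) i ≫ p
  have hg : g = homOf (val g ⊤) := TMul.hom_ext_val ((val_homOf _ _).trans (res_self _ _ _)).symm
  refine (Category.assoc _ _ _).symm.trans ?_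
  show g ≫ ψ = 0
  rw [hg]
  exact h _

/-- finitely many global sections generate -/
theorem exists_finite_sections [IsLocallyNoetherian X] [CompactSpace X] {F : X.Modules} (hF : Coh.IsCoh F)
    (hgg : Curv2.IsGloballyGenerated F) :
    ∃ (l : ℕ) (s : Fin l → Γ(F, ⊤)),
      Epi (biproduct.desc (f := fun _ : Fin l => Coh.structureModule X) fun i => homOf (s i)) := by
  classical
  have hcov : ∀ x : X, ∃ D : X.Opens, IsAffineOpen D ∧ x ∈ D := fun x => by
    obtain ⟨D, hD, hx, -⟩ := exists_isAffineOpen_mem_and_subset (X := X) (x := x) (U := ⊤) trivial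
    exact ⟨D, hD, hx⟩
  choose D hD hxD using hcov
  obtain ⟨T, hT⟩ := isCompact_univ.elim_finite_subcover (fun x : X => ((D x : X.Opens) : Set X))
    (fun x => (D x).2) (fun x _ => Set.mem_iUnion.mpr ⟨x, hxD x⟩)
  have hfin : ∀ x : X, ∃ t : Finset Γ(F, ⊤), ∀ s : Γ(F, ⊤), res F (le_top : D x ≤ ⊤) s ∈
      Submodule.span Γ(X, D x) (res F (le_top : D x ≤ ⊤) '' (t : Set Γ(F, ⊤))) := fun x => by
    haveI := (QC.isCoh_iff_finite_sections.1 hF).2 ⟨D x, hD x⟩
    haveI : IsNoetherianRing Γ(X, D x) := IsLocallyNoetherian.component_noetherian ⟨D x, hD x⟩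
    have hfg : (Submodule.span Γ(X, D x) (Set.range (res F (le_top : D x ≤ ⊤)))).FG := IsNoetherian.noetherian _
    obtain ⟨t, ht, hspan⟩ := (Submodule.fg_span_iff_fg_span_finset_subset _).1 hfg
    choose pre hpre using fun y : t => ht y.2
    refine ⟨t.attach.image pre, fun s => ?_⟩
    have hs : res F (le_top : D x ≤ ⊤) s ∈ Submodule.span Γ(X, D x) (Set.range (res F (le_top : D x ≤ ⊤))) :=
      Submodule.subset_span (Set.mem_range_self s)
    rw [hspan] at hs
    refine Submodule.span_mono ?_ hs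
    intro y hy
    exact ⟨pre ⟨y, hy⟩, Finset.mem_coe.2 (Finset.mem_image.2 ⟨⟨y, hy⟩, Finset.mem_attach _ _, rfl⟩), hpre _⟩
  choose t ht using hfin
  let U := T.biUnion t
  let s : Fin U.card → Γ(F, ⊤) := fun i => (U.equivFin.symm i).1
  refine ⟨U.card, s, Preadditive.epi_of_cancel_zero _ fun {G} ψ hψ => eq_zero_of_gg hgg ψ fun a => ?_⟩
  refine TMul.hom_ext_val (section_eq_of_locally fun y _ => ?_)
  obtain ⟨x, hx, hyx⟩ := Set.mem_iUnion₂.mp (hT (Set.mem_univ y))
  refine ⟨D x, le_top, hyx, ?_⟩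
  rw [TMul.res_val, TMul.res_val]
  show ψ.app (D x) (val (homOf a) (D x)) = 0
  rw [val_homOf]
  refine (Submodule.span_le (p := LinearMap.ker (appₗ ψ (D x)))).2 ?_ (ht x a)
  rintro _ ⟨g, hg, rfl⟩
  obtain ⟨i, rfl⟩ : ∃ i, s i = g := ⟨U.equivFin ⟨g, Finset.mem_biUnion.2 ⟨x, hx, hg⟩⟩, by simp [s]⟩
  show ψ.app (D x) (res F le_top (s i)) = 0
  rw [← val_homOf (s i) (D x)]
  show val (homOf (s i) ≫ ψ) (D x) = 0
  have h := biproduct.ι_desc_assoc (f := fun _ : Fin U.card => Coh.structureModule X) (fun i => homOf (s i)) i ψ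
  rw [hψ, comp_zero] at h
  rw [← h]
  rfl

variable {k : Type u} [Field k] [X.Over (Spec (CommRingCat.of k))]

/-- with a dualizing pair, top cohomology vanishes iff there are no maps to the dualizing module -/
theorem subsingleton_hh_of_hom {ω : X.Modules} {r : ℕ} {tr : Coh.HH X ω r →ₗ[k] k}
    (ht : Canon.IsRDualOver k X r ω tr) {F : X.Modules} (hF : Coh.IsQCoh F) (h : ∀ φ : F ⟶ ω, φ = 0) :
    Subsingleton (Coh.HH X F r) := by
  haveI : Subsingleton (F ⟶ ω) := subsingleton_of_forall_eq 0 h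
  refine subsingleton_of_forall_eq 0 fun x => ?_
  by_contra hx
  obtain ⟨lam, hlam⟩ := not_forall.1 fun h => hx ((Module.forall_dual_apply_eq_zero_iff k x).1 h)
  obtain ⟨φ, hφ⟩ := (ht.2 F hF).2 lam
  apply hlam
  rw [← hφ, Subsingleton.elim φ 0]
  show tr (hhMap k (0 : F ⟶ ω) r x) = 0
  rw [DualGeneric.Sub.hhMap_zero, map_zero]

/-- maps to the dualizing module vanish when top cohomology does -/
theorem hom_eq_zero_of_subsingleton {ω : X.Modules} {r : ℕ} {tr : Coh.HH X ω r →ₗ[k] k}
    (ht : Canon.IsRDualOver k X r ω tr) {F : X.Modules} (hF : Coh.IsQCoh F) (h : Subsingleton (Coh.HH X F r))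
    (φ : F ⟶ ω) : φ = 0 :=
  (ht.2 F hF).1 (LinearMap.ext fun x => by rw [Subsingleton.elim x 0, map_zero, map_zero])

end Groth.Agent.CurveRR
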