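import Groth.Agent.CurveRR.Hopf
import Groth.Agent.CurveRR.Deg

/-!
# Clifford-type bound `h^0 + h^1 ≤ g + 1` and linear stability inequalities
-/

set_option autoImplicit false
set_option linter.style.haveILetI false
set_option linter.unusedSectionVars false
set_option backward.isDefEq.respectTransparency false

universe u

open CategoryTheory CategoryTheory.Limits AlgebraicGeometry TopologicalSpace Opposite
open TMul (homOf val_homOf)
open Groth.Agent.CohFinite
open Groth.Agent.QC (res res_self)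

noncomputable section

namespace Groth.Agent.CurveRR

variable {k : Type u} [Field k] {X : Scheme.{u}} [X.Over (Spec (CommRingCat.of k))]
  [IsProper (X ↘ Spec (CommRingCat.of k))]

/-- The multiplication pairing `H^0(M) × H^1(M)^∨ → H^1(O)^∨`. -/
def sectionPairing (M : X.Modules) :
    letI := secMod k M ⊤
    Γ(M, ⊤) →ₗ[k] Module.Dual k (Coh.HH X M 1) →ₗ[k] Module.Dual k (Coh.HH X (Coh.structureModule X) 1) :=
  letI := secMod k M ⊤
  LinearMap.mk₂ k (fun t lam => lam.comp (hhMap k (homOf t) 1))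
    (fun s t lam => LinearMap.ext fun x => by
      show lam (Sheaf.H.map (toAbMap (homOf (s + t))) 1 x) =
        lam (Sheaf.H.map (toAbMap (homOf s)) 1 x) + lam (Sheaf.H.map (toAbMap (homOf t)) 1 x)
      rw [← map_add lam, ← Sheaf.H.map_add_apply]
      refine congrArg lam (congrArg (fun f => Sheaf.H.map f 1 x) ?_)
      rw [← Functor.map_add]
      refine congrArg toAbMap (TMul.hom_ext_val ?_)
      show TMul.val (homOf (s + t)) ⊤ = TMul.val (homOf s) ⊤ + TMul.val (homOf t) ⊤
      rw [val_homOf, val_homOf, val_homOf, map_add])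
    (fun a t lam => LinearMap.ext fun x => by
      show lam (Sheaf.H.map (toAbMap (homOf (cst k X ⊤ a • t))) 1 x) =
        a • lam (Sheaf.H.map (toAbMap (homOf t)) 1 x)
      rw [← map_smul lam, toAbMap_homOf_smul, Sheaf.H.map_comp_apply]
      rfl)
    (fun _ _ _ => LinearMap.add_comp _ _ _)
    (fun _ _ _ => LinearMap.smul_comp _ _ _)

/-- `h^0(M) + h^1(M) ≤ g + 1` for a special invertible module with a section. -/
theorem h0_add_h1_le [IsAlgClosed k] [IsIntegral X] (hdim : topologicalKrullDim X ≤ 1) {M : X.Modules}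
    (hM : PicF.IsInvertible M) (h0 : h k M 0 ≠ 0) (h1 : h k M 1 ≠ 0) :
    h k M 0 + h k M 1 ≤ Curv2.genus k X + 1 := by
  haveI := isNoetherian_of_proper k X
  have hMc := isCoh_of_inv hM
  haveI := finite_proper k X M hMc 0
  haveI := finite_proper k X M hMc 1
  haveI := finite_proper k X (Coh.structureModule X) RefStalk.isCoh_structureModule 1
  letI := secMod k M ⊤
  have hV : Module.finrank k Γ(M, ⊤) = h k M 0 := finrank_sec M
  haveI : FiniteDimensional k Γ(M, ⊤) := FiniteDimensional.of_finrank_pos (by omega)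
  haveI : Nontrivial Γ(M, ⊤) := Module.nontrivial_of_finrank_pos (R := k) (by omega)
  haveI : Nontrivial (Module.Dual k (Coh.HH X M 1)) := Module.nontrivial_of_finrank_pos (R := k) (by
    rw [Subspace.dual_finrank_eq]
    exact Nat.pos_of_ne_zero h1)
  have key := finrank_add_le_of_no_zero_divisors (sectionPairing (k := k) M) fun t lam htl => by
    refine or_iff_not_imp_left.2 fun ht => LinearMap.ext fun x => ?_
    obtain ⟨y, hy⟩ := h1_homOf_surjective (k := k) hdim hMc hM (𝟙 M) ht x
    rw [← hy]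
    exact LinearMap.congr_fun htl y
  rw [hV, Subspace.dual_finrank_eq, Subspace.dual_finrank_eq] at key
  exact key

/-- Either nonspecial, or `2 h^0 ≤ deg + 2`. -/
theorem h0_cases [IsAlgClosed k] [IsIntegral X] (hdim : topologicalKrullDim X ≤ 1) {M : X.Modules}
    (hM : PicF.IsInvertible M) (h0 : h k M 0 ≠ 0) :
    (h k M 0 : ℤ) = Curv2.deg k X M 1 + 1 - Curv2.genus k X ∨ 2 * (h k M 0 : ℤ) ≤ Curv2.deg k X M 1 + 2 := by
  have he : (h k M 0 : ℤ) - h k M 1 = Curv2.deg k X M 1 + 1 - Curv2.genus k X := by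
    rw [Curv2.deg, euler_eq hdim, euler_structure hdim (h0_structure k X)]
    push_cast
    ring
  by_cases h1 : h k M 1 = 0
  · left
    rw [h1] at he
    omega
  · right
    have := h0_add_h1_le hdim hM h0 h1
    omega

/-- The linear semistability inequality. -/
theorem slope_le [IsAlgClosed k] [IsIntegral X] (hdim : topologicalKrullDim X ≤ 1) {M : X.Modules}
    (hM : PicF.IsInvertible M) {d : ℤ} (hd : 2 * (Curv2.genus k X : ℤ) ≤ d) {m : ℕ} (hm : 1 ≤ m)
    (hsec : m + 1 ≤ h k M 0) (hdeg : Curv2.deg k X M 1 ≤ d) :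
    d * (m : ℤ) ≤ Curv2.deg k X M 1 * (d - Curv2.genus k X) := by
  have hg : (0 : ℤ) ≤ (Curv2.genus k X : ℤ) := Int.natCast_nonneg _
  rcases h0_cases (k := k) hdim hM (by omega) with he | he
  · nlinarith [mul_le_mul_of_nonneg_left hdeg hg,
      mul_le_mul_of_nonneg_left (show (m : ℤ) ≤ Curv2.deg k X M 1 - Curv2.genus k X by omega) (show 0 ≤ d by omega)]
  · have h2 : 2 * (m : ℤ) ≤ Curv2.deg k X M 1 := by omega
    nlinarith [mul_le_mul_of_nonneg_left h2 (show 0 ≤ d by omega),
      mul_le_mul_of_nonneg_left (show d ≤ 2 * (d - Curv2.genus k X) by omega) (show 0 ≤ Curv2.deg k X M 1 by omega)]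

/-- The linear stability inequality. -/
theorem slope_lt [IsAlgClosed k] [IsIntegral X] (hdim : topologicalKrullDim X ≤ 1) {M : X.Modules}
    (hM : PicF.IsInvertible M) (hg : 1 ≤ Curv2.genus k X) {d : ℤ} (hd : 2 * (Curv2.genus k X : ℤ) < d) {m : ℕ}
    (hm : 1 ≤ m) (hsec : m + 1 ≤ h k M 0) (hdeg : Curv2.deg k X M 1 ≤ d)
    (hlt : Curv2.deg k X M 1 < d ∨ (m : ℤ) < d - Curv2.genus k X) :
    d * (m : ℤ) < Curv2.deg k X M 1 * (d - Curv2.genus k X) := by
  have hg' : (1 : ℤ) ≤ (Curv2.genus k X : ℤ) := by exact_mod_cast hg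
  rcases h0_cases (k := k) hdim hM (by omega) with he | he
  · rcases lt_or_eq_of_le hdeg with hl | hl
    · nlinarith [mul_lt_mul_of_pos_left hl (show (0 : ℤ) < Curv2.genus k X by omega),
        mul_le_mul_of_nonneg_left (show (m : ℤ) ≤ Curv2.deg k X M 1 - Curv2.genus k X by omega) (show 0 ≤ d by omega)]
    · rw [hl]
      exact mul_lt_mul_of_pos_left (hlt.resolve_left (by omega)) (by omega)
  · have h2 : 2 * (m : ℤ) ≤ Curv2.deg k X M 1 := by omega
    nlinarith [mul_le_mul_of_nonneg_left h2 (show 0 ≤ d by omega),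
      mul_lt_mul_of_pos_left (show d < 2 * (d - Curv2.genus k X) by omega) (show 0 < Curv2.deg k X M 1 by omega)]

end Groth.Agent.CurveRR
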