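import Groth.Agent.CurveRR.Easy2
import Groth.Agent.S10829
import Groth.Agent.ProjSep.Main
import Groth.Agent.S4466

/-!
Degree one pencils characterise the projective line.
-/

set_option autoImplicit false
set_option backward.isDefEq.respectTransparency false
set_option linter.style.haveILetI false
set_option linter.unusedSectionVars false

universe u

open CategoryTheory CategoryTheory.Limits AlgebraicGeometry TopologicalSpace
open Groth.Agent.CohFinite Groth.Agent.CurveRR
open Groth.Agent.QC (res resO res_res res_self res_smul resO_resO resO_self section_eq_of_locally app_res)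

noncomputable section

namespace Groth.Agent.CurveRR.Easy

variable {k : Type u} [Field k] {X : Scheme.{u}} [X.Over (Spec (CommRingCat.of k))]
  [IsProper (X ↘ Spec (CommRingCat.of k))] [IsIntegral X]

theorem isIso_of_closedImmersion_line (hdim : topologicalKrullDim X = 1) (i : X ⟶ CohB1.ProjSpace 1 k)
    [IsClosedImmersion i] : IsIso i := by
  haveI := Groth.Agent.Horrocks.isIntegral_projSpace (k := k) (n := 1)
  haveI := Groth.Agent.Horrocks.isNoetherian_space (k := k) (n := 1)
  have hcl := i.isClosedEmbedding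
  haveI : Surjective i := ⟨fun y => by
    by_contra hy
    have hne : genericPoint (CohB1.ProjSpace 1 k) ∉ Set.range i := fun h => hy <| by
      have := (genericPoint_spec (CohB1.ProjSpace 1 k)).mem_closed_set_iff hcl.isClosed_range |>.mp h
      exact Set.mem_range.mp (this (Set.mem_univ y))
    have h0 := dim_le_zero_of_closed (Groth.Agent.S10829.result k 1).le hcl.isClosed_range hne
    rw [← hcl.isEmbedding.toHomeomorph.isHomeomorph.topologicalKrullDim_eq, hdim] at h0
    exact absurd h0 (by norm_num)⟩
  exact isIso_of_isClosedImmersion_of_surjective i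

theorem exists_iso_line (hdim : topologicalKrullDim X = 1) {L : X.Modules} (hL : PicF.IsInvertible L)
    (hdeg : Curv2.deg k X L 1 = 1) (h2 : 2 ≤ h k L 0) :
    ∃ e : X ≅ CohB1.ProjSpace 1 k, e.hom ≫ CohB1.ProjSpace.toSpec 1 k = X ↘ (Spec (CommRingCat.of k)) := by
  obtain ⟨s, hs⟩ := exists_section (k := k) (L := L) (by omega)
  have h0 := h0_structure_of_deg_one (k := k) hdim.le hL s hs hdeg
  obtain ⟨h1, h3⟩ := series_bound hdim.le h0 hL (by omega)
  have hg := h3 (by omega) (by omega)
  obtain ⟨i, hi, hf, -⟩ := CurveVA.exists_closedImmersion_genus_zero hdim h0 hg hL (d := 1) one_pos (by omega)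
  haveI := isIso_of_closedImmersion_line hdim i
  exact ⟨asIso i, hf⟩

theorem exists_pencil (e : X ≅ CohB1.ProjSpace 1 k)
    (he : e.hom ≫ CohB1.ProjSpace.toSpec 1 k = X ↘ (Spec (CommRingCat.of k))) :
    ∃ L : X.Modules, PicF.IsInvertible L ∧ Curv2.deg k X L 1 = 1 ∧ 2 ≤ h k L 0 := by
  let T := Twist.twistProjSpace 1 k 1
  let L := (Scheme.Modules.pushforward e.inv).obj T
  have hT : PicF.IsInvertible T := CohFinite.isInvertible_twist 1 k 1
  have hL : PicF.IsInvertible L := ParaFLib.isInvertible_pushforward e.inv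
    (by
      intro V
      have hle : V ≤ V ⊓ e.inv.opensRange := le_inf le_rfl (by rw [Scheme.Hom.opensRange_of_isIso]; exact le_top)
      exact ⟨fun a b hab => by simpa [res_res, res_self] using congrArg (res _ hle) hab,
        fun b => ⟨res _ hle b, by rw [res_res, res_self]⟩⟩)
    (ParaFLib.invRestrictEquiv_of_isIso e.inv) hT
  have hπ : e.inv ≫ (X ↘ Spec (CommRingCat.of k)) = CohB1.ProjSpace 1 k ↘ Spec (CommRingCat.of k) := by
    rw [← he, Iso.inv_hom_id_assoc]; rfl
  have hh : ∀ (M : (CohB1.ProjSpace 1 k).Modules), Coh.IsQCoh M → ∀ q,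
      h k ((Scheme.Modules.pushforward e.inv).obj M) q = h k M q := fun M hM q => by
    haveI := hM
    obtain ⟨a⟩ := hh_push_linear k e.inv hπ M (CohQC.directAcyclic_of_isAffineHom e.inv M) q
    exact a.finrank_eq.symm
  haveI := unitToPush_isIso e.inv
  let u : Coh.structureModule X ≅ (Scheme.Modules.pushforward e.inv).obj (Coh.structureModule _) :=
    asIso (ClSub.unitToPush e.inv)
  have hdimX : topologicalKrullDim X ≤ 1 := by
    rw [(e.hom.homeomorph).isHomeomorph.topologicalKrullDim_eq, Groth.Agent.S10829.result]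
    rfl
  haveI := CohFinite.isNoetherian_projSpace (n := 1) (R := k)
  have hTq : Coh.IsQCoh T := TMul.isQCoh_of_isInvertible hT
  have hOq : Coh.IsQCoh (Coh.structureModule (CohB1.ProjSpace 1 k)) := RefStalk.isCoh_structureModule.1
  have hvO := Groth.Agent.ProjCech.structureModule_vanish 1 k 1 one_pos
  have hvT : Subsingleton (Coh.HH _ T 1) :=
    Groth.Agent.ProjCech.twist_vanish (R := k) 1 1 1 (by omega) (by omega)
  have hT0 : h k T 0 = 2 := by
    have := Groth.Agent.S4466.result k 1 one_pos 1
    rw [Finset.sum_range_succ, Finset.sum_range_one, show Module.finrank k (Coh.HH _ (Twist.twistProjSpace 1 k 1) 1) = 0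
      from h_eq_zero hvT] at this
    norm_num [Ring.choose_one_right] at this
    exact_mod_cast this
  have hO0 : h k (Coh.structureModule (CohB1.ProjSpace 1 k)) 0 = 1 := by
    obtain ⟨i⟩ := GrT.nonempty_twist_zero_iso (𝒜 := CohB1.polyGrading 1 k)
    have := Groth.Agent.S4466.result k 1 one_pos 0
    rw [Finset.sum_range_succ, Finset.sum_range_one, show Module.finrank k (Coh.HH _ (Twist.twistProjSpace 1 k 0) 1) = 0
      from (h_eq_of_iso (k := k) i 1).trans (h_eq_zero hvO)] at this
    refine (h_eq_of_iso (k := k) i 0).symm.trans ?_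
    norm_num [Ring.choose_one_right] at this
    exact_mod_cast this
  refine ⟨L, hL, ?_, (hh T hTq 0).ge.trans' hT0.ge⟩
  rw [Curv2.deg, euler_eq hdimX, euler_eq hdimX, h_eq_of_iso (k := k) u 0, h_eq_of_iso (k := k) u 1,
    hh T hTq, hh T hTq, hh _ hOq, hh _ hOq, h_eq_zero hvT, h_eq_zero hvO, hT0, hO0]
  norm_num

end Groth.Agent.CurveRR.Easy
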