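import Groth.Agent.GLinFree.Dim
import Groth.Agent.WeilLib.Trdeg
import Mathlib.RingTheory.Ideal.KrullsHeightTheorem

/-!
# Hopf's lemma: a bilinear map without zero divisors over an algebraically closed field
-/

set_option autoImplicit false
set_option linter.style.haveILetI false

universe u v₁ v₂ v₃

open MvPolynomial

namespace Groth.Agent.CurveRR

variable {k : Type u} [Field k]

/-- The monomials `x_i y_j` generate an algebra of dimension at least `a + b + 1`. -/
theorem exists_injective_segre (a b : ℕ) :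
    ∃ j : MvPolynomial (Fin (a + 1) ⊕ Fin b) k →ₐ[k]
      (aeval (R := k) fun p : Fin (a + 1) × Fin (b + 1) =>
        (X (Sum.inl p.1) * X (Sum.inr p.2) : MvPolynomial (Fin (a + 1) ⊕ Fin (b + 1)) k)).range,
      Function.Injective j := by
  let T : Fin (a + 1) ⊕ Fin b → (Fin (a + 1) × Fin (b + 1)) := Sum.elim (fun i => (i, 0)) fun j => (0, j.succ)
  let z : Fin (a + 1) × Fin (b + 1) → MvPolynomial (Fin (a + 1) ⊕ Fin (b + 1)) k := fun p =>
    X (Sum.inl p.1) * X (Sum.inr p.2)
  let π := (aeval (R := k) z).rangeRestrict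
  refine ⟨aeval fun s => π (X (T s)), ?_⟩
  let L := FractionRing (MvPolynomial (Fin (a + 1) ⊕ Fin b) k)
  let t : Fin (a + 1) ⊕ Fin b → L := fun s => algebraMap (MvPolynomial (Fin (a + 1) ⊕ Fin b) k) L (X s)
  let ev : MvPolynomial (Fin (a + 1) ⊕ Fin (b + 1)) k →ₐ[k] L :=
    aeval (Sum.elim (fun i => t (.inl i)) (Fin.cons 1 fun j => t (.inr j) / t (.inl 0)))
  have ht : t (.inl 0) ≠ 0 := fun h => X_ne_zero _
    ((IsFractionRing.injective (MvPolynomial (Fin (a + 1) ⊕ Fin b) k) L) (h.trans (map_zero _).symm))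
  have hcomp : (ev.comp (Subalgebra.val _)).comp (aeval fun s => π (X (T s))) =
      IsScalarTower.toAlgHom k (MvPolynomial (Fin (a + 1) ⊕ Fin b) k) L := by
    refine algHom_ext fun s => ?_
    simp only [AlgHom.comp_apply, aeval_X]
    show ev (π (X (T s)) : MvPolynomial (Fin (a + 1) ⊕ Fin (b + 1)) k) = t s
    have hπ : ((π (X (T s)) : _) : MvPolynomial (Fin (a + 1) ⊕ Fin (b + 1)) k) = z (T s) := by
      show aeval z (X (T s)) = z (T s)
      exact aeval_X _ _
    rw [hπ]
    rcases s with i | j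
    · simp [z, T, ev]
    · simp [z, T, ev]
      rw [mul_div_cancel₀ _ ht]
  intro p q hpq
  refine IsFractionRing.injective (MvPolynomial (Fin (a + 1) ⊕ Fin b) k) L ?_
  change IsScalarTower.toAlgHom k _ L p = IsScalarTower.toAlgHom k _ L q
  rw [← hcomp]
  simp only [AlgHom.comp_apply] at hpq ⊢
  rw [hpq]

/-- Hopf's lemma, in coordinates: `m` bilinear forms in `(a+1) + (b+1)` variables with only trivial common
zeros number at least `a + b + 1`. -/
theorem le_of_no_common_zero [IsAlgClosed k] (a b m : ℕ) (c : Fin m → Fin (a + 1) → Fin (b + 1) → k)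
    (h : ∀ (v : Fin (a + 1) → k) (w : Fin (b + 1) → k), (∀ l, ∑ i, ∑ j, v i * w j * c l i j = 0) → v = 0 ∨ w = 0) :
    a + b + 1 ≤ m := by
  classical
  let z : Fin (a + 1) × Fin (b + 1) → MvPolynomial (Fin (a + 1) ⊕ Fin (b + 1)) k := fun p =>
    X (Sum.inl p.1) * X (Sum.inr p.2)
  let R := (aeval (R := k) z).range
  let π : MvPolynomial (Fin (a + 1) × Fin (b + 1)) k →ₐ[k] R := (aeval (R := k) z).rangeRestrict
  have hπs : Function.Surjective π := (aeval (R := k) z).rangeRestrict_surjective
  haveI : Algebra.FiniteType k R := Algebra.FiniteType.of_surjective π hπs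
  haveI : IsNoetherianRing R := Algebra.FiniteType.isNoetherianRing k R
  haveI : IsJacobsonRing R := isJacobsonRing_of_finiteType (A := k)
  let gz : Fin (a + 1) × Fin (b + 1) → R := fun p => π (X p)
  have hgz : ∀ p, (gz p : MvPolynomial (Fin (a + 1) ⊕ Fin (b + 1)) k) = z p := fun p => aeval_X _ _
  let ell : Fin m → R := fun l => ∑ i, ∑ j, algebraMap k R (c l i j) * gz (i, j)
  -- points of the cone killed by the forms are zero
  have hpt : ∀ φ : R →ₐ[k] k, (∀ l, φ (ell l) = 0) → ∀ p, φ (gz p) = 0 := by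
    intro φ hφ
    by_contra! hne
    obtain ⟨⟨i₀, j₀⟩, h0⟩ := hne
    have hrel : ∀ i j, φ (gz (i, j₀)) * φ (gz (i₀, j)) = φ (gz (i₀, j₀)) * φ (gz (i, j)) := fun i j => by
      rw [← map_mul φ, ← map_mul φ]
      refine congrArg φ (Subtype.ext ?_)
      simp only [MulMemClass.coe_mul, hgz, z]
      ring
    rcases h (fun i => φ (gz (i, j₀))) (fun j => φ (gz (i₀, j))) (fun l => by
      have h1 := congrArg (φ (gz (i₀, j₀)) * ·) (hφ l)
      simp only [ell, map_sum, map_mul, AlgHom.commutes, Algebra.algebraMap_self, RingHom.id_apply, mul_zero,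
        Finset.mul_sum] at h1
      refine Eq.trans (Finset.sum_congr rfl fun i _ => Finset.sum_congr rfl fun j _ => ?_) h1
      rw [hrel i j]
      ring) with hv | hw
    · exact h0 (congrFun hv i₀)
    · exact h0 (congrFun hw j₀)
  -- the vertex
  let φ₀ : R →ₐ[k] k := (aeval (fun _ => (0 : k))).comp R.val
  have hφ₀ : ∀ p, φ₀ (gz p) = 0 := fun p => by
    show aeval (fun _ => (0 : k)) (gz p : MvPolynomial (Fin (a + 1) ⊕ Fin (b + 1)) k) = 0
    rw [hgz]
    simp [z]
  have hsurj : Function.Surjective φ₀ := fun x => ⟨algebraMap k R x, φ₀.commutes x⟩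
  let M₀ : Ideal R := RingHom.ker φ₀.toRingHom
  haveI hM₀ : M₀.IsMaximal := RingHom.ker_isMaximal_of_surjective φ₀.toRingHom hsurj
  have huniq : ∀ M : Ideal R, M.IsMaximal → Ideal.span (Set.range ell) ≤ M → M = M₀ := by
    intro M hM hle
    letI := Ideal.Quotient.field M
    haveI : Algebra.FiniteType k (R ⧸ M) :=
      Algebra.FiniteType.of_surjective (Ideal.Quotient.mkₐ k M) (Ideal.Quotient.mkₐ_surjective k M)
    haveI : Module.Finite k (R ⧸ M) := finite_of_finite_type_of_isJacobsonRing k (R ⧸ M)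
    let e : k ≃ₐ[k] R ⧸ M := AlgEquiv.ofBijective (Algebra.ofId k (R ⧸ M))
      (IsAlgClosed.algebraMap_bijective_of_isIntegral (k := k) (K := R ⧸ M))
    let φ : R →ₐ[k] k := e.symm.toAlgHom.comp (Ideal.Quotient.mkₐ k M)
    have hφl : ∀ l, φ (ell l) = 0 := fun l => by
      show e.symm (Ideal.Quotient.mk M (ell l)) = 0
      rw [Ideal.Quotient.eq_zero_iff_mem.2 (hle (Ideal.subset_span ⟨l, rfl⟩)), map_zero]
    have heq : φ = φ₀ := by
      have : φ.comp π = φ₀.comp π := algHom_ext fun p => (hpt φ hφl p).trans (hφ₀ p).symm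
      exact AlgHom.ext fun r => by obtain ⟨q, rfl⟩ := hπs r; exact DFunLike.congr_fun this q
    refine hM.eq_of_le hM₀.ne_top fun r hr => ?_
    show φ₀ r = 0
    rw [← heq]
    show e.symm (Ideal.Quotient.mk M r) = 0
    rw [Ideal.Quotient.eq_zero_iff_mem.2 hr, map_zero]
  have hL : Ideal.span (Set.range ell) ≤ M₀ := Ideal.span_le.2 (by
    rintro _ ⟨l, rfl⟩
    show φ₀ (ell l) = 0
    simp [ell, hφ₀])
  have hmin : M₀ ∈ (Ideal.span (Set.range ell)).minimalPrimes := by
    refine ⟨⟨hM₀.isPrime, hL⟩, fun Q ⟨hQ, hLQ⟩ _ => ?_⟩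
    have hj : Q.jacobson = Q := IsJacobsonRing.out inferInstance hQ.isRadical
    rw [← hj]
    exact le_sInf fun J ⟨hQJ, hJ⟩ => (huniq J hJ (hLQ.trans hQJ)).ge
  have hht : M₀.height ≤ (m : ℕ∞) := by
    refine (Ideal.height_le_card_of_mem_minimalPrimes_span (Set.finite_range ell) hmin).trans ?_
    have : (Set.range ell).ncard ≤ m := by
      rw [← Set.image_univ]
      exact (Set.ncard_image_le).trans (by simp)
    exact_mod_cast this
  have hR : ((a + b + 1 : ℕ) : WithBot ℕ∞) ≤ ringKrullDim R := by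
    obtain ⟨s, hs, hdim⟩ := WeilLib.exists_dim_eq_trdeg (k := k) (D := R) (L := FractionRing R)
      (IsScalarTower.toAlgHom k R (FractionRing R)) (IsFractionRing.injective R (FractionRing R))
      (fun x => by
        obtain ⟨⟨p, q⟩, hpq⟩ := IsLocalization.surj (nonZeroDivisors R) x
        exact ⟨p, q, fun h0 => nonZeroDivisors.ne_zero q.2
          (IsFractionRing.injective R (FractionRing R) (h0.trans (map_zero _).symm)), hpq⟩)
    obtain ⟨j, hj⟩ := exists_injective_segre (k := k) a b
    have h1 := trdeg_le_of_injective ((IsScalarTower.toAlgHom k R (FractionRing R)).comp j)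
      ((IsFractionRing.injective R (FractionRing R)).comp hj)
    rw [MvPolynomial.trdeg_of_isDomain, hs] at h1
    simp at h1
    rw [hdim]
    have h2 : a + 1 + b ≤ s := by exact_mod_cast h1
    exact_mod_cast (by omega : a + b + 1 ≤ s)
  rw [← GLinFree.height_eq_ringKrullDim (K := k) M₀] at hR
  have := hR.trans (WithBot.coe_le_coe.2 hht)
  exact_mod_cast this

/-- Hopf's lemma. -/
theorem finrank_add_le_of_no_zero_divisors [IsAlgClosed k] {V : Type v₁} {W : Type v₂} {U : Type v₃}
    [AddCommGroup V] [Module k V] [AddCommGroup W] [Module k W] [AddCommGroup U] [Module k U]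
    [FiniteDimensional k V] [FiniteDimensional k W] [FiniteDimensional k U] [Nontrivial V] [Nontrivial W]
    (B : V →ₗ[k] W →ₗ[k] U) (hB : ∀ v w, B v w = 0 → v = 0 ∨ w = 0) :
    Module.finrank k V + Module.finrank k W ≤ Module.finrank k U + 1 := by
  obtain ⟨a, ha⟩ : ∃ a, Module.finrank k V = a + 1 := ⟨_, (Nat.succ_pred (Module.finrank_pos (R := k) (M := V)).ne').symm⟩
  obtain ⟨b, hb⟩ : ∃ b, Module.finrank k W = b + 1 := ⟨_, (Nat.succ_pred (Module.finrank_pos (R := k) (M := W)).ne').symm⟩
  let bV := Module.finBasisOfFinrankEq k V ha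
  let bW := Module.finBasisOfFinrankEq k W hb
  let bU := Module.finBasis k U
  have key := le_of_no_common_zero a b (Module.finrank k U) (fun l i j => bU.repr (B (bV i) (bW j)) l)
    fun v w hvw => ?_
  · omega
  rcases hB (∑ i, v i • bV i) (∑ j, w j • bW j) (bU.repr.injective (Finsupp.ext fun l => by
    rw [map_zero, Finsupp.zero_apply]
    refine Eq.trans ?_ (hvw l)
    simp only [map_sum, map_smul, LinearMap.sum_apply, LinearMap.smul_apply, Finsupp.coe_finsetSum,
      Finset.sum_apply, Finsupp.coe_smul, Pi.smul_apply, smul_eq_mul]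
    rw [Finset.sum_comm]
    refine Finset.sum_congr rfl fun i _ => ?_
    rw [Finset.mul_sum]
    exact Finset.sum_congr rfl fun j _ => by ring)) with hv | hw
  · refine Or.inl (funext fun i => ?_)
    have := congrArg (fun x => bV.repr x i) hv
    simpa [Finsupp.single_apply] using this
  · refine Or.inr (funext fun j => ?_)
    have := congrArg (fun x => bW.repr x j) hw
    simpa [Finsupp.single_apply] using this

end Groth.Agent.CurveRR
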