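import Groth.Agent.CurveRR.Easy
import Groth.Agent.SymAlg.InvDual
import Groth.Agent.CohQC.QuasiAffine
import Groth.Agent.CohQC.Push

/-!
Rank two decomposable bundles; curves with a degree one pencil.
-/

set_option autoImplicit false
set_option backward.isDefEq.respectTransparency false
set_option linter.style.haveILetI false
set_option linter.unusedSectionVars false

universe u

open CategoryTheory CategoryTheory.Limits AlgebraicGeometry TopologicalSpace
open Groth.Agent.CohFinite Groth.Agent.CurveRR
open Groth.Agent.QC (res resO res_res res_self res_smul resO_resO resO_self section_eq_of_locally app_res)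

noncomputable section

namespace Groth.Agent.CurveRR.Easy

variable {k : Type u} [Field k] {X : Scheme.{u}} [X.Over (Spec (CommRingCat.of k))]
  [IsProper (X ↘ Spec (CommRingCat.of k))] [IsIntegral X]

theorem deg_le_zero_of_normalized (hdim : topologicalKrullDim X ≤ 1) {A B : X.Modules}
    (hA : PicF.IsInvertible A) (hB : PicF.IsInvertible B)
    (hneg : ∀ M : X.Modules, PicF.IsInvertible M → Curv2.deg k X M 1 < 0 →
      Subsingleton (Coh.HH X (CohB1.tensorMod (A ⊞ B) M) 0)) : Curv2.deg k X A 1 ≤ 0 := by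
  by_contra hh
  obtain ⟨J, hJ, ⟨e⟩⟩ := SymAlg.exists_inverse hA
  have hd := deg_tensor_inv (k := k) hdim hA hJ
  rw [Curv2.deg, euler_eq_of_iso e, ← Curv2.deg, deg_structure] at hd
  haveI := hneg J hJ (by omega)
  let S := ShortComplex.mk (biprod.inl : A ⟶ A ⊞ B) biprod.snd biprod.inl_snd
  have hS : S.ShortExact := (ShortComplex.Splitting.ofHasBinaryBiproduct A B).shortExact
  have : Subsingleton (Coh.HH X (CohB1.tensorMod A J) 0) :=
    (injective_f (k := k) (shortExact_tmap hJ hS)).subsingleton
  have : Subsingleton (Coh.HH X (Coh.structureModule X) 0) :=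
    ((hhEquiv k e 0).symm.toEquiv).subsingleton
  have hne : Nontrivial Γ(X, ⊤) := by
    haveI : Nonempty (⊤ : X.Opens) := ⟨⟨genericPoint X, trivial⟩⟩
    infer_instance
  exact not_subsingleton Γ(X, ⊤) ((secH0 (k := k) (Coh.structureModule X)).toEquiv.subsingleton)

theorem exists_structure_summand (hdim : topologicalKrullDim X ≤ 1) {E A B : X.Modules}
    (hA : PicF.IsInvertible A) (hB : PicF.IsInvertible B) (e : E ≅ A ⊞ B)
    (h0 : Nontrivial (Coh.HH X E 0))
    (hneg : ∀ M : X.Modules, PicF.IsInvertible M → Curv2.deg k X M 1 < 0 →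
      Subsingleton (Coh.HH X (CohB1.tensorMod E M) 0)) :
    ∃ L : X.Modules, PicF.IsInvertible L ∧ Curv2.deg k X L 1 ≤ 0 ∧ Nonempty (E ≅ Coh.structureModule X ⊞ L) := by
  have hneg' : ∀ {A B : X.Modules} (e : E ≅ A ⊞ B) (M : X.Modules), PicF.IsInvertible M →
      Curv2.deg k X M 1 < 0 → Subsingleton (Coh.HH X (CohB1.tensorMod (A ⊞ B) M) 0) := fun e M hM hd =>
    haveI := hneg M hM hd
    (hhEquiv k (PicGrp.tensorModIso e (Iso.refl M)) 0).symm.toEquiv.subsingleton
  have hcase : ∀ {A B : X.Modules}, PicF.IsInvertible A → PicF.IsInvertible B → (E ≅ A ⊞ B) →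
      Nontrivial (Coh.HH X A 0) → ∃ L : X.Modules, PicF.IsInvertible L ∧ Curv2.deg k X L 1 ≤ 0 ∧
        Nonempty (E ≅ Coh.structureModule X ⊞ L) := fun {A B} hA hB e hn => by
    haveI := finite_proper k X A (isCoh_of_inv hA) 0
    obtain ⟨s, hs⟩ := exists_section (k := k) (L := A) (by
      exact (Module.finrank_pos (R := k) (M := Coh.HH X A 0)).ne')
    have hdA := deg_le_zero_of_normalized (k := k) hdim hA hB (hneg' e)
    have hdB := deg_le_zero_of_normalized (k := k) hdim hB hA (hneg' (e ≪≫ biprod.braiding A B))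
    obtain ⟨i⟩ := nonempty_iso_of_section (k := k) hdim hA s hs hdA
    exact ⟨B, hB, hdB, ⟨e ≪≫ biprod.mapIso i (Iso.refl B)⟩⟩
  by_cases hn : Nontrivial (Coh.HH X A 0)
  · exact hcase hA hB e hn
  by_cases hn' : Nontrivial (Coh.HH X B 0)
  · exact hcase hB hA (e ≪≫ biprod.braiding A B) hn'
  rw [not_nontrivial_iff_subsingleton] at hn hn'
  haveI := Groth.Agent.CohQC.subsingleton_hh_biprod 0 hn hn'
  haveI := h0
  exact (not_subsingleton (Coh.HH X E 0) (hhEquiv k e 0).toEquiv.subsingleton).elim

theorem h0_structure_of_deg_one (hdim : topologicalKrullDim X ≤ 1) {L : X.Modules} (hL : PicF.IsInvertible L)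
    (s : Coh.structureModule X ⟶ L) (hs : s ≠ 0) (hdeg : Curv2.deg k X L 1 = 1) :
    h k (Coh.structureModule X) 0 = 1 := by
  haveI := isNoetherian_of_proper k X
  have hO : Coh.IsCoh (Coh.structureModule X) := RefStalk.isCoh_structureModule
  haveI := mono_of_ne_zero TMul.isInvertible_structureModule hL s hs
  have hC : Coh.IsCoh (cokernel s) := Groth.Agent.QC.isCoh_cokernel hO.1 (isCoh_of_inv hL) s
  have hcl := Groth.Agent.QC.isClosed_support hC.2
  have hd := dim_le_zero_of_closed hdim hcl (notMem_support_coker s _ (surjective_stalk_generic hL s hs))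
  have hS : (ShortComplex.mk s (cokernel.π s) (cokernel.condition s)).ShortExact :=
    { exact := ShortComplex.exact_cokernel s, mono_f := inferInstance, epi_g := inferInstance }
  have hχ := euler_add (k := k) hS hO (isCoh_of_inv hL) hC
  have hχQ : Curv2.euler k X (cokernel s) = 1 := by
    have h : Curv2.deg k X L 1 = 1 := hdeg
    rw [Curv2.deg] at h
    dsimp only at hχ
    push_cast at h
    omega
  letI := secMod k (cokernel s) ⊤
  have hQ0 : Module.finrank k Γ(cokernel s, ⊤) = 1 := by
    haveI : Finite (CohB1.support (cokernel s)) := (finite_of_dim_le_zero (k := k) hcl hd).to_subtype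
    have hv : ∀ i, 1 ≤ i → Subsingleton (Coh.HH X (cokernel s) i) := fun i hi =>
      SuppZero.subsingleton_hh_of_supported hcl hd _ (fun x hx h => hx h) i hi
    have := euler_eq_h0 (k := k) hv
    rw [finrank_sec]
    omega
  letI := secMod k (cokernel s) ⊤
  obtain ⟨q, hq, -⟩ := finrank_eq_one_iff'.mp hQ0
  haveI : Nontrivial Γ(X, ⊤) := by
    haveI : Nonempty (⊤ : X.Opens) := ⟨⟨genericPoint X, trivial⟩⟩
    infer_instance
  letI := secMod k (Coh.structureModule X) ⊤
  letI : Field Γ(X, ⊤) := (isField_of_universallyClosed k (X ↘ Spec (CommRingCat.of k))).toField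
  let φ : Γ(Coh.structureModule X, ⊤) →ₗ[k] Γ(cokernel s, ⊤) :=
    { toFun := fun a => HSMul.hSMul (α := Γ(X, ⊤)) a q
      map_add' := fun a b => (add_smul (show Γ(X, ⊤) from a) (show Γ(X, ⊤) from b) q :)
      map_smul' := fun a b => (mul_smul (cst k X ⊤ a) (show Γ(X, ⊤) from b) q :) }
  have hφ : Function.Injective φ := (injective_iff_map_eq_zero _).mpr fun (a : Γ(X, ⊤)) ha => by
    by_contra h
    exact hq ((smul_eq_zero_iff_right (R := Γ(X, ⊤)) h).mp ha)
  haveI : Module.Finite k Γ(cokernel s, ⊤) := Module.finite_of_finrank_pos (by omega)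
  haveI := finite_proper k X (Coh.structureModule X) hO 0
  have hle := LinearMap.finrank_le_finrank_of_injective hφ
  have hpos : 0 < Module.finrank k Γ(Coh.structureModule X, ⊤) := by
    haveI : Module.Finite k Γ(Coh.structureModule X, ⊤) :=
      Module.Finite.equiv (secH0 (k := k) (Coh.structureModule X)).symm
    haveI : Nontrivial Γ(Coh.structureModule X, ⊤) := ‹Nontrivial Γ(X, ⊤)›
    exact Module.finrank_pos
  rw [finrank_sec] at hpos hle
  omega

end Groth.Agent.CurveRR.Easy
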