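import Groth.Agent.DualGeneric.PushDeg
import Groth.Agent.Unibranch.ComponentDim
import Groth.Agent.QC.Coherent
import Groth.Agent.WeakAssLib.Stalk
import Groth.Agent.Devissage.Support

/-!
# Degrees along birational morphisms of schemes of dimension at most one
-/

set_option autoImplicit false
set_option backward.isDefEq.respectTransparency false
set_option backward.isDefEq.respectTransparency.types false
set_option linter.style.haveILetI false
set_option linter.unusedSectionVars false

universe u

open CategoryTheory CategoryTheory.Limits AlgebraicGeometry TopologicalSpace Opposite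
open Groth.Agent.WeakAssLib

noncomputable section

namespace Groth.Agent.CurveRR

/-- The complement of a dense open of a noetherian scheme of dimension at most one has dimension at most zero. -/
theorem dim_compl_le_zero {X : Scheme.{u}} [IsNoetherian X] (hdim : topologicalKrullDim X ≤ 1) {U : X.Opens}
    (hU : Dense (U : Set X)) : topologicalKrullDim ((U : Set X)ᶜ : Set X) ≤ 0 := by
  have hfin : {m : X | Unibranch.IsMaxPt m}.Finite := by
    refine Set.Finite.of_finite_image (f := fun m => closure ({m} : Set X))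
      ((NoetherianSpace.finite_irreducibleComponents (α := X)).subset ?_) fun a _ b _ h => Unibranch.eq_of_closure_eq h
    rintro _ ⟨m, hm, rfl⟩
    exact Unibranch.IsMaxPt.mem_irreducibleComponents hm
  have hmem : ∀ m : X, Unibranch.IsMaxPt m → m ∈ U := by
    intro m hm
    by_contra hmU
    let C : Set X := ⋃ n ∈ {n : X | Unibranch.IsMaxPt n} \ {m}, closure {n}
    have hC : IsClosed C := (hfin.subset Set.sdiff_subset).isClosed_biUnion fun _ _ => isClosed_closure
    have hsub : (U : Set X) ⊆ C := fun y hy => by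
      obtain ⟨n, hn, hny⟩ := Unibranch.exists_isMaxPt_specializes y
      refine Set.mem_biUnion ⟨hn, fun hnm : n = m => hmU ?_⟩ hny.mem_closure
      exact hnm ▸ hny.mem_open U.2 hy
    obtain ⟨n, ⟨hn, hne⟩, hmn⟩ := Set.mem_iUnion₂.mp (closure_minimal hsub hC (hU m))
    exact hne (hm n (specializes_iff_mem_closure.mpr hmn)).symm.symm
  have hcl : IsClosed ((U : Set X)ᶜ) := U.isOpen.isClosed_compl
  haveI : QuasiSober ((U : Set X)ᶜ : Set X) := hcl.isClosedEmbedding_subtypeVal.quasiSober
  refine le_of_le_of_eq ?_ (Nat.cast_zero (R := WithBot ℕ∞))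
  refine Unibranch.topologicalKrullDim_le_natCast fun l c hc => ?_
  obtain ⟨η, hη, hη0⟩ := Unibranch.exists_isMaxPt_specializes (c 0).1
  have h1 := Unibranch.natCast_le_topologicalKrullDim (Fin.cons η fun i => (c i).1) fun i => by
      refine Fin.cases ?_ (fun j => ?_) i
      · refine ⟨hη0, fun h => ?_⟩
        simp only [Fin.castSucc_zero, Fin.cons_zero, Fin.cons_succ] at h
        exact (c 0).2 (h ▸ hmem η hη)
      · simp only [← Fin.succ_castSucc, Fin.cons_succ]
        exact ⟨(subtype_specializes_iff _ _).mp (hc j).1, fun h => (hc j).2 (Subtype.ext h)⟩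
  have h2 := h1.trans hdim
  exact Nat.succ_le_succ_iff.mp (CartierDim.natCast_le_withBot.mp (h2.trans_eq Nat.cast_one.symm))

variable (k : Type u) [Field k] {X X' : Scheme.{u}} [X.Over (Spec (CommRingCat.of k))]
  [X'.Over (Spec (CommRingCat.of k))] [IsProper (X ↘ Spec (CommRingCat.of k))] [IsProper (X' ↘ Spec (CommRingCat.of k))]

/-- Birational morphisms preserve degrees. -/
theorem deg_pullback_birational (hdim : topologicalKrullDim X ≤ 1) (hdim' : topologicalKrullDim X' ≤ 1)
    (f : X' ⟶ X) (hf : f ≫ (X ↘ Spec (CommRingCat.of k)) = X' ↘ Spec (CommRingCat.of k))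
    (U : X.Opens) (hU : Dense (U : Set X)) (hU' : Dense ((f ⁻¹ᵁ U : X'.Opens) : Set X')) [IsIso (f ∣_ U)]
    {n : ℕ} {E : X.Modules} (hE : FlatMod.IsFinLocFreeOfRank n E) :
    Curv2.deg k X' ((Scheme.Modules.pullback f).obj E) n = Curv2.deg k X E n := by
  haveI := isNoetherian_of_proper k X
  haveI := isNoetherian_of_proper k X'
  haveI : IsProper (f ≫ (X ↘ Spec (CommRingCat.of k))) := by rw [hf]; infer_instance
  haveI : IsProper f := IsProper.of_comp f (X ↘ Spec (CommRingCat.of k))
  have hC := dim_compl_le_zero hdim hU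
  have hC' := dim_compl_le_zero hdim' hU'
  haveI : LocallyQuasiFinite f := by
    refine LocallyQuasiFinite.of_finite_preimage_singleton _ fun y => ?_
    by_cases hy : y ∈ U
    · refine Set.Subsingleton.finite fun a (ha : f a = y) b (hb : f b = y) => ?_
      have hinj : Function.Injective (f ∣_ U) := (f ∣_ U).homeomorph.injective
      have hca : ∀ z : f ⁻¹ᵁ U, U.ι ((f ∣_ U) z) = f z.1 := fun z => by
        rw [← Scheme.Hom.comp_apply, morphismRestrict_ι, Scheme.Hom.comp_apply]; rfl
      have e : (⟨a, show f a ∈ U from ha.symm ▸ hy⟩ : f ⁻¹ᵁ U) = ⟨b, show f b ∈ U from hb.symm ▸ hy⟩ :=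
        hinj (U.ι.isOpenEmbedding.injective (by rw [hca, hca]; exact ha.trans hb.symm))
      exact congrArg Subtype.val e
    · refine (finite_of_dim_le_zero (k := k) (f ⁻¹ᵁ U).isOpen.isClosed_compl hC').subset fun a ha h => hy ?_
      exact (show f a = y from ha) ▸ h
  haveI : IsFinite f := IsFinite.of_isProper_of_locallyQuasiFinite _
  let OX := Coh.structureModule X'
  let O := Coh.structureModule X
  let P := (Scheme.Modules.pushforward f).obj OX
  have hP : Coh.IsCoh P := by
    haveI : (Coh.structureModule X').IsQuasicoherent := Groth.Agent.QC.isQCoh_unit _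
    exact ⟨Groth.Agent.QC.isQCoh_pushforward f,
      (Groth.Agent.QC.isCoh_pushforward_of_isFinite (M := OX) f RefStalk.isCoh_structureModule.2).2⟩
  have hO : Coh.IsCoh O := RefStalk.isCoh_structureModule
  haveI := Groth.Agent.S0927.isIso_proj f E (fun y => let ⟨W, h1, h2⟩ := hE y; ⟨W, n, h1, h2⟩) OX
  have hEc := isCoh_of_rank hE
  have hq : Coh.IsQCoh (CohB1.tensorMod ((Scheme.Modules.pullback f).obj E) OX) :=
    (isCoh_tensor' (isCoh_of_rank (Multi.isFinLocFreeOfRank_pullback f hE)) RefStalk.isCoh_structureModule).1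
  have h1 : Curv2.euler k X' ((Scheme.Modules.pullback f).obj E) = Curv2.euler k X (CohB1.tensorMod E P) := by
    rw [euler_eq_of_iso (asIso (Groth.Agent.S0927.proj f E OX)), EulerMult.euler_push_affine f hf _ hq]
    exact euler_eq_of_iso ((TMul.commIso _ OX ≪≫ TMul.leftUnitIso _).symm)
  have h2 : Curv2.euler k X P = Curv2.euler k X' OX :=
    EulerMult.euler_push_affine f hf _ (Groth.Agent.QC.isQCoh_unit X')
  let u : O ⟶ P := ClSub.unitToPush f
  have happ : ∀ V : X.Opens, V ≤ U → Function.Bijective (f.app V) := by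
    intro V hV
    have e : U.ι ''ᵁ (U.ι ⁻¹ᵁ V) = V := by
      rw [Scheme.Hom.image_preimage_eq_opensRange_inf, Scheme.Opens.opensRange_ι, inf_eq_right.2 hV]
    haveI : IsIso ((f ∣_ U).app (U.ι ⁻¹ᵁ V)) := inferInstance
    rw [morphismRestrict_app] at this
    haveI := IsIso.of_isIso_comp_right (f.app (U.ι ''ᵁ (U.ι ⁻¹ᵁ V))) (X'.presheaf.map (eqToHom (image_morphismRestrict_preimage f U (U.ι ⁻¹ᵁ V))).op)
    haveI : IsIso (f.app V) := e ▸ (inferInstance : IsIso (f.app (U.ι ''ᵁ (U.ι ⁻¹ᵁ V))))
    exact ConcreteCategory.bijective_of_isIso (f.app V)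
  have hst : ∀ y ∈ U, Function.Bijective (stalkHom u y) := by
    intro y hy
    refine ⟨(injective_iff_map_eq_zero _).2 fun z hz => ?_, fun z => ?_⟩
    · obtain ⟨W, hW, a, rfl⟩ := O.presheaf.exists_germ_eq (x := y) z
      have hz' : mgerm P hW (u.app W a) = 0 := by rw [← stalkHom_germ]; exact hz
      obtain ⟨D, hyD, i, i', hD⟩ := TopCat.Presheaf.germ_eq P.presheaf y hW hW _ 0 (hz'.trans (map_zero _).symm)
      have hle : D ⊓ U ≤ W := inf_le_left.trans i.le
      show mgerm O hW a = 0
      rw [← mgerm_res O hle (⟨hyD, hy⟩ : y ∈ D ⊓ U)]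
      have h0 : u.app (D ⊓ U) (Groth.Agent.QC.res O hle a) = 0 := by
        rw [← Groth.Agent.QC.app_res, ← Groth.Agent.QC.res_res P (inf_le_left : D ⊓ U ≤ D) i.le,
          show Groth.Agent.QC.res P i.le (u.app W a) = 0 from hD.trans (map_zero _), map_zero]
      rw [show Groth.Agent.QC.res O hle a = 0 from
        (happ (D ⊓ U) inf_le_right).1 (h0.trans (map_zero (f.app (D ⊓ U)).hom).symm), map_zero]
    · obtain ⟨W, hW, a, rfl⟩ := P.presheaf.exists_germ_eq (x := y) z
      obtain ⟨b, hb⟩ := (happ (W ⊓ U) inf_le_right).2 (Groth.Agent.QC.res P (inf_le_left : W ⊓ U ≤ W) a)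
      refine ⟨mgerm O (⟨hW, hy⟩ : y ∈ W ⊓ U) b, ?_⟩
      show stalkHom u y (mgerm O _ b) = mgerm P hW a
      rw [stalkHom_germ, ← mgerm_res P (inf_le_left : W ⊓ U ≤ W) (⟨hW, hy⟩ : y ∈ W ⊓ U) a]
      exact congrArg _ hb
  let φ : X.Modules → ℤ := fun F => Curv2.euler k X (CohB1.tensorMod F E) - n * Curv2.euler k X F
  have hadd : ∀ {S : ShortComplex X.Modules}, S.ShortExact → Coh.IsCoh S.X₁ → Coh.IsCoh S.X₂ → Coh.IsCoh S.X₃ →
      φ S.X₂ = φ S.X₁ + φ S.X₃ := by
    intro S hS a b c
    have hT := shortExact_tmapR (hasFrames_of_rank hE) hS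
    have x := euler_add (k := k) hT (isCoh_tensor' a hEc) (isCoh_tensor' b hEc) (isCoh_tensor' c hEc)
    have y := euler_add (k := k) hS a b c
    change Curv2.euler k X (CohB1.tensorMod S.X₂ E) =
      Curv2.euler k X (CohB1.tensorMod S.X₁ E) + Curv2.euler k X (CohB1.tensorMod S.X₃ E) at x
    simp only [φ, x, y]
    ring
  have hzero : ∀ F : X.Modules, Coh.IsCoh F → CohB1.support F ⊆ (U : Set X)ᶜ → φ F = 0 := fun F hF hs => by
    simp only [φ]
    rw [euler_eq_of_iso (TMul.commIso F E), euler_tensor_zeroDim (k := k) hF U.isOpen.isClosed_compl hC hs hE,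
      sub_self]
  have hQ : Coh.IsCoh (cokernel u) := Groth.Agent.QC.isCoh_cokernel hO.1 hP u
  have hK : Coh.IsCoh (kernel u) := Groth.Agent.QC.isCoh_kernel hO hP.1 u
  have hI : Coh.IsCoh (Abelian.image u) := Groth.Agent.QC.isCoh_kernel hP hQ.1 _
  have hKs : CohB1.support (kernel u) ⊆ (U : Set X)ᶜ := fun y hy hyU => hy ⟨fun a b => by
    refine stalkHom_injective (kernel.ι u) y ((hst y hyU).1 ?_)
    have h0 : ∀ z, stalkHom u y (stalkHom (kernel.ι u) y z) = 0 := fun z => by
      obtain ⟨W, hW, c, rfl⟩ := (kernel u).presheaf.exists_germ_eq (x := y) z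
      show stalkHom u y (stalkHom (kernel.ι u) y (mgerm (kernel u) hW c)) = 0
      rw [stalkHom_germ, stalkHom_germ, show u.app W ((kernel.ι u).app W c) = (kernel.ι u ≫ u).app W c from rfl,
        kernel.condition]
      exact map_zero _
    rw [h0, h0]⟩
  have s1 : (ShortComplex.mk (kernel.ι u) (Abelian.factorThruImage u)
      (by rw [← cancel_mono (Abelian.image.ι u), Category.assoc, Abelian.image.fac, zero_comp, kernel.condition])).ShortExact :=
    { exact := ShortComplex.exact_of_f_is_kernel _ (KernelFork.IsLimit.ofι _ _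
        (fun g hg => kernel.lift u g (by rw [← Abelian.image.fac u, reassoc_of% hg, zero_comp]))
        (fun g hg => kernel.lift_ι _ _ _)
        fun g hg m hm => by rw [← cancel_mono (kernel.ι u), kernel.lift_ι]; exact hm) }
  have s2 : (ShortComplex.mk (Abelian.image.ι u) (cokernel.π u) (kernel.condition _)).ShortExact :=
    { exact := ShortComplex.exact_of_f_is_kernel _ (kernelIsKernel (cokernel.π u)) }
  have hQs : CohB1.support (cokernel u) ⊆ (U : Set X)ᶜ := fun y hy hyU =>
    Devissage.notMem_support_of_surjective _ s2 y (fun m => by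
      obtain ⟨c, rfl⟩ := (hst y hyU).2 m
      obtain ⟨W, hW, c, rfl⟩ := O.presheaf.exists_germ_eq (x := y) c
      refine ⟨stalkHom (Abelian.factorThruImage u) y (mgerm O hW c), ?_⟩
      show stalkHom (Abelian.image.ι u) y (stalkHom (Abelian.factorThruImage u) y (mgerm O hW c)) = stalkHom u y (mgerm O hW c)
      rw [stalkHom_germ, stalkHom_germ, stalkHom_germ,
        show (Abelian.image.ι u).app W ((Abelian.factorThruImage u).app W c) =
          (Abelian.factorThruImage u ≫ Abelian.image.ι u).app W c from rfl, Abelian.image.fac]) hy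
  have a1 := hadd s1 hK hO hI
  have a2 := hadd s2 hI hP hQ
  change φ O = φ (kernel u) + φ (Abelian.image u) at a1
  change φ P = φ (Abelian.image u) + φ (cokernel u) at a2
  rw [hzero _ hK hKs, zero_add] at a1
  rw [hzero _ hQ hQs, add_zero] at a2
  have a3 : φ O = φ P := a1.trans a2.symm
  simp only [φ] at a3
  rw [euler_eq_of_iso (TMul.leftUnitIso E), euler_eq_of_iso (TMul.commIso P E), ← h1, h2] at a3
  rw [Curv2.deg, Curv2.deg]
  exact a3.symm

end Groth.Agent.CurveRR
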